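import Cfsg.Agent.Lib.Fusion.Product.Amb
import Cfsg.Agent.Lib.Fusion.Model.Local
import Cfsg.Agent.Lib.Fusion.Induction

/-!
The normalizer systems used to build local groups, and the elements inducing automorphisms of `E`.
-/

set_option autoImplicit false
set_option linter.unusedSectionVars false
set_option linter.style.haveILetI false

namespace Cfsg.FusionSystem.Product

open Cfsg.FusionSystem.SubCent (isIso_self image_self map_centralizer)

universe u

variable {Ω : Type u} [Group Ω] {S T : Subgroup Ω} {F : FusionSystem S} {E : FusionSystem T}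
  {P Q R U V : Subgroup Ω} {f g : Ω → Ω} {p : ℕ}

/-- A map between subgroups of `N_S(U)` carrying `U` to itself is a map of the normalizer system. -/
theorem mem_normalizerSystem [Finite S] (hU : U ≤ S) (hf : F.IsIso P Q f) (hP : P ≤ normalizerIn S U)
    (hQ : Q ≤ normalizerIn S U) (hUP : U ≤ P) (hm : ∀ x ∈ U, f x ∈ U) :
    (F.normalizerSystem U hU).IsIso P Q f := by
  obtain ⟨φ, hφ, hr, he⟩ := id hf
  have hle : P ⊔ U ≤ P := sup_le le_rfl hUP
  refine ⟨φ, ⟨hφ, hP, fun x => hQ (hr.le ⟨x, rfl⟩), φ.comp (Subgroup.inclusion hle), F.restrict_mem hφ hle,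
    fun x => rfl, ?_⟩, hr, he⟩
  ext y
  constructor
  · rintro ⟨⟨x, hx⟩, hxU, rfl⟩
    show φ ⟨x, _⟩ ∈ U
    rw [he]
    exact hm x hxU
  · intro hy
    obtain ⟨x, hx, rfl⟩ := (image_self hf hUP hm y).mp hy
    exact ⟨⟨x, Subgroup.mem_sup_right hx⟩, hx, he ⟨x, _⟩⟩

theorem normalizerSystem_le (hU : U ≤ S) : (F.normalizerSystem U hU).IsSubsystemOf F := fun _ _ h => h.1

/-- A map of the normalizer system preserves `U`. -/
theorem normalizerSystem_pres (hU : U ≤ S) (hf : (F.normalizerSystem U hU).IsIso P Q f) (hUP : U ≤ P)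
    {x : Ω} (hx : x ∈ U) : f x ∈ U := by
  obtain ⟨φ, ⟨-, -, -, ψ, -, hψe, hψU⟩, -, he⟩ := hf
  have h1 : ψ (Subgroup.inclusion le_sup_left ⟨x, hUP hx⟩) ∈ U := hψU.le ⟨_, hx, rfl⟩
  rwa [hψe, he] at h1

/-- The join of `U` and its centraliser is normalised by `N_S(U)`. -/
theorem normalizerIn_ext {x : Ω} (hx : x ∈ normalizerIn S U) :
    x ∈ normalizerIn (normalizerIn S U) (U ⊔ centralizerIn S U) := by
  refine ⟨hx, ?_⟩
  have hm : ∀ a ∈ normalizerIn S U, ∀ y ∈ U ⊔ centralizerIn S U, a * y * a⁻¹ ∈ U ⊔ centralizerIn S U := by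
    intro a ha
    have hle : U ⊔ centralizerIn S U ≤ (U ⊔ centralizerIn S U).comap (MulAut.conj a).toMonoidHom := by
      refine sup_le (fun y hy => Subgroup.mem_sup_left ?_) fun y hy => Subgroup.mem_sup_right ?_
      · exact (Subgroup.mem_normalizer_iff.mp ha.2 y).mp hy
      · exact (Subgroup.mem_normalizer_iff.mp (Wedge.conj_centralizerIn ha) y).mp hy
    exact fun y hy => hle hy
  refine Subgroup.mem_normalizer_iff.mpr fun y => ⟨hm x hx y, fun hy => ?_⟩
  have := hm x⁻¹ ((normalizerIn S U).inv_mem hx) _ hy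
  simpa [mul_assoc] using this

/-- The normalizer of `U C_S(U)` in `N_F(U)` has a model. -/
theorem normalizer_setup_ext [Finite S] [Fact p.Prime] (hS : IsPGroup p S) (hF : F.IsSaturated p)
    (hn : F.IsFullyNormalized U) :
    ∃ _ : Finite ↥(normalizerIn (normalizerIn S U) (U ⊔ centralizerIn S U)), ∀ hW : U ⊔ centralizerIn S U ≤ normalizerIn S U,
      ModelSetup ((F.normalizerSystem U hn.1).normalizerSystem (U ⊔ centralizerIn S U) hW) p (U ⊔ centralizerIn S U) := by
  haveI := finite_normalizerIn (S := S) (P := U)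
  refine ⟨finite_normalizerIn, fun hW => ?_⟩
  set N1 := F.normalizerSystem U hn.1
  set W := U ⊔ centralizerIn S U
  have hN1p : IsPGroup p (normalizerIn S U) := hS.to_le normalizerIn_le
  have hN1s : N1.IsSaturated p := hF.isSaturated_normalizerSystem hS hn (fun _ => rfl)
  have hWn : N1.IsFullyNormalized W := isFullyNormalized_of_le_normalizer hW fun x hx => (normalizerIn_ext hx).2
  have hWc : N1.IsCentric W := by
    refine ⟨hW, fun Q hQ => ?_⟩
    obtain ⟨φ, hφ, hr⟩ := hQ
    have hf : N1.IsIso W Q (funOf φ) := hr ▸ isIso_funOf hφ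
    have hfF := hf.mono (normalizerSystem_le hn.1)
    have hU : ∀ x ∈ U, funOf φ x ∈ U := fun x hx => normalizerSystem_pres hn.1 hf le_sup_left hx
    have himg := image_self hfF le_sup_left hU
    haveI := finite_of_le (hW.trans normalizerIn_le : W ≤ S)
    have hQW : Q ≤ W := by
      have e := SubCent.sup_image hfF le_sup_left le_sup_right himg
        (B' := centralizerIn S U) (image_self hfF le_sup_right fun c hc =>
          map_centralizer hfF le_sup_left himg hc (Subgroup.mem_sup_right hc))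
      intro y hy
      obtain ⟨x, hx, rfl⟩ := hfF.surj hy
      exact e.mem hx
    have heq : Q = W := Subgroup.eq_of_le_of_card_ge hQW hfF.card_eq.le
    rw [heq]
    exact fun c hc => Subgroup.mem_sup_right ⟨hc.1.1, Subgroup.centralizer_le (SetLike.coe_subset_coe.mpr le_sup_left) hc.2⟩
  exact hN1s.normalizer_setup hN1p hWn hWc (fun _ => rfl)

/-- Elements of `N_S(U)` inducing on `U` an automorphism of `E`, `U` fully normalised in `E`. -/
theorem exists_split [Finite S] [Fact p.Prime] (hc : Setup F p E) (hn : E.IsFullyNormalized U) {s : Ω}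
    (hs : s ∈ normalizerIn S U) {a : Ω → Ω} (ha : E.IsIso U U a) (he : ∀ x ∈ U, a x = s * x * s⁻¹) :
    ∃ t ∈ normalizerIn T U, ∃ c ∈ centralizerIn S U, s = t * c := by
  have hUT := hn.1
  haveI := hc.finT
  haveI := finite_autGroup (F := E) hUT
  obtain ⟨-, P, hP⟩ := hc.esat.isFullyAutomized_of_isFullyNormalized hc.tgroup hn
  obtain ⟨α, hα, hαe⟩ := ha.toAut
  have hαS : α ∈ autInducedBy S U := mem_autInducedBy_iff.mpr ⟨s, hs.1, hs.2, fun x => (hαe x).trans (he x x.2)⟩
  let X : Subgroup (E.autGroup U) := (autInducedBy S U).subgroupOf (E.autGroup U)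
  have hXp : IsPGroup p X := (isPGroup_autInducedBy hc.pgroup).comap_of_injective _ Subtype.coe_injective
  have hle : (P : Subgroup (E.autGroup U)) ≤ X := fun b hb =>
    autInducedBy_mono hc.le_S (hP.le hb : (b : MulAut U) ∈ autInducedBy T U)
  have heq := P.3 hXp hle
  obtain ⟨t, ht, htn, hte⟩ := mem_autInducedBy_iff.mp
    (hP.le (heq.le (show (⟨α, hα⟩ : E.autGroup U) ∈ X from hαS)) : α ∈ autInducedBy T U)
  refine ⟨t, ⟨ht, htn⟩, t⁻¹ * s, ⟨S.mul_mem (S.inv_mem (hc.le_S ht)) hs.1,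
    Subgroup.mem_centralizer_iff.mpr fun x hx => ?_⟩, by group⟩
  have h1 : s * x * s⁻¹ = t * x * t⁻¹ := ((he x hx).symm.trans (hαe ⟨x, hx⟩).symm).trans (hte ⟨x, hx⟩)
  calc x * (t⁻¹ * s) = t⁻¹ * (t * x * t⁻¹) * s := by group
    _ = t⁻¹ * s * x := by rw [← h1]; group

/-- For `R` fully normalised in `E`, maps of `F` carry `N_T(R)` onto the normaliser of the image. -/
theorem normalizer_onto [Finite S] (hc : Setup F p E) (hn : E.IsFullyNormalized R) {ψ : Ω → Ω} {D : Subgroup Ω}
    (hψ : F.IsIso (normalizerIn S R) D ψ) (hU : ∀ y, y ∈ U ↔ ∃ x ∈ R, ψ x = y) {y : Ω}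
    (hy : y ∈ normalizerIn T U) : ∃ x ∈ normalizerIn T R, ψ x = y := by
  haveI := hc.finT
  have hRT := hn.1
  have hRN : R ≤ normalizerIn S R := fun x hx => ⟨hc.le_S (hRT hx), Subgroup.le_normalizer hx⟩
  have hiso : F.IsIso R U ψ := hψ.restrict' hRN hU
  have hm : ∀ x ∈ normalizerIn T R, ψ x ∈ normalizerIn T U := fun x hx =>
    ⟨hc.closed.iso_mem hψ ⟨hc.le_S hx.1, hx.2⟩ hx.1, hψ.mem_normalizer hRN hU ⟨hc.le_S hx.1, hx.2⟩ hx.2⟩
  obtain ⟨a, R₀, e, ha, he, -, hR₀⟩ := hc.inv.frattini_iso hiso hRT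
  obtain ⟨ai, hai, -, hair⟩ := ha.symm
  haveI := finite_normalizerIn (S := T) (P := U)
  haveI := finite_normalizerIn (S := T) (P := R₀)
  have hcard : Nat.card (normalizerIn T U) ≤ Nat.card (normalizerIn T R) := by
    refine le_trans ?_ (hn.2 R₀ he.isConj)
    have hm2 : ∀ z ∈ normalizerIn T U, ai z ∈ normalizerIn T R₀ := fun z hz => by
      refine ⟨hai.mem hz.1, hai.mem_normalizer (hc.closed.iso_le hiso hRT) (fun w => ?_) hz.1 hz.2⟩
      constructor
      · intro hw
        refine ⟨a w, (hR₀ _).mpr ⟨w, hw, rfl⟩, ?_⟩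
        exact ha.inj (hai.mem (ha.mem (he.le_right hw))) (he.le_right hw) (hair _ (ha.mem (he.le_right hw)))
      · rintro ⟨z', hz', rfl⟩
        obtain ⟨w, hw, rfl⟩ := (hR₀ z').mp hz'
        rwa [ha.inj (hai.mem (ha.mem (he.le_right hw))) (he.le_right hw) (hair _ (ha.mem (he.le_right hw)))]
    exact Nat.card_le_card_of_injective (fun z : normalizerIn T U => (⟨ai z, hm2 z z.2⟩ : normalizerIn T R₀))
      fun z z' h => Subtype.ext (hai.inj z.2.1 z'.2.1 (congrArg Subtype.val h))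
  let i : normalizerIn T R → normalizerIn T U := fun x => ⟨ψ x, hm x x.2⟩
  haveI := finite_normalizerIn (S := T) (P := R)
  have hi : Function.Injective i := fun x x' h =>
    Subtype.ext (hψ.inj ⟨hc.le_S x.2.1, x.2.2⟩ ⟨hc.le_S x'.2.1, x'.2.2⟩ (congrArg Subtype.val h))
  obtain ⟨x, hx⟩ := (hi.bijective_of_nat_card_le hcard).2 ⟨y, hy⟩
  exact ⟨x, x.2, congrArg Subtype.val hx⟩

end Cfsg.FusionSystem.Product
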