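import Cfsg.Agent.Lib.Fusion.Product.Basic

/-!
The crude system of maps acting as an element of `S` modulo `T` and as that element after a map of `E` on the
part in `T`, and the system generated by the automorphisms of order prime to `p` among them.
-/

set_option autoImplicit false
set_option linter.unusedSectionVars false
set_option linter.style.haveILetI false

namespace Cfsg.FusionSystem.Product

open Cfsg.FusionSystem.SubCent (isIso_self iterate_isIso)

universe u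

variable {Ω : Type u} [Group Ω] {S T : Subgroup Ω} {F : FusionSystem S} {E : FusionSystem T}
  {P Q R U V : Subgroup Ω} {f g : Ω → Ω} {p : ℕ}

/-- `f` acts on `P` as `s` modulo `T`, and on the part in `T` as `s` after a map of `E`. -/
def AmbBy (E : FusionSystem T) (s : Ω) (P : Subgroup Ω) (f : Ω → Ω) : Prop :=
  (∀ x ∈ P, (s * x * s⁻¹)⁻¹ * f x ∈ T) ∧
    ∃ (e : Ω → Ω) (Q : Subgroup Ω), E.IsIso (P ⊓ T) Q e ∧ ∀ x ∈ P ⊓ T, f x = s * e x * s⁻¹

/-- The condition on maps of the crude system. -/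
def InAmb (E : FusionSystem T) (S P : Subgroup Ω) (f : Ω → Ω) : Prop := ∃ s ∈ S, AmbBy E s P f

theorem AmbBy.congr {s : Ω} (h : AmbBy E s P f) (he : ∀ x ∈ P, g x = f x) : AmbBy E s P g := by
  obtain ⟨h1, e, Q, h2, h3⟩ := h
  exact ⟨fun x hx => by rw [he x hx]; exact h1 x hx, e, Q, h2, fun x hx => (he x hx.1).trans (h3 x hx)⟩

theorem InAmb.congr (h : InAmb E S P f) (he : ∀ x ∈ P, g x = f x) : InAmb E S P g := by
  obtain ⟨s, hs, h⟩ := h
  exact ⟨s, hs, h.congr he⟩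

theorem AmbBy.restrict {s : Ω} (h : AmbBy E s P f) (hR : R ≤ P) : AmbBy E s R f := by
  obtain ⟨h1, e, Q, h2, h3⟩ := h
  obtain ⟨Q', hQ', -, -⟩ := h2.restrict (inf_le_inf_right T hR)
  exact ⟨fun x hx => h1 x (hR hx), e, Q', hQ', fun x hx => h3 x (inf_le_inf_right T hR hx)⟩

section

variable (hc : Setup F p E)
include hc

theorem ambBy_id (hP : P ≤ S) : AmbBy E 1 P (fun x => x) :=
  ⟨fun x _ => by simp, fun x => x, P ⊓ T, IsIso.refl E inf_le_right, fun x _ => by simp⟩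

theorem ambBy_conj {s : Ω} : AmbBy E s P (fun x => s * x * s⁻¹) :=
  ⟨fun x _ => by rw [inv_mul_cancel]; exact T.one_mem, fun x => x, P ⊓ T, IsIso.refl E inf_le_right, fun x _ => rfl⟩

theorem AmbBy.comp {s s' : Ω} (hs : s ∈ S) (hs' : s' ∈ S) (hf : F.IsIso P Q f) (hfa : AmbBy E s P f)
    (hga : AmbBy E s' Q g) : AmbBy E (s' * s) P (fun x => g (f x)) := by
  obtain ⟨h1, e, A, he, hfe⟩ := hfa
  obtain ⟨h1', e', B, he', hge⟩ := hga
  refine ⟨fun x hx => ?_, ?_⟩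
  · have a1 := h1' _ (hf.mem hx)
    have a2 := hc.conj_mem hs' (h1 x hx)
    have := T.mul_mem a2 a1
    show (s' * s * x * (s' * s)⁻¹)⁻¹ * g (f x) ∈ T
    convert this using 1
    group
  · obtain ⟨e'', he'', he''e⟩ := conj_transport hc.inv (S.inv_mem hs) he'
    have hA : ∀ y, y ∈ (Q ⊓ T).map (MulAut.conj s⁻¹).toMonoidHom ↔ ∃ x ∈ P ⊓ T, e x = y := by
      intro y
      rw [mem_map_conj]
      constructor
      · rintro ⟨z, hz, rfl⟩
        obtain ⟨x, hx, rfl⟩ := (inter_image hc.closed hf z).mp hz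
        exact ⟨x, hx, by rw [hfe x hx]; group⟩
      · rintro ⟨x, hx, rfl⟩
        exact ⟨f x, (inter_image hc.closed hf _).mpr ⟨x, hx, rfl⟩, by rw [hfe x hx]; group⟩
    have h2 := he.restrict' le_rfl hA
    refine ⟨_, _, h2.comp he'', fun x hx => ?_⟩
    have hm : f x ∈ Q ⊓ T := (inter_image hc.closed hf _).mpr ⟨x, hx, rfl⟩
    have h3 := he''e _ hm
    rw [inv_inv, show s⁻¹ * f x * s = e x by rw [hfe x hx]; group] at h3
    show g (f x) = s' * s * e'' (e x) * (s' * s)⁻¹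
    rw [h3, hge _ hm]
    group

theorem AmbBy.inv {s : Ω} (hs : s ∈ S) (hf : F.IsIso P Q f) (hfa : AmbBy E s P f) {k : Ω → Ω}
    (hk : ∀ x ∈ P, k (f x) = x) : AmbBy E s⁻¹ Q k := by
  obtain ⟨h1, e, A, he, hfe⟩ := hfa
  refine ⟨fun y hy => ?_, ?_⟩
  · obtain ⟨x, hx, rfl⟩ := hf.surj hy
    rw [hk x hx, inv_inv]
    have := hc.conj_mem' hs (T.inv_mem (h1 x hx))
    convert this using 1
    group
  · obtain ⟨ei, hei, hel, -⟩ := he.symm
    obtain ⟨e₂, he₂, he₂e⟩ := conj_transport hc.inv hs hei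
    have hA : A.map (MulAut.conj s).toMonoidHom = Q ⊓ T := by
      ext y
      rw [mem_map_conj, inter_image hc.closed hf]
      constructor
      · rintro ⟨z, hz, rfl⟩
        obtain ⟨x, hx, rfl⟩ := he.surj hz
        exact ⟨x, hx, hfe x hx⟩
      · rintro ⟨x, hx, rfl⟩
        exact ⟨e x, he.mem hx, (hfe x hx).symm⟩
    refine ⟨e₂, _, hA ▸ he₂, fun y hy => ?_⟩
    obtain ⟨x, hx, rfl⟩ := (inter_image hc.closed hf y).mp hy
    rw [hk x hx.1, hfe x hx, he₂e _ (he.mem hx), hel x hx]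
    group

theorem InAmb.comp (hf : F.IsIso P Q f) (hfa : InAmb E S P f) (hga : InAmb E S Q g) :
    InAmb E S P (fun x => g (f x)) := by
  obtain ⟨s, hs, h⟩ := hfa
  obtain ⟨s', hs', h'⟩ := hga
  exact ⟨s' * s, S.mul_mem hs' hs, h.comp hc hs hs' hf h'⟩

theorem InAmb.inv (hf : F.IsIso P Q f) (hfa : InAmb E S P f) {k : Ω → Ω}
    (hk : ∀ x ∈ P, k (f x) = x) : InAmb E S Q k := by
  obtain ⟨s, hs, h⟩ := hfa
  exact ⟨s⁻¹, S.inv_mem hs, h.inv hc hs hf hk⟩

end

theorem InAmb.restrict (h : InAmb E S P f) (hR : R ≤ P) : InAmb E S R f := by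
  obtain ⟨s, hs, h⟩ := h
  exact ⟨s, hs, h.restrict hR⟩

/-- The crude system. -/
def amb (hc : Setup F p E) : FusionSystem S where
  Hom P := {φ | φ ∈ F.Hom P ∧ InAmb E S P (funOf φ)}
  le_of_mem h := F.le_of_mem h.1
  injective_of_mem h := F.injective_of_mem h.1
  conj_mem := by
    intro P g hP hg
    exact ⟨F.conj_mem hP hg, g, hg, (ambBy_conj hc).congr fun x hx =>
      (funOf_apply (conjHom P g) ⟨x, hx⟩).symm⟩
  comp_mem := by
    intro P Q φ ψ hφ hψ h
    refine ⟨F.comp_mem hφ.1 hψ.1 h, (InAmb.comp hc (isIso_funOf hφ.1) hφ.2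
      (hψ.2.restrict (show φ.range ≤ Q by rintro _ ⟨x, rfl⟩; exact h x))).congr fun x hx => ?_⟩
    rw [← funOf_apply (ψ.comp (φ.codRestrict Q h)) ⟨x, hx⟩, ← funOf_apply φ ⟨x, hx⟩]
    exact funOf_apply ψ ⟨φ ⟨x, hx⟩, h _⟩
  inv_mem := by
    intro P φ hφ
    obtain ⟨ψ, hψ, he⟩ := F.inv_mem hφ.1
    refine ⟨ψ, ⟨hψ, InAmb.inv hc (isIso_funOf hφ.1) hφ.2 fun x hx => ?_⟩, he⟩
    rw [← funOf_apply φ ⟨x, hx⟩]
    exact (funOf_apply ψ ⟨φ ⟨x, hx⟩, ⟨x, hx⟩, rfl⟩).symm.trans (he _)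

variable (hc : Setup F p E)

theorem amb_le : (amb hc).IsSubsystemOf F := fun _ _ h => h.1

include hc

theorem isIso_amb_iff : (amb hc).IsIso P Q f ↔ F.IsIso P Q f ∧ InAmb E S P f := by
  constructor
  · intro h
    obtain ⟨φ, hφ, hr, he⟩ := id h
    exact ⟨h.mono (amb_le hc), hφ.2.congr fun x hx => (he ⟨x, hx⟩).symm.trans (funOf_apply φ ⟨x, hx⟩)⟩
  · rintro ⟨⟨φ, hφ, hr, he⟩, ha⟩
    exact ⟨φ, ⟨hφ, ha.congr fun x hx => (funOf_apply φ ⟨x, hx⟩).symm.trans (he ⟨x, hx⟩)⟩, hr, he⟩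

theorem ambBy_iterate {s : Ω} (hs : s ∈ S) (hf : F.IsIso P P f) [Finite S] (h : AmbBy E s P f) (k : ℕ) :
    AmbBy E (s ^ k) P f^[k] := by
  induction k with
  | zero => rw [pow_zero]; exact ambBy_id hc hf.le_left
  | succ k ih =>
    rw [pow_succ']
    exact (ih.comp hc (S.pow_mem hs k) hs (iterate_isIso hf k) h).congr fun x _ =>
      Function.iterate_succ_apply' f k x

variable [Finite S] [Fact p.Prime]

/-- Periodic automorphisms in the crude system are trivial modulo `T`. -/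
theorem amb_triv (hf : (amb hc).IsIso P P f) (hper : PerPrime p P f) {x : Ω} (hx : x ∈ P) :
    x⁻¹ * f x ∈ T := by
  obtain ⟨hfF, s, hs, h⟩ := (isIso_amb_iff hc).mp hf
  obtain ⟨a, ha⟩ := hc.exists_pow_one hs
  obtain ⟨j, hj⟩ := hper.exists_mul a
  have h1 := (ambBy_iterate hc hs hfF h (p ^ a * j)).1 x hx
  rw [pow_mul, ha, one_pow, hj x hx] at h1
  simpa using h1

/-- Periodic automorphisms in the crude system are automorphisms of `E` on the part in `T`. -/
theorem amb_restr (hf : (amb hc).IsIso P P f) (hper : PerPrime p P f) :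
    E.IsIso (P ⊓ T) (P ⊓ T) f := by
  obtain ⟨hfF, s, hs, h⟩ := (isIso_amb_iff hc).mp hf
  obtain ⟨a, ha⟩ := hc.exists_pow_one hs
  obtain ⟨j, hj⟩ := hper.exists_mul a
  obtain ⟨-, e, Q, he, hfe⟩ := ambBy_iterate hc hs hfF h (p ^ a * j)
  rw [pow_mul, ha, one_pow] at hfe
  have hef : ∀ x ∈ P ⊓ T, e x = f x := fun x hx => by
    rw [← hj x hx.1, hfe x hx]; simp
  haveI := hc.finT
  exact (isIso_self he le_rfl fun x hx => by
    rw [hef x hx]; exact (inter_iso hc.closed hfF).mem hx).congr fun x hx => (hef x hx).symm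

omit [Finite S] [Fact p.Prime]

/-- The generators: automorphisms of order prime to `p`, trivial modulo `T` and in `E` on the centric part in
`T`. -/
structure IsGen (F : FusionSystem S) (p : ℕ) (E : FusionSystem T) (P : Subgroup Ω) (h : Ω → Ω) : Prop where
  iso : F.IsIso P P h
  per : PerPrime p P h
  triv : ∀ x ∈ P, x⁻¹ * h x ∈ T
  centric : E.IsCentric (P ⊓ T)
  restr : E.IsIso (P ⊓ T) (P ⊓ T) h

omit hc in
theorem IsGen.congr {h : Ω → Ω} (hg : IsGen F p E P h) (he : ∀ x ∈ P, g x = h x) : IsGen F p E P g :=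
  ⟨hg.iso.congr he, hg.per.congr (fun _ hx => hg.iso.mem hx) he, fun x hx => by
    rw [he x hx]; exact hg.triv x hx, hg.centric, hg.restr.congr fun x hx => he x hx.1⟩

theorem IsGen.inAmb {h : Ω → Ω} (hg : IsGen F p E P h) : InAmb E S P h :=
  ⟨1, S.one_mem, fun x hx => by simpa using hg.triv x hx, h, P ⊓ T, hg.restr, fun x _ => by simp⟩

theorem IsGen.amb_iso {h : Ω → Ω} (hg : IsGen F p E P h) : (amb hc).IsIso P P h :=
  (isIso_amb_iff hc).mpr ⟨hg.iso, hg.inAmb hc⟩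

/-- Transport of a generator by a map of the big system. -/
theorem IsGen.transport {h χ : Ω → Ω} (hg : IsGen F p E P h) (hχ : F.IsIso P Q χ) :
    ∃ h', IsGen F p E Q h' ∧ ∀ x ∈ P, h' (χ x) = χ (h x) := by
  obtain ⟨k, hk, hl, hr⟩ := hχ.symm
  have he : ∀ x ∈ P, (fun y => χ (h (k y))) (χ x) = χ (h x) := fun x hx => by
    show χ (h (k (χ x))) = _
    rw [hl x hx]
  have hiso : F.IsIso Q Q (fun y => χ (h (k y))) := ((hk.comp hg.iso).comp hχ).congr fun y _ => rfl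
  refine ⟨_, ⟨hiso, hg.per.transport (fun _ hx => hg.iso.mem hx) he fun y hy => hχ.surj hy,
    fun y hy => ?_, hc.inv.isCentric_of_isIso hg.centric (inter_iso hc.closed hχ), ?_⟩, he⟩
  · obtain ⟨x, hx, rfl⟩ := hχ.surj hy
    show (χ x)⁻¹ * χ (h (k (χ x))) ∈ T
    rw [hl x hx, ← hχ.apply_inv hx, ← hχ.apply_mul (P.inv_mem hx) (hg.iso.mem hx)]
    exact hc.closed.iso_mem hχ (P.mul_mem (P.inv_mem hx) (hg.iso.mem hx)) (hg.triv x hx)
  · obtain ⟨e, he', hee⟩ := hc.inv.iso_transport (inter_iso hc.closed hχ) inf_le_right hg.restr le_rfl le_rfl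
      (inter_image hc.closed hχ) (inter_image hc.closed hχ)
    refine he'.congr fun y hy => ?_
    obtain ⟨x, hx, rfl⟩ := (inter_image hc.closed hχ y).mp hy
    refine (he x hx.1).trans (hee x hx).symm

/-- A system contains all generators. -/
def HasGens (F : FusionSystem S) (p : ℕ) (E : FusionSystem T) (D : FusionSystem S) : Prop :=
  ∀ (P : Subgroup Ω) (h : Ω → Ω), IsGen F p E P h → D.IsIso P P h

omit hc in
/-- The system generated by the generators and `S`. -/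
def prodSys (hc : Setup F p E) : FusionSystem S where
  Hom P := {φ | φ ∈ (amb hc).Hom P ∧ ∀ D : FusionSystem S, HasGens F p E D → φ ∈ D.Hom P}
  le_of_mem h := (amb hc).le_of_mem h.1
  injective_of_mem h := (amb hc).injective_of_mem h.1
  conj_mem hP hg := ⟨(amb hc).conj_mem hP hg, fun D _ => D.conj_mem hP hg⟩
  comp_mem hφ hψ h := ⟨(amb hc).comp_mem hφ.1 hψ.1 h, fun D hD => D.comp_mem (hφ.2 D hD) (hψ.2 D hD) h⟩
  inv_mem := by
    intro P φ hφ
    obtain ⟨ψ, hψ, he⟩ := (amb hc).inv_mem hφ.1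
    refine ⟨ψ, ⟨hψ, fun D hD => ?_⟩, he⟩
    obtain ⟨ψ', hψ', he'⟩ := D.inv_mem (hφ.2 D hD)
    have : ψ = ψ' := MonoidHom.ext fun ⟨_, x, rfl⟩ => (he x).trans (he' x).symm
    rw [this]; exact hψ'

theorem prodSys_le_amb : (prodSys hc).IsSubsystemOf (amb hc) := fun _ _ h => h.1

theorem prodSys_le_F : (prodSys hc).IsSubsystemOf F := fun _ _ h => h.1.1

theorem prodSys_le {D : FusionSystem S} (hD : HasGens F p E D) : (prodSys hc).IsSubsystemOf D :=
  fun _ _ h => h.2 D hD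

theorem hasGens_prodSys : HasGens F p E (prodSys hc) := by
  intro P h hg
  obtain ⟨φ, hφ, hr, he⟩ := hg.amb_iso hc
  refine ⟨φ, ⟨hφ, fun D hD => ?_⟩, hr, he⟩
  exact mem_hom_of_isIso (hD P h hg) he

end Cfsg.FusionSystem.Product
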