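import Cfsg.Agent.Lib.Fusion.Wedge.Lifts

/-!
Periodic maps and transport lemmas used for products of normal subsystems with subgroups.
-/

set_option autoImplicit false
set_option linter.unusedSectionVars false
set_option linter.style.haveILetI false

namespace Cfsg.FusionSystem.Product

open Cfsg.FusionSystem.SubCent (isIso_self iterate_isIso)

universe u

variable {Ω : Type u} [Group Ω] {S T : Subgroup Ω} {F : FusionSystem S} {E : FusionSystem T}
  {P Q R U V : Subgroup Ω} {f g : Ω → Ω} {p : ℕ}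

/-- `f` has a period prime to `p` on `P`. -/
def PerPrime (p : ℕ) (P : Subgroup Ω) (f : Ω → Ω) : Prop := ∃ n : ℕ, ¬ p ∣ n ∧ ∀ x ∈ P, f^[n] x = x

theorem PerPrime.mono (h : PerPrime p P f) (hQ : Q ≤ P) : PerPrime p Q f := by
  obtain ⟨n, hn, he⟩ := h
  exact ⟨n, hn, fun x hx => he x (hQ hx)⟩

theorem iterate_congr (hm : ∀ x ∈ P, f x ∈ P) (he : ∀ x ∈ P, g x = f x) (k : ℕ) {x : Ω} (hx : x ∈ P) :
    g^[k] x = f^[k] x ∧ f^[k] x ∈ P := by
  induction k with
  | zero => exact ⟨rfl, hx⟩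
  | succ k ih =>
    rw [Function.iterate_succ_apply', Function.iterate_succ_apply', ih.1, he _ ih.2]
    exact ⟨rfl, hm _ ih.2⟩

theorem PerPrime.congr (h : PerPrime p P f) (hm : ∀ x ∈ P, f x ∈ P) (he : ∀ x ∈ P, g x = f x) :
    PerPrime p P g := by
  obtain ⟨n, hn, hp⟩ := h
  exact ⟨n, hn, fun x hx => ((iterate_congr hm he n hx).1).trans (hp x hx)⟩

/-- A map with period prime to `p` is the power of its `p ^ a`-th power. -/
theorem PerPrime.exists_mul [Fact p.Prime] (h : PerPrime p P f) (a : ℕ) :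
    ∃ j : ℕ, ∀ x ∈ P, f^[p ^ a * j] x = f x := by
  obtain ⟨n, hn, hper⟩ := h
  have hpp := (Fact.out : p.Prime)
  obtain ⟨j, hj⟩ : ∃ j : ℕ, p ^ a * j ≡ 1 [MOD n] := by
    rcases eq_or_ne n 1 with rfl | hn1
    · exact ⟨0, Nat.modEq_one⟩
    have hn0 : n ≠ 0 := fun e => hn (e ▸ dvd_zero p)
    obtain ⟨r, -, hr⟩ := Nat.exists_mul_mod_eq_one_of_coprime
      (Nat.Coprime.pow_left a ((Nat.Prime.coprime_iff_not_dvd hpp).mpr hn)) (by omega)
    exact ⟨r, by rw [Nat.ModEq, hr, Nat.one_mod_eq_one.mpr hn1]⟩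
  refine ⟨j, fun x hx => ?_⟩
  have hper' : ∀ i : ℕ, f^[n * i] x = x := by
    intro i
    induction i with
    | zero => rfl
    | succ i ih => rw [Nat.mul_succ, Function.iterate_add_apply, hper x hx, ih]
  rw [← Nat.mod_add_div (p ^ a * j) n, Function.iterate_add_apply, hper', hj]
  rcases eq_or_ne n 1 with rfl | hn1
  · simpa using (hper x hx).symm
  · rw [Nat.one_mod_eq_one.mpr hn1]; rfl

/-- A map with period prime to `p` and trivial `p ^ a`-th power is trivial. -/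
theorem PerPrime.eq_self [Fact p.Prime] (h : PerPrime p P f) {a : ℕ} (ha : ∀ x ∈ P, f^[p ^ a] x = x)
    {x : Ω} (hx : x ∈ P) : f x = x := by
  obtain ⟨j, hj⟩ := h.exists_mul a
  rw [← hj x hx]
  clear hj
  induction j with
  | zero => rfl
  | succ j ih => rw [Nat.mul_succ, Function.iterate_add_apply, ha x hx, ih]

theorem iterate_transport {χ : Ω → Ω} (hm : ∀ x ∈ P, f x ∈ P) (he : ∀ x ∈ P, g (χ x) = χ (f x)) (k : ℕ)
    {x : Ω} (hx : x ∈ P) : g^[k] (χ x) = χ (f^[k] x) ∧ f^[k] x ∈ P := by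
  induction k with
  | zero => exact ⟨rfl, hx⟩
  | succ k ih =>
    rw [Function.iterate_succ_apply', Function.iterate_succ_apply', ih.1, he _ ih.2]
    exact ⟨rfl, hm _ ih.2⟩

theorem PerPrime.transport {χ : Ω → Ω} (h : PerPrime p P f) (hm : ∀ x ∈ P, f x ∈ P)
    (he : ∀ x ∈ P, g (χ x) = χ (f x)) (hQ : ∀ y ∈ Q, ∃ x ∈ P, χ x = y) : PerPrime p Q g := by
  obtain ⟨n, hn, hp⟩ := h
  refine ⟨n, hn, fun y hy => ?_⟩
  obtain ⟨x, hx, rfl⟩ := hQ y hy
  rw [(iterate_transport hm he n hx).1, hp x hx]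

/-- The image of the part in a strongly closed subgroup. -/
theorem inter_image (hT : F.StronglyClosed T) (hf : F.IsIso P Q f) :
    ∀ y, y ∈ Q ⊓ T ↔ ∃ x ∈ P ⊓ T, f x = y := by
  intro y
  constructor
  · rintro ⟨hyQ, hyT⟩
    obtain ⟨g, hg, hgl, -⟩ := hf.symm
    obtain ⟨x, hx, rfl⟩ := hf.surj hyQ
    refine ⟨x, ⟨hx, ?_⟩, rfl⟩
    rw [← hgl x hx]
    exact hT.iso_mem hg hyQ hyT
  · rintro ⟨x, hx, rfl⟩
    exact ⟨hf.mem hx.1, hT.iso_mem hf hx.1 hx.2⟩

theorem inter_iso (hT : F.StronglyClosed T) (hf : F.IsIso P Q f) : F.IsIso (P ⊓ T) (Q ⊓ T) f :=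
  hf.restrict' inf_le_left (inter_image hT hf)

/-- The image of a subgroup under conjugation. -/
theorem mem_map_conj {s : Ω} {P : Subgroup Ω} {y : Ω} :
    y ∈ P.map (MulAut.conj s).toMonoidHom ↔ ∃ x ∈ P, s * x * s⁻¹ = y := Iff.rfl

/-- The image of a subgroup under conjugation, as an isomorphism of any invariant subsystem. -/
theorem conj_transport (hE : E.IsInvariantIn F) {s : Ω} (hs : s ∈ S) (hf : E.IsIso P Q f) :
    ∃ f', E.IsIso (P.map (MulAut.conj s).toMonoidHom) (Q.map (MulAut.conj s).toMonoidHom) f' ∧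
      ∀ x ∈ P, f' (s * x * s⁻¹) = s * f x * s⁻¹ := by
  have hTS := hE.2.1.1
  have hn : s ∈ Subgroup.normalizer (T : Set Ω) := hE.2.1.le_normalizer hs
  exact hE.iso_transport (h := fun x => s * x * s⁻¹) (isIso_conj_normalizer hTS hs hn) le_rfl hf
    hf.le_left hf.le_right (fun y => mem_map_conj) (fun y => mem_map_conj)

/-- Saturation data: a normal subsystem of a saturated system over a finite `p`-group. -/
structure Setup (F : FusionSystem S) (p : ℕ) (E : FusionSystem T) : Prop where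
  pgroup : IsPGroup p S
  normal : E.IsNormalIn F p

namespace Setup

variable (hc : Setup F p E)
include hc

theorem sat : F.IsSaturated p := hc.normal.1.2.1
theorem esat : E.IsSaturated p := hc.normal.1.1
theorem inv : E.IsInvariantIn F := hc.normal.1.2.2
theorem sub : E.IsSubsystemOf F := hc.inv.1
theorem closed : F.StronglyClosed T := hc.inv.2.1
theorem le_S : T ≤ S := hc.closed.1
theorem finT [Finite S] : Finite T := finite_of_le hc.le_S
theorem tgroup : IsPGroup p T := hc.pgroup.to_le hc.le_S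

theorem conj_mem {s x : Ω} (hs : s ∈ S) (hx : x ∈ T) : s * x * s⁻¹ ∈ T := hc.closed.conj_mem_of_mem hs hx

theorem conj_mem' {s x : Ω} (hs : s ∈ S) (hx : x ∈ T) : s⁻¹ * x * s ∈ T := hc.closed.conj_mem_of_mem' hs hx

theorem exists_pow_one {s : Ω} (hs : s ∈ S) : ∃ a : ℕ, s ^ p ^ a = 1 := by
  obtain ⟨a, ha⟩ := hc.pgroup ⟨s, hs⟩
  exact ⟨a, congrArg Subtype.val ha⟩

end Setup

end Cfsg.FusionSystem.Product
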