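import Cfsg.Agent.Lib.Fusion.Product.Grow

/-!
Maps on normalisers to good subgroups.
-/

set_option autoImplicit false
set_option linter.unusedSectionVars false
set_option linter.style.haveILetI false

namespace Cfsg.FusionSystem.Product

open Cfsg.FusionSystem.SubCent (isIso_self image_self iterate_isIso)

universe u

variable {Ω : Type u} [Group Ω] {S T : Subgroup Ω} {F : FusionSystem S} {E : FusionSystem T}
  {P Q R R' U U1 U2 V D : Subgroup Ω} {f g : Ω → Ω} {p : ℕ}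

/-- A map of `X` on `N_S(U)` carrying `U` to `R`. -/
def Coord (X : FusionSystem S) (U R : Subgroup Ω) (γ : Ω → Ω) : Prop :=
  ∃ D, X.IsIso (normalizerIn S U) D γ ∧ D ≤ normalizerIn S R ∧ ∀ y, y ∈ R ↔ ∃ x ∈ U, γ x = y

theorem Coord.iso {X : FusionSystem S} {γ : Ω → Ω} (h : Coord X U R γ) (hU : U ≤ S) : X.IsIso U R γ := by
  obtain ⟨D, hD, -, hm⟩ := h
  exact hD.restrict' (le_normalizerIn hU) hm

theorem Coord.comp {X : FusionSystem S} {γ δ : Ω → Ω} (h : Coord X U V γ) (h' : Coord X V R δ) :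
    Coord X U R (fun x => δ (γ x)) := by
  obtain ⟨D, hD, hDV, hm⟩ := h
  obtain ⟨D', hD', hD'R, hm'⟩ := h'
  obtain ⟨D'', hD'', hle, -⟩ := hD'.restrict hDV
  refine ⟨D'', hD.comp hD'', hle.trans hD'R, fun y => ?_⟩
  rw [hm']
  constructor
  · rintro ⟨z, hz, rfl⟩
    obtain ⟨x, hx, rfl⟩ := (hm z).mp hz
    exact ⟨x, hx, rfl⟩
  · rintro ⟨x, hx, rfl⟩
    exact ⟨γ x, (hm _).mpr ⟨x, hx, rfl⟩, rfl⟩

variable [Finite S] [Fact p.Prime] {hc : Setup F p E} {X : FusionSystem S}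

theorem Setup.normalizer_lift (hc : Setup F p E) {x : Ω} (hx : x ∈ normalizerIn S U) :
    x ∈ normalizerIn S (normalizerIn T U) := by
  refine ⟨hx.1, mem_normalizer_of_sConj ?_⟩
  rw [sConj_normalizerIn (hc.closed.le_normalizer hx.1), sConj_eq_self hx.2]

/-- `C_T(U)` is not inside `U` when the same holds for an overgroup. -/
theorem not_cent_of_le {U V : Subgroup Ω} (hUV : U ≤ V) (h : ¬ centralizerIn T V ≤ V) : ¬ centralizerIn T U ≤ U :=
  fun h' => h fun _ hx => hUV (h' ⟨hx.1, Subgroup.centralizer_le (SetLike.coe_subset_coe.mpr hUV) hx.2⟩)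

set_option maxHeartbeats 1000000 in
/-- A subgroup of a good `R_V = N_T(U1)` with maximal normaliser in `S` is fully normalised, and good if centric. -/
theorem good_of_sylow (hc : Setup F p E) {RV : Subgroup Ω} (hRV : Good F p E RV) (A : Loc F p E RV) (hU1 : U1 ≤ RV)
    (hNT : normalizerIn T U1 = RV) (hNS : normalizerIn S U1 ≤ normalizerIn S RV)
    (P : Sylow p (A.stab U1))
    (hP : ∀ l : A.stab U1, l ∈ (P : Subgroup (A.stab U1)) ↔ ∃ x ∈ normalizerIn S U1, A.J x = l) :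
    E.IsFullyNormalized U1 ∧ (E.IsCentric U1 → Good F p E U1) := by
  classical
  have hS := hc.pgroup
  have hTp := hc.tgroup
  haveI := hc.finT
  have hRT : RV ≤ T := hRV.centric.1
  have hU1T : U1 ≤ T := hU1.trans hRT
  have hRS : RV ≤ S := hRT.trans hc.le_S
  have hRN : RV ≤ normalizerIn S RV := le_normalizerIn hRS
  have hUN : U1 ≤ normalizerIn S RV := hU1.trans hRN
  haveI := A.normN
  haveI hKn : (A.N.subgroupOf (A.stab U1)).Normal := inferInstance
  have hn : E.IsFullyNormalized U1 := by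
    obtain ⟨U3, hU13, hU3⟩ := E.exists_isFullyNormalized hU1T
    obtain ⟨φ, hφ, hr, χ, hχ, hχN, hχe⟩ := hc.esat.exists_map_to_fullyNormalized hTp hU3 hU13
    haveI := finite_normalizerIn (S := T) (P := U1)
    haveI := finite_normalizerIn (S := T) (P := U3)
    rcases le_or_gt (Nat.card (normalizerIn T U3)) (Nat.card (normalizerIn T U1)) with hle | hlt
    · exact ⟨hU1T, fun Q hQ => (hU3.2 Q (hU13.symm.trans hQ)).trans hle⟩
    exfalso
    have hχi := isIso_funOf hχ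
    have hC3le : χ.range ≤ normalizerIn T U3 := by rintro _ ⟨x, rfl⟩; exact hχN x
    set C3 := χ.range
    have hne : C3 < normalizerIn T U3 := by
      refine lt_of_le_of_ne hC3le fun e => ?_
      have h1 := hχi.card_eq
      rw [e] at h1
      omega
    obtain ⟨d, hd, hdC⟩ := SetLike.exists_of_lt
      (lt_normalizerIn (hTp.to_le normalizerIn_le) hne)
    have hdT : d ∈ T := hd.1.1
    have hC3c : E.IsCentric C3 := (hNT.symm ▸ hRV.centric : E.IsCentric (normalizerIn T U1)).of_isConj hχi.isConj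
    obtain ⟨χi, hχi', hχl, hχrr⟩ := hχi.symm
    have hcd : E.IsIso C3 C3 (fun x => d * x * d⁻¹) := isIso_conj_normalizer hC3c.1 hdT hd.2
    have he0 := (hχi.comp hcd).comp hχi'
    set e := fun x => χi (d * funOf χ x * d⁻¹) with he
    have heI : E.IsIso RV RV e := by rw [← hNT]; exact he0
    have hU1N : U1 ≤ normalizerIn T U1 := le_normalizerIn hU1T
    have hU13m : ∀ y, y ∈ U3 ↔ ∃ x ∈ U1, funOf χ x = y := fun y => by
      constructor
      · intro hy
        obtain ⟨x, hx⟩ := hr.ge hy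
        exact ⟨x, x.2, by rw [← funOf_apply χ ⟨x, hU1N x.2⟩, hχe x, hx]⟩
      · rintro ⟨x, hx, rfl⟩
        rw [← funOf_apply χ ⟨x, hU1N hx⟩, hχe ⟨x, hx⟩]
        exact hr.le ⟨_, rfl⟩
    have heU : ∀ x ∈ U1, e x ∈ U1 := fun x hx => by
      obtain ⟨z, hz, hze⟩ := (hU13m _).mp ((Subgroup.mem_normalizer_iff.mp hd.1.2 _).mp ((hU13m _).mpr ⟨x, hx, rfl⟩))
      show χi (d * funOf χ x * d⁻¹) ∈ U1
      rw [← hze, hχl z (hU1N hz)]
      exact hz
    obtain ⟨n, hnN, hnrep⟩ := A.lift e heI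
    have hnrep' := A.rep_of_repOn hnrep hRN
    -- the `p`-part of `n`
    obtain ⟨a, ha⟩ := hc.exists_pow_one (hc.le_S hdT)
    have hper : ∀ x ∈ RV, e^[p ^ a] x = x := by
      intro x hx
      rw [← hNT] at hx
      have : ∀ k : ℕ, e^[k] x = χi (d ^ k * funOf χ x * (d ^ k)⁻¹) ∧ d ^ k * funOf χ x * (d ^ k)⁻¹ ∈ C3 := by
        intro k
        induction k with
        | zero => exact ⟨by simp [hχl x hx], by simpa using hχi.mem hx⟩
        | succ k ih =>
          have h1 : d * (d ^ k * funOf χ x * (d ^ k)⁻¹) * d⁻¹ = d ^ (k + 1) * funOf χ x * (d ^ (k + 1))⁻¹ := by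
            rw [pow_succ']; group
          refine ⟨?_, h1 ▸ (Subgroup.mem_normalizer_iff.mp hd.2 _).mp ih.2⟩
          rw [Function.iterate_succ_apply', ih.1, ← h1]
          show χi (d * funOf χ (χi _) * d⁻¹) = _
          rw [hχrr _ ih.2]
      rw [(this _).1, ha]
      simpa using hχl x hx
    obtain ⟨b, hb⟩ := SubCent.prime_part (p := p) n
    obtain ⟨j, hj⟩ : ∃ j : ℕ, orderOf (n ^ p ^ b) * j ≡ 1 [MOD p ^ a] := by
      rcases eq_or_ne (p ^ a) 1 with h1 | h1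
      · exact ⟨0, by rw [h1]; exact Nat.modEq_one⟩
      obtain ⟨r, -, hr'⟩ := Nat.exists_mul_mod_eq_one_of_coprime
        (Nat.Coprime.pow_right a ((Nat.Prime.coprime_iff_not_dvd Fact.out).mpr hb).symm)
        (by have := pow_pos (Fact.out : p.Prime).pos a; omega)
      exact ⟨r, by rw [Nat.ModEq, hr', Nat.one_mod_eq_one.mpr h1]⟩
    set i := orderOf (n ^ p ^ b) * j with hi
    set n1 := n ^ i with hn1
    have hn1p : n1 ^ p ^ b = 1 := by
      rw [hn1, ← pow_mul, hi, mul_comm, ← mul_assoc, pow_mul, pow_mul, pow_orderOf_eq_one, one_pow]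
    have hn1rep : A.Rep n1 RV e := by
      refine (hnrep'.iterate (A := A) (fun x hx => heI.mem hx) hRN i).congr (A := A) fun x hx => ?_
      have hper' : ∀ q : ℕ, e^[p ^ a * q] x = x := by
        intro q
        induction q with
        | zero => rfl
        | succ q ih => rw [Nat.mul_succ, Function.iterate_add_apply, hper x hx, ih]
      rw [← Nat.mod_add_div i (p ^ a), Function.iterate_add_apply, hper', hj]
      rcases eq_or_ne (p ^ a) 1 with h1 | h1
      · have h2 := hper x hx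
        rw [h1] at h2
        rw [h1]
        simpa using h2
      · rw [Nat.one_mod_eq_one.mpr h1]; rfl
    have hn1N : n1 ∈ A.N := A.N.pow_mem hnN i
    have hn1St : n1 ∈ A.stab U1 := A.mem_stab hUN fun x hx => ⟨e x, heU x hx, (hn1rep x (hU1 hx)).2⟩
    -- it lies in the image of `R_V`
    let K := A.N.subgroupOf (A.stab U1)
    let x1 : A.stab U1 := ⟨n1, hn1St⟩
    have hnorm : x1 ∈ Subgroup.normalizer (((P : Subgroup (A.stab U1)) ⊓ K : Subgroup (A.stab U1)) : Set (A.stab U1)) := by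
      have key : ∀ z : A.stab U1, z ∈ (P : Subgroup (A.stab U1)) ⊓ K ↔
          (z : A.L) ∈ (RV.subgroupOf (normalizerIn S RV)).map A.j := by
        intro z
        rw [A.mem_img hRN]
        constructor
        · rintro ⟨hzP, hzK⟩
          obtain ⟨x, hx, hxe⟩ := (hP z).mp hzP
          refine ⟨x, ?_, hxe⟩
          rw [← hNT]
          exact ⟨(A.J_mem_N (hNS hx)).mp (by rw [hxe]; exact hzK), hx.2⟩
        · rintro ⟨x, hx, hxe⟩
          have hx' : x ∈ normalizerIn S U1 := ⟨hRS hx, (hNT.ge hx).2⟩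
          exact ⟨(hP z).mpr ⟨x, hx', hxe⟩, show (z : A.L) ∈ A.N by rw [← hxe, A.J_mem_N (hRN hx)]; exact hRT hx⟩
      rw [Subgroup.mem_normalizer_iff]
      intro z
      rw [key, key]
      have := A.normR
      constructor
      · intro hz; exact this.conj_mem _ hz n1
      · intro hz
        have h1 := this.conj_mem _ hz n1⁻¹
        simpa [x1, mul_assoc] using h1
    have hzp : IsPGroup p (Subgroup.zpowers x1) := by
      have h1 : x1 ^ p ^ b = 1 := Subtype.ext hn1p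
      obtain ⟨k, -, hk⟩ := (Nat.dvd_prime_pow (Fact.out : p.Prime)).mp (orderOf_dvd_of_pow_eq_one h1)
      exact IsPGroup.of_card (n := k) (by rw [Nat.card_zpowers, hk])
    have hXp : IsPGroup p (((P : Subgroup (A.stab U1)) ⊓ K ⊔ Subgroup.zpowers x1 : Subgroup (A.stab U1))) :=
      (P.2.to_le inf_le_left).to_sup_of_normal_left' hzp (Subgroup.zpowers_le.mpr hnorm)
    have hx1P := Wedge.le_of_normal_pSubgroup P hXp
      (sup_le inf_le_right (Subgroup.zpowers_le.mpr (show x1 ∈ K from hn1N))) le_sup_left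
      (Subgroup.mem_sup_right (Subgroup.mem_zpowers x1))
    obtain ⟨t, ht, hte⟩ := (hP x1).mp hx1P
    have htN := hNS ht
    have htT : t ∈ T := (A.J_mem_N htN).mp (by rw [hte]; exact hn1N)
    have htRV : t ∈ normalizerIn T U1 := ⟨htT, ht.2⟩
    have he_eq : ∀ x ∈ RV, e x = t * x * t⁻¹ := fun x hx =>
      hn1rep.eq (A := A) (hte ▸ A.rep_conj htN hRN) hx
    apply hdC
    have hct : (funOf χ t)⁻¹ * d ∈ centralizerIn T C3 := by
      refine ⟨T.mul_mem (T.inv_mem (hC3c.1 (hχi.mem htRV))) hdT, Subgroup.mem_centralizer_iff.mpr fun y hy => ?_⟩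
      obtain ⟨x, hx, rfl⟩ := hχi.surj hy
      have h1 : funOf χ (e x) = d * funOf χ x * d⁻¹ :=
        hχrr _ ((Subgroup.mem_normalizer_iff.mp hd.2 _).mp (hχi.mem hx))
      rw [he_eq x (hNT ▸ hx), hχi.apply_conj htRV hx] at h1
      calc funOf χ x * ((funOf χ t)⁻¹ * d) = (funOf χ t)⁻¹ * (funOf χ t * funOf χ x * (funOf χ t)⁻¹) * d := by group
        _ = (funOf χ t)⁻¹ * d * funOf χ x := by rw [h1]; group
    have := C3.mul_mem (hχi.mem htRV) (hC3c.centralizerIn_le_self hct)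
    rwa [mul_inv_cancel_left] at this
  refine ⟨hn, fun hcen => ⟨hcen, hn, fun s hs hconj => ?_⟩⟩
  have hn' := hc.fullyNormalized_sConj hs hn
  obtain ⟨φ, hφ, hr, χ, hχ, hχN, hχe⟩ := hc.esat.exists_map_to_fullyNormalized hTp hn' hconj
  have hχi := isIso_funOf hχ
  haveI := finite_normalizerIn (S := T) (P := sConj s U1)
  have hrange : χ.range = sConj s RV := by
    have h1 : normalizerIn T (sConj s U1) = sConj s RV := by
      rw [← sConj_normalizerIn (hc.closed.le_normalizer hs), hNT]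
    rw [← h1]
    refine Subgroup.eq_of_le_of_card_ge (by rintro _ ⟨x, rfl⟩; exact hχN x) ?_
    rw [← hχi.card_eq]
    exact hn.2 _ hconj
  have hU1N : U1 ≤ normalizerIn T U1 := le_normalizerIn hU1T
  obtain ⟨t, ht, n, hnn, rfl⟩ := hRV.stab s hs (hrange ▸ hNT ▸ hχi.isConj)
  have h1 : E.IsIso (sConj (t * n) RV) RV (fun x => t⁻¹ * x * t⁻¹⁻¹) := by
    have h0 := isIso_conj (E := E) (hrange ▸ hχi.le_right : sConj (t * n) RV ≤ T) (T.inv_mem ht)
    rwa [show (sConj (t * n) RV).map (MulAut.conj t⁻¹).toMonoidHom = RV by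
      show sConj t⁻¹ (sConj (t * n) RV) = RV
      rw [sConj_sConj, inv_mul_cancel_left, sConj_eq_self hnn.2]] at h0
  have heI : E.IsIso RV RV (fun x => t⁻¹ * funOf χ x * t⁻¹⁻¹) := by
    have := (hrange ▸ hχi).comp h1
    have aux : ∀ {W : Subgroup Ω} {g : Ω → Ω}, W = RV → E.IsIso W RV g → E.IsIso RV RV g := fun hW h => hW ▸ h
    exact aux hNT this
  obtain ⟨k, hkN, hkrep⟩ := A.lift _ heI
  have hkrep' := A.rep_of_repOn hkrep hRN
  have hst : k⁻¹ * A.J n ∈ A.stab U1 := by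
    refine A.mem_stab hUN fun x hx => ?_
    have hmem : (t * n) * x * (t * n)⁻¹ ∈ sConj (t * n) U1 := mem_map_conj.mpr ⟨x, hx, rfl⟩
    obtain ⟨z, hz⟩ := hr.ge hmem
    refine ⟨z, z.2, ?_⟩
    have e1 : t⁻¹ * funOf χ z * t⁻¹⁻¹ = n * x * n⁻¹ := by
      rw [← funOf_apply χ ⟨z, hU1N z.2⟩, hχe z, hz]
      group
    have h2 : A.J (t⁻¹ * funOf χ z * t⁻¹⁻¹) = k * A.J z * k⁻¹ := (hkrep' _ (hU1 z.2)).2
    rw [e1, A.J_conj hnn (hUN hx)] at h2
    calc A.J z = k⁻¹ * (k * A.J z * k⁻¹) * k := by group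
      _ = _ := by rw [← h2]; group
  let K := A.N.subgroupOf (A.stab U1)
  have htop : (P : Subgroup (A.stab U1)) ⊔ K = ⊤ := by
    refine SubCent.eq_top_of_sylow_of_pprime _ P le_sup_left fun g hg => Subgroup.mem_sup_right ?_
    obtain ⟨PL, hPL⟩ := A.sylow
    refine Wedge.mem_of_coprime_sup (H := A.N) (P := A.j.range) (hPL ▸ PL.2) ?_ (by rwa [Subgroup.subtype_apply, Subgroup.orderOf_coe])
    rw [sup_comm, A.top]; exact Subgroup.mem_top _
  obtain ⟨q, hq, k2, hk2, hqk⟩ := Subgroup.mem_sup_of_normal_right.mp (htop.ge (Subgroup.mem_top (⟨_, hst⟩ : A.stab U1)))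
  obtain ⟨n2, hn2, hn2e⟩ := (hP q).mp hq
  have hn2N := hNS hn2
  have hJ : A.J (n2⁻¹ * n) ∈ A.N := by
    have h2 : (q : A.L) * (k2 : A.L) = k⁻¹ * A.J n := congrArg Subtype.val hqk
    rw [A.J_mul ((normalizerIn S RV).inv_mem hn2N) hnn, A.J_inv hn2N, hn2e,
      show (q : A.L)⁻¹ * A.J n = ((q : A.L)⁻¹ * k * (q : A.L)) * k2 by
        rw [show (q : A.L)⁻¹ * k * (q : A.L) * k2 = (q : A.L)⁻¹ * k * ((q : A.L) * k2) by group, h2]
        group]
    exact A.N.mul_mem (by simpa using A.normN.conj_mem k hkN (q : A.L)⁻¹) hk2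
  have ht2 : n2⁻¹ * n ∈ T := (A.J_mem_N ((normalizerIn S RV).mul_mem ((normalizerIn S RV).inv_mem hn2N) hnn)).mp hJ
  exact ⟨t * (n2 * (n2⁻¹ * n) * n2⁻¹), T.mul_mem ht (hc.conj_mem hn2.1 ht2), n2, hn2, by group⟩

/-- The outcome of the inductive step. -/
def Step (hc : Setup F p E) (X : FusionSystem S) (U : Subgroup Ω) : Prop :=
  (E.IsCentric U → ∃ R γ, Good F p E R ∧ Coord X U R γ) ∧
  (¬ E.IsCentric U → ∃ (γ : Ω → Ω) (D U2 : Subgroup Ω), X.IsIso (normalizerIn S U) D γ ∧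
    (∀ y, y ∈ U2 ↔ ∃ x ∈ U, γ x = y) ∧ ¬ centralizerIn T U2 ≤ U2)

/-- Every subgroup of `T` reaches a good subgroup, or one whose centraliser in `T` is not inside it. -/
theorem exists_step (hX : Big hc X) : ∀ U : Subgroup Ω, U ≤ T → Step hc X U := by
  haveI := hc.finT
  intro U
  induction hm : Nat.card T - Nat.card U using Nat.strong_induction_on generalizing U with
  | _ m ih =>
  induction hk : Nat.card S - Nat.card (normalizerIn S U) using Nat.strong_induction_on generalizing U with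
  | _ k ihk =>
  intro hUT
  have hUS : U ≤ S := hUT.trans hc.le_S
  rcases eq_or_ne U T with hUe | hUne
  · subst hUe
    refine ⟨fun _ => ⟨_, fun x => x, good_top hc, _, IsIso.refl X normalizerIn_le, le_rfl, fun y => ?_⟩,
      fun h => absurd isCentric_self h⟩
    exact ⟨fun hy => ⟨y, hy, rfl⟩, fun ⟨x, hx, he⟩ => he ▸ hx⟩
  set V := normalizerIn T U with hV
  have hUV : U < V := lt_normalizerIn hc.tgroup (lt_of_le_of_ne hUT hUne)
  haveI := finite_normalizerIn (S := T) (P := U)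
  have hVT : V ≤ T := normalizerIn_le
  have hcardV : Nat.card U < Nat.card V := by
    haveI := finite_of_le hVT
    exact Family.card_lt_of_lt hUV
  have hVstep := ih (Nat.card T - Nat.card V) (by
    have := Subgroup.card_le_of_le hVT
    omega) V rfl hVT
  have hNN : normalizerIn S U ≤ normalizerIn S V := fun x hx => hc.normalizer_lift hx
  by_cases hVc : E.IsCentric V
  swap
  · obtain ⟨γ, D, V2, hγ, hV2, hV2C⟩ := hVstep.2 hVc
    obtain ⟨D', hD', -, -⟩ := hγ.restrict hNN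
    obtain ⟨U2, -, -, hU2m⟩ := hD'.restrict (le_normalizerIn hUS)
    refine ⟨fun hUc => absurd (isCentric_of_le hUc hUV.le hVT) hVc, fun _ => ⟨γ, D', U2, hD', hU2m,
      not_cent_of_le (fun y hy => ?_) hV2C⟩⟩
    obtain ⟨x, hx, rfl⟩ := (hU2m y).mp hy
    exact (hV2 _).mpr ⟨x, hUV.le hx, rfl⟩
  obtain ⟨RV, γ, hRV, D, hγ, hDRV, hRVm⟩ := hVstep.1 hVc
  obtain ⟨D1, hD1, hD1le, -⟩ := hγ.restrict hNN
  obtain ⟨U1, -, -, hU1m⟩ := hD1.restrict (le_normalizerIn hUS)
  have hU1RV : U1 ≤ RV := fun y hy => by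
    obtain ⟨x, hx, rfl⟩ := (hU1m y).mp hy
    exact (hRVm _).mpr ⟨x, hUV.le hx, rfl⟩
  have hD1N : D1 ≤ normalizerIn S RV := hD1le.trans hDRV
  have hD1n : D1 ≤ Subgroup.normalizer (U1 : Set Ω) := fun y hy => by
    obtain ⟨x, hx, rfl⟩ := hD1.surj hy
    exact (hD1.mono hX.toF).mem_normalizer (le_normalizerIn hUS) hU1m hx hx.2
  have hRVD1 : RV ≤ D1 := fun y hy => by
    obtain ⟨x, hx, rfl⟩ := (hRVm y).mp hy
    exact hD1.mem ⟨hc.le_S hx.1, hx.2⟩
  have hU1T : U1 ≤ T := hU1RV.trans hRV.centric.1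
  -- transporting the result along a map
  have finish : ∀ {γ' : Ω → Ω} {D' U' : Subgroup Ω}, X.IsIso (normalizerIn S U) D' γ' →
      (∀ y, y ∈ U' ↔ ∃ x ∈ U, γ' x = y) → D' ≤ normalizerIn S U' → Step hc X U' → Step hc X U := by
    intro γ' D' U' hγ' hm' hD' hst
    have hiso : F.IsIso U U' γ' := (hγ'.mono hX.toF).restrict' (le_normalizerIn hUS) hm'
    refine ⟨fun hUc => ?_, fun hUc => ?_⟩
    · obtain ⟨R, δ, hR, hδ⟩ := hst.1 (hc.inv.isCentric_of_isIso hUc hiso)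
      exact ⟨R, _, hR, (show Coord X U U' γ' from ⟨D', hγ', hD', hm'⟩).comp hδ⟩
    · obtain ⟨δ, D'', U2, hδ, hU2, hU2C⟩ := hst.2 fun h => hUc (by
        obtain ⟨gi, hgi, -, -⟩ := hiso.symm
        exact hc.inv.isCentric_of_isIso h hgi)
      obtain ⟨D3, hD3, -, -⟩ := hδ.restrict hD'
      refine ⟨_, D3, U2, hγ'.comp hD3, fun y => ?_, hU2C⟩
      rw [hU2]
      constructor
      · rintro ⟨z, hz, rfl⟩
        obtain ⟨x, hx, rfl⟩ := (hm' z).mp hz
        exact ⟨x, hx, rfl⟩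
      · rintro ⟨x, hx, rfl⟩
        exact ⟨_, (hm' _).mpr ⟨x, hx, rfl⟩, rfl⟩
  haveI := finite_normalizerIn (S := S) (P := U)
  -- larger normalisers
  have bigger : ∀ {γ' : Ω → Ω} {D' U' : Subgroup Ω}, X.IsIso (normalizerIn S U) D' γ' →
      (∀ y, y ∈ U' ↔ ∃ x ∈ U, γ' x = y) → D' ≤ normalizerIn S U' →
      Nat.card (normalizerIn S U) < Nat.card (normalizerIn S U') → Step hc X U := by
    intro γ' D' U' hγ' hm' hD' hlt
    have hiso : F.IsIso U U' γ' := (hγ'.mono hX.toF).restrict' (le_normalizerIn hUS) hm'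
    have hU'T : U' ≤ T := hc.closed.iso_le hiso hUT
    refine finish hγ' hm' hD' (ihk (Nat.card S - Nat.card (normalizerIn S U')) ?_ U' ?_ rfl hU'T)
    · have := Subgroup.card_le_of_le (normalizerIn_le : normalizerIn S U' ≤ S)
      omega
    · rw [← hiso.card_eq, hm]
  obtain ⟨A⟩ := exists_loc hc hRV.centric hRV.norm
  haveI := finite_normalizerIn (S := S) (P := U1)
  have hD1U1 : D1 ≤ normalizerIn S U1 := fun y hy => ⟨hD1.le_right hy, hD1n hy⟩
  rcases sylow_or_grow hX hRV A hU1RV hRVD1 hD1N hD1n with ⟨f, D2, U2, hf, -, hD2, hU2m, hlt⟩ | ⟨P, hP⟩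
  · refine bigger (hD1.comp hf) (fun y => ?_) hD2 (by rw [hD1.card_eq]; exact hlt)
    rw [hU2m]
    constructor
    · rintro ⟨z, hz, rfl⟩
      obtain ⟨x, hx, rfl⟩ := (hU1m z).mp hz
      exact ⟨x, hx, rfl⟩
    · rintro ⟨x, hx, rfl⟩
      exact ⟨_, (hU1m _).mpr ⟨x, hx, rfl⟩, rfl⟩
  by_cases hlt : Nat.card (normalizerIn S U) < Nat.card (normalizerIn S U1)
  · exact bigger hD1 hU1m hD1U1 hlt
  have hD1eq : D1 = normalizerIn S U1 :=
    Subgroup.eq_of_le_of_card_ge hD1U1 (by rw [← hD1.card_eq]; omega)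
  have hNT : normalizerIn T U1 = RV := by
    apply le_antisymm
    · intro y hy
      have hy' : y ∈ D1 := hD1eq.ge ⟨hc.le_S hy.1, hy.2⟩
      obtain ⟨x, hx, rfl⟩ := (inter_image hc.closed (hD1.mono hX.toF) y).mp ⟨hy', hy.1⟩
      exact (hRVm _).mpr ⟨x, ⟨hx.2, hx.1.2⟩, rfl⟩
    · intro y hy
      exact ⟨hRV.centric.1 hy, hD1n (hRVD1 hy)⟩
  obtain ⟨hn, hgood⟩ := good_of_sylow hc hRV A hU1RV hNT (hD1eq.symm.le.trans hD1N) P (by rwa [← hD1eq])
  refine ⟨fun hUc => ⟨U1, γ, hgood (hc.inv.isCentric_of_isIso hUc ((hD1.mono hX.toF).restrict' (le_normalizerIn hUS) hU1m)),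
    D1, hD1, hD1U1, hU1m⟩, fun hUc => ⟨γ, D1, U1, hD1, hU1m, fun hC => ?_⟩⟩
  refine hUc ?_
  have hU1c : E.IsCentric U1 :=
    (hc.esat.isFullyCentralized_of_isFullyNormalized hc.tgroup hn).isCentric hC
  obtain ⟨gi, hgi, -, -⟩ := ((hD1.mono hX.toF).restrict' (le_normalizerIn hUS) hU1m).symm
  exact hc.inv.isCentric_of_isIso hU1c hgi

/-- Good subgroups conjugate in the crude system are related by a map on the normalisers. -/
theorem coord_good (hX : Big hc X) : ∀ R R' : Subgroup Ω, Good F p E R → Good F p E R' →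
    (amb hc).IsConj R R' → ∃ γ, Coord X R R' γ := by
  haveI := hc.finT
  intro R
  induction hm : Nat.card T - Nat.card R using Nat.strong_induction_on generalizing R with
  | _ m ih =>
  intro R'' hR hR'' hconj
  obtain ⟨φ, hφ, hr⟩ := hconj
  obtain ⟨s, hs, e, R', he, -, hQ⟩ := amb_decomp hc hR.centric.1
    (hr ▸ isIso_funOf hφ : (amb hc).IsIso R R'' (funOf φ))
  subst hQ
  have hR' : Good F p E R' := by
    have := hR''.sConj hc (S.inv_mem hs)
    rwa [sConj_sConj, inv_mul_cancel, sConj_one] at this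
  suffices h : ∃ γ, Coord X R R' γ by
    obtain ⟨γ, hγ⟩ := h
    refine ⟨_, hγ.comp (R := sConj s R') (δ := fun x => s * x * s⁻¹) ⟨_, isIso_conj normalizerIn_le hs, ?_, ?_⟩⟩
    · exact (sConj_normalizerIn (Subgroup.le_normalizer hs)).le
    · exact fun y => mem_map_conj
  have hRT := hR.centric.1
  have hR'T := hR'.centric.1
  have hRS : R ≤ S := hRT.trans hc.le_S
  have hR'S : R' ≤ S := hR'T.trans hc.le_S
  rcases eq_or_ne R T with hRe | hRne
  · subst hRe
    have : R' = R := he.eq_of_le le_rfl he.le_right le_rfl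
    subst this
    exact ⟨fun x => x, _, IsIso.refl X normalizerIn_le, le_rfl, fun y =>
      ⟨fun hy => ⟨y, hy, rfl⟩, fun ⟨x, hx, hxe⟩ => hxe ▸ hx⟩⟩
  -- extend over `N_T(R)`
  set V := normalizerIn T R
  set V' := normalizerIn T R'
  obtain ⟨φ1, hφ1, hr1, χ, hχ, hχN, hχe⟩ := hc.esat.exists_map_to_fullyNormalized hc.tgroup hR'.norm he.isConj
  have hχi := isIso_funOf hχ
  haveI := finite_normalizerIn (S := T) (P := R')
  have hχV : χ.range = V' := Subgroup.eq_of_le_of_card_ge (by rintro _ ⟨x, rfl⟩; exact hχN x) (by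
    rw [← hχi.card_eq]; exact hR.norm.2 _ he.isConj)
  rw [hχV] at hχi
  have hRV : R < V := lt_normalizerIn hc.tgroup (lt_of_le_of_ne hRT hRne)
  have hVT : V ≤ T := normalizerIn_le
  have hV'T : V' ≤ T := normalizerIn_le
  have hVc : E.IsCentric V := isCentric_of_le hR.centric hRV.le hVT
  have hV'c : E.IsCentric V' := hVc.of_isConj hχi.isConj
  haveI := finite_of_le hVT
  have hcard : Nat.card R < Nat.card V := Family.card_lt_of_lt hRV
  obtain ⟨RV, γ, hRV', hγ⟩ := (exists_step hX V hVT).1 hVc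
  obtain ⟨RV2, γ', hRV2, hγ'⟩ := (exists_step hX V' hV'T).1 hV'c
  have hγiso := hγ.iso (hVT.trans hc.le_S)
  have hγ'iso := hγ'.iso (hV'T.trans hc.le_S)
  have hχamb : (amb hc).IsIso V V' (funOf χ) := by
    refine (isIso_amb_iff hc).mpr ⟨hχi.mono hc.sub, 1, S.one_mem, fun x hx => ?_, funOf χ, V', ?_, fun x _ => by simp⟩
    · simpa using T.mul_mem (T.inv_mem (hVT hx)) (hV'T (hχi.mem hx))
    · rw [inf_eq_left.mpr hVT]; exact hχi
  have hconjV : (amb hc).IsConj RV2 RV :=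
    ((hγ'iso.mono hX.le).isConj.symm.trans hχamb.isConj.symm).trans (hγiso.mono hX.le).isConj
  obtain ⟨δ, hδ⟩ := ih (Nat.card T - Nat.card RV2) (by
    have h1 := hγ'iso.card_eq
    have h2 : Nat.card V = Nat.card V' := hχi.card_eq
    have h3 := Subgroup.card_le_of_le hVT
    rw [← hm, ← h1, ← h2]
    omega) RV2 rfl RV hRV2 hRV' hconjV
  have hγ2 := hγ'.comp hδ
  set γ2 := fun x => δ (γ' x)
  have hγ2iso := hγ2.iso (hV'T.trans hc.le_S)
  -- the images of `R` and `R'`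
  have hRVm : R ≤ V := hRV.le
  have hR'V' : R' ≤ V' := le_normalizerIn hR'T
  obtain ⟨gi, hgi, hgl, -⟩ := hγiso.symm
  have hζ : (amb hc).IsIso RV RV (fun x => γ2 (funOf χ (gi x))) :=
    ((hgi.mono hX.le).comp hχamb).comp (hγ2iso.mono hX.le)
  obtain ⟨A⟩ := exists_loc hc hRV'.centric hRV'.norm
  obtain ⟨m0, hm0⟩ := hRV'.realise hc A hζ
  obtain ⟨D, hD, hDle, -⟩ := hγ
  obtain ⟨D', hD', hD'le, -⟩ := hγ2
  have hNV : normalizerIn S R ≤ normalizerIn S V := fun x hx => hc.normalizer_lift hx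
  have hNV' : normalizerIn S R' ≤ normalizerIn S V' := fun x hx => hc.normalizer_lift hx
  obtain ⟨D0, hD0, hD0D, -⟩ := hD.restrict hNV
  obtain ⟨D0', hD0', hD0'D, -⟩ := hD'.restrict hNV'
  obtain ⟨R1, -, -, hR1m⟩ := hD0.restrict (le_normalizerIn hRS)
  obtain ⟨R1', -, -, hR1'm⟩ := hD0'.restrict (le_normalizerIn hR'S)
  have hR1'RV : R1' ≤ RV := fun y hy => by
    obtain ⟨x, hx, rfl⟩ := (hR1'm y).mp hy
    exact hγ2iso.mem (hR'V' hx)
  have hR1RV : R1 ≤ RV := fun y hy => by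
    obtain ⟨x, hx, rfl⟩ := (hR1m y).mp hy
    exact hγiso.mem (hRVm hx)
  have hD0'n : D0' ≤ Subgroup.normalizer (R1' : Set Ω) := fun y hy => by
    obtain ⟨x, hx, rfl⟩ := hD0'.surj hy
    exact (hD0'.mono hX.toF).mem_normalizer (le_normalizerIn hR'S) hR1'm hx hx.2
  have hRVD0' : RV ≤ D0' := fun y hy => by
    obtain ⟨x, hx, rfl⟩ := hγ2iso.surj hy
    exact hD0'.mem ⟨hc.le_S hx.1, hx.2⟩
  have hRVN : RV ≤ normalizerIn S RV := le_normalizerIn (hRV'.centric.1.trans hc.le_S)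
  haveI := finite_normalizerIn (S := S) (P := R')
  rcases sylow_or_grow hX hRV' A hR1'RV hRVD0' (hD0'D.trans hD'le) hD0'n with ⟨f, D2, U2, hf, -, -, hU2m, hlt⟩ | ⟨P, hP⟩
  · exfalso
    have hU2 : (amb hc).IsConj R' U2 := by
      refine ((hD0'.comp hf).mono hX.le).restrict' (le_normalizerIn hR'S) (R' := U2) (fun y => ?_) |>.isConj
      rw [hU2m]
      constructor
      · rintro ⟨z, hz, rfl⟩
        obtain ⟨x, hx, rfl⟩ := (hR1'm z).mp hz
        exact ⟨x, hx, rfl⟩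
      · rintro ⟨x, hx, rfl⟩
        exact ⟨_, (hR1'm _).mpr ⟨x, hx, rfl⟩, rfl⟩
    have := hR'.card_le hc hU2
    rw [hD0'.card_eq] at this
    omega
  -- move `γ N_S(R)` into the Sylow subgroup
  have hR1N : R1 ≤ normalizerIn S RV := hR1RV.trans hRVN
  have hR1'N : R1' ≤ normalizerIn S RV := hR1'RV.trans hRVN
  have hm0st : ∀ y ∈ D0, m0 * A.J y * m0⁻¹ ∈ A.stab R1' := by
    intro y hy
    obtain ⟨x, hx, rfl⟩ := hD0.surj hy
    refine A.mem_stab hR1'N fun z hz => ?_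
    obtain ⟨r', hr', rfl⟩ := (hR1'm z).mp hz
    obtain ⟨r, hr, hrr⟩ : ∃ r ∈ R, funOf χ r = r' := by
      obtain ⟨q, hq⟩ := hr1.ge hr'
      exact ⟨q, q.2, by rw [← funOf_apply χ ⟨q, hRVm q.2⟩, hχe q, hq]⟩
    have hxr : x * r * x⁻¹ ∈ R := (Subgroup.mem_normalizer_iff.mp hx.2 r).mp hr
    have hm' : ∀ u ∈ R, γ2 (funOf χ u) = γ2 (funOf χ (gi (γ u))) := fun u hu => by rw [hgl u (hRVm hu)]
    have hRN : R ≤ normalizerIn S R := le_normalizerIn hRS
    refine ⟨γ2 (funOf χ (x * r * x⁻¹)), (hR1'm _).mpr ⟨_, ?_, rfl⟩, ?_⟩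
    · rw [← funOf_apply χ ⟨_, hRVm hxr⟩, hχe ⟨_, hxr⟩]; exact hr1.le ⟨_, rfl⟩
    · rw [← hrr, hm' _ hxr, hm' _ hr, (hm0 _ (hγiso.mem (hRVm hxr))).2, (hm0 _ (hγiso.mem (hRVm hr))).2,
        hD0.apply_conj hx (hRN hr), A.J_conj ((hD0D.trans hDle) (hD0.mem hx)) ((hD0D.trans hDle) (hD0.mem (hRN hr)))]
      group
  let Y : Subgroup (A.stab R1') :=
    (((D0.subgroupOf (normalizerIn S RV)).map A.j).map (MulAut.conj m0).toMonoidHom).subgroupOf (A.stab R1')
  have hYp : IsPGroup p Y :=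
    ((((hc.pgroup.to_le normalizerIn_le).to_subgroup _).map A.j).map _).comap_of_injective _
      (A.stab R1').subtype_injective
  obtain ⟨h0, hh0⟩ := exists_conj_mem_sylow P (X := Y) hYp
  set mm := (h0 : A.L) * m0
  have hD0N : D0 ≤ normalizerIn S RV := hD0D.trans hDle
  have hland : ∀ y ∈ D0, ∃ x ∈ D0', A.J x = mm * A.J y * mm⁻¹ := fun y hy => by
    obtain ⟨x, hx, hxe⟩ := (hP _).mp (hh0 ⟨_, hm0st y hy⟩
      ⟨A.J y, (A.mem_img hD0N).mpr ⟨y, hy, rfl⟩, rfl⟩)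
    refine ⟨x, hx, hxe.trans ?_⟩
    show (h0 : A.L) * (m0 * A.J y * m0⁻¹) * (h0 : A.L)⁻¹ = mm * A.J y * mm⁻¹
    simp only [mm]
    group
  obtain ⟨f, D3', -, hfrep⟩ := A.rep_iso hD0N (m := mm) fun y hy => by
    obtain ⟨x, hx, hxe⟩ := hland y hy
    rw [← hxe]; exact A.J_mem_range ((hD0'D.trans hD'le) hx)
  have hRVD0 : RV ≤ D0 := fun y hy => by
    obtain ⟨x, hx, rfl⟩ := hγiso.surj hy
    exact hD0.mem ⟨hc.le_S hx.1, hx.2⟩
  obtain ⟨D3, hD3⟩ := hX.maps RV hRV' A D0 f hRVD0 hD0N ⟨mm, hfrep⟩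
  have hD3le : D3 ≤ D0' := fun z hz => by
    obtain ⟨y, hy, rfl⟩ := hD3.surj hz
    obtain ⟨x, hx, hxe⟩ := hland y hy
    rwa [A.J_inj (hfrep y hy).1 ((hD0'D.trans hD'le) hx) ((hfrep y hy).2.trans hxe.symm)]
  obtain ⟨g', hg', hg'l, -⟩ := hD0'.symm
  obtain ⟨D4, hD4, hD4le, -⟩ := hg'.restrict hD3le
  have hfin := (hD0.comp hD3).comp hD4
  refine ⟨_, D4, hfin, hD4le, ?_⟩
  have hfwd : ∀ r ∈ R, g' (f (γ r)) ∈ R' := by
    intro r hr
    have hRN : R ≤ normalizerIn S R := le_normalizerIn hRS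
    have h1 := (hm0 _ (hγiso.mem (hRVm hr)))
    have h2 : γ2 (funOf χ (gi (γ r))) ∈ R1' := by
      rw [hgl r (hRVm hr)]
      refine (hR1'm _).mpr ⟨_, ?_, rfl⟩
      rw [← funOf_apply χ ⟨r, hRVm hr⟩, hχe ⟨r, hr⟩]
      exact hr1.le ⟨_, rfl⟩
    obtain ⟨z, hz, hze⟩ := A.stab_apply hR1'N h0.2 h2
    have h4 := hfrep _ (hRVD0 (hγiso.mem (hRVm hr)))
    have h3 : f (γ r) = z := by
      refine A.J_inj h4.1 (hR1'N hz) ?_
      rw [h4.2, hze, h1.2]
      simp only [mm]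
      group
    rw [h3]
    obtain ⟨r', hr', rfl⟩ := (hR1'm z).mp hz
    rw [hg'l r' (le_normalizerIn hR'S hr')]
    exact hr'
  obtain ⟨R4, hR4, -, hR4m⟩ := hfin.restrict (le_normalizerIn hRS)
  have hle : R4 ≤ R' := fun y hy => by
    obtain ⟨x, hx, rfl⟩ := (hR4m y).mp hy
    exact hfwd x hx
  haveI := finite_of_le hR'S
  have : R4 = R' := Subgroup.eq_of_le_of_card_ge hle (by rw [← hR4.card_eq, he.card_eq])
  exact this ▸ hR4m

/-- Coordinates to every good subgroup in the class. -/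
theorem exists_coord (hX : Big hc X) (hU : E.IsCentric U) (hR : Good F p E R) (hconj : (amb hc).IsConj U R) :
    ∃ γ, Coord X U R γ := by
  obtain ⟨R0, γ, hR0, hγ⟩ := (exists_step hX U hU.1).1 hU
  obtain ⟨δ, hδ⟩ := coord_good hX R0 R hR0 hR
    (((hγ.iso (hU.1.trans hc.le_S)).mono hX.le).isConj.symm.trans hconj)
  exact ⟨_, hγ.comp hδ⟩

end Cfsg.FusionSystem.Product
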