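import Cfsg.Agent.Lib.Fusion.Product.LocalMaps

/-!
Two generators with the same restriction to the part in `T` differ by conjugation by an element of its centre.
-/

set_option autoImplicit false
set_option linter.unusedSectionVars false
set_option linter.style.haveILetI false

namespace Cfsg.FusionSystem.Product

open Cfsg.FusionSystem.SubCent (isIso_self image_self iterate_isIso)

universe u

variable {Ω : Type u} [Group Ω] {S T : Subgroup Ω} {F : FusionSystem S} {E : FusionSystem T}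
  {P Q R U V : Subgroup Ω} {f g : Ω → Ω} {p : ℕ} [Finite S] [Fact p.Prime]

theorem Loc.exists_pprime_rep (A : Loc F p E R) (hR : R ≤ S) (hf : E.IsIso R R f) (hper : PerPrime p R f) :
    ∃ n ∈ A.N, ¬ p ∣ orderOf n ∧ A.Rep n R f := by
  obtain ⟨n, hn, hrep⟩ := A.lift f hf
  have hRN : R ≤ normalizerIn S R := le_normalizerIn hR
  have hrep' := A.rep_of_repOn hrep hRN
  obtain ⟨a, ha⟩ := SubCent.prime_part (p := p) n
  obtain ⟨j, hj⟩ := hper.exists_mul a
  refine ⟨n ^ (p ^ a * j), A.N.pow_mem hn _, fun hd => ha (hd.trans ?_), ?_⟩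
  · rw [pow_mul]; exact orderOf_pow_dvd j
  · exact (hrep'.iterate (A := A) (fun x hx => hf.mem hx) hRN _).congr (A := A) fun x hx => (hj x hx).symm

variable (hc : Setup F p E)
include hc

set_option maxHeartbeats 1000000 in
theorem gen_eq {h g : Ω → Ω} (hh : IsGen F p E P h) (hg : IsGen F p E P g) (he : ∀ x ∈ P ⊓ T, h x = g x) :
    ∃ a ∈ P ⊓ T, a ∈ Subgroup.centralizer ((P ⊓ T : Subgroup Ω) : Set Ω) ∧ ∀ x ∈ P, h x = a * g x * a⁻¹ := by
  classical
  have hS := hc.pgroup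
  have hF := hc.sat
  have hT := hc.closed
  have hPS : P ≤ S := hh.iso.le_left
  haveI := hc.finT
  haveI := finite_of_le hPS
  have hUS : P ⊓ T ≤ S := inf_le_left.trans hPS
  -- to a fully normalised conjugate
  obtain ⟨U, hPU, hUn⟩ := F.exists_isFullyNormalized hUS
  obtain ⟨φ, hφ, hφr, ψ, hψ, hψN, hψe⟩ := hF.exists_map_to_fullyNormalized hS hUn hPU
  have hPN : P ≤ normalizerIn S (P ⊓ T) := fun x hx => ⟨hPS hx, Subgroup.mem_normalizer_iff.mpr fun y => by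
    have hxn := hT.le_normalizer (hPS hx)
    constructor
    · exact fun hy => ⟨P.mul_mem (P.mul_mem hx hy.1) (P.inv_mem hx), (Subgroup.mem_normalizer_iff.mp hxn y).mp hy.2⟩
    · rintro ⟨h1, h2⟩
      refine ⟨?_, (Subgroup.mem_normalizer_iff.mp hxn y).mpr h2⟩
      have := P.mul_mem (P.mul_mem (P.inv_mem hx) h1) hx
      simpa [mul_assoc] using this⟩
  obtain ⟨Q1, hQ1, hQ1r, hQ1m⟩ := (isIso_funOf hψ).restrict hPN
  have hQ1N : Q1 ≤ normalizerIn S U := hQ1r.trans (by rintro _ ⟨x, rfl⟩; exact hψN x)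
  have hQ1U : Q1 ⊓ T = U := by
    ext y
    rw [inter_image hT hQ1]
    constructor
    · rintro ⟨x, hx, rfl⟩
      rw [← funOf_apply ψ ⟨x, le_normalizerIn hUS hx⟩, hψe ⟨x, hx⟩]
      exact hφr.le ⟨_, rfl⟩
    · intro hy
      obtain ⟨x, hx⟩ := hφr.ge hy
      exact ⟨x, x.2, by rw [← funOf_apply ψ ⟨x, le_normalizerIn hUS x.2⟩, hψe x, hx]⟩
  -- to a fully normalised subgroup of the normaliser system
  set N1 := F.normalizerSystem U hUn.1
  haveI := finite_normalizerIn (S := S) (P := U)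
  have hN1p : IsPGroup p (normalizerIn S U) := hS.to_le normalizerIn_le
  have hN1s : N1.IsSaturated p := hF.isSaturated_normalizerSystem hS hUn (fun _ => rfl)
  obtain ⟨Q2, hQ12, hQ2n⟩ := N1.exists_isFullyNormalized hQ1N
  obtain ⟨θ, hθ, hθr⟩ := hQ12
  have hθ1 : N1.IsIso Q1 Q2 (funOf θ) := hθr ▸ isIso_funOf hθ
  have hUQ1 : U ≤ Q1 := hQ1U ▸ inf_le_left
  have hθU : ∀ x ∈ U, funOf θ x ∈ U := fun x hx => normalizerSystem_pres hUn.1 hθ1 hUQ1 hx
  have hθF := hθ1.mono (normalizerSystem_le hUn.1)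
  have hQ2U : Q2 ⊓ T = U := by
    ext y
    rw [inter_image hT hθF, hQ1U]
    exact (image_self hθF hUQ1 hθU y).symm
  have hχ := hQ1.comp hθF
  obtain ⟨h', hh', hh'e⟩ := hh.transport hc hχ
  obtain ⟨g', hg', hg'e⟩ := hg.transport hc hχ
  have he' : ∀ y ∈ U, h' y = g' y := by
    intro y hy
    rw [← hQ2U] at hy
    obtain ⟨x, hx, rfl⟩ := (inter_image hT hχ y).mp hy
    rw [hh'e x hx.1, hg'e x hx.1, he x hx]
  -- the local group
  have hQ2N : Q2 ≤ normalizerIn S U := hQ2n.1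
  have hUQ2 : U ≤ Q2 := hQ2U ▸ inf_le_left
  have hUc : E.IsCentric U := hQ2U ▸ hh'.centric
  have hUnE : E.IsFullyNormalized U := hUn.of_invariant hc.inv hS hF hUc.1
  obtain ⟨A⟩ := exists_loc hc hUc hUnE
  have hUN : U ≤ normalizerIn S U := le_normalizerIn hUn.1
  have hh'U : E.IsIso U U h' := hQ2U ▸ hh'.restr
  obtain ⟨k, hkN, hkord, hkrep⟩ := A.exists_pprime_rep hUn.1 hh'U (hh'.per.mono hUQ2)
  -- conjugation by `k` on `Q2`
  have hkQ : ∀ x ∈ Q2, ∃ y ∈ Q2, k * A.J x * k⁻¹ = A.J y := by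
    intro x hx
    obtain ⟨c, hc', hce⟩ := A.land_map hc hUnE hkrep hh'.iso hUQ2 hQ2N hQ2N (fun _ _ => rfl) hx
    refine ⟨h' x * c, Q2.mul_mem (hh'.iso.mem hx) (hUQ2 (hUc.centralizerIn_le_self ⟨?_, hc'.2⟩)), hce⟩
    have h1 := A.triv_N hkN (hQ2N hx) ((normalizerIn S U).mul_mem (hQ2N (hh'.iso.mem hx))
      (Loc.centralizerIn_le_NR hc')) hce
    have h2 := T.mul_mem (T.inv_mem (hh'.triv x hx)) h1
    simpa [mul_assoc] using h2
  obtain ⟨μ, Q3, hμ0, hμrep⟩ := A.rep_iso hQ2N (m := k) fun x hx => by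
    obtain ⟨y, hy, hye⟩ := hkQ x hx
    rw [hye]; exact A.J_mem_range (hQ2N hy)
  have hμ : F.IsIso Q2 Q2 μ := isIso_self hμ0 le_rfl fun x hx => by
    obtain ⟨y, hy, hye⟩ := hkQ x hx
    rwa [A.J_inj (hμrep x hx).1 (hQ2N hy) ((hμrep x hx).2.trans hye)]
  have hμU : ∀ x ∈ U, μ x = h' x := fun x hx =>
    (hμrep.restrict (A := A) hUQ2).eq (A := A) hkrep hx
  obtain ⟨μi, hμi, hμil, hμir⟩ := hμ.symm
  -- the automorphisms trivial on `U` and on the quotient by `U`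
  haveI := finite_autGroup (F := N1) hQ2N
  haveI := finite_mulAut_of_le (hQ2N.trans normalizerIn_le)
  let A0 : Subgroup (N1.autGroup Q2) :=
    { carrier := {α | (∀ x : Q2, (x : Ω) ∈ U → (α : MulAut Q2) x = x) ∧
        ∀ x : Q2, (x : Ω)⁻¹ * (((α : MulAut Q2) x : Q2) : Ω) ∈ U}
      one_mem' := ⟨fun x _ => rfl, fun x => by
        show (x : Ω)⁻¹ * (x : Ω) ∈ U
        rw [inv_mul_cancel]; exact U.one_mem⟩
      mul_mem' := by
        rintro α β ⟨ha, ha'⟩ ⟨hb, hb'⟩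
        refine ⟨fun x hx => ?_, fun x => ?_⟩
        · show (α : MulAut Q2) ((β : MulAut Q2) x) = x
          rw [hb x hx, ha x hx]
        · have := U.mul_mem (hb' x) (ha' ((β : MulAut Q2) x))
          simpa [mul_assoc] using this
      inv_mem' := by
        rintro α ⟨ha, ha'⟩
        refine ⟨fun x hx => ?_, fun x => ?_⟩
        · conv_lhs => rw [← ha x hx]
          exact MulAut.inv_apply_self _ _ _
        · have h1 := ha' ((α : MulAut Q2)⁻¹ x)
          rw [MulAut.apply_inv_self] at h1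
          have h2 := U.inv_mem h1
          simpa [mul_inv_rev] using h2 }
  have hpres : ∀ (α : N1.autGroup Q2) (x : Q2), (x : Ω) ∈ U → (((α : MulAut Q2) x : Q2) : Ω) ∈ U := by
    intro α x hx
    obtain ⟨fα, hfα, hfαe⟩ := isIso_of_aut hQ2N α.2
    rw [hfαe]
    exact normalizerSystem_pres hUn.1 hfα hUQ2 hx
  have hA0n : A0.Normal := by
    refine ⟨fun α hα β => ⟨fun x hx => ?_, fun x => ?_⟩⟩
    · show (β : MulAut Q2) ((α : MulAut Q2) (((β⁻¹ : N1.autGroup Q2) : MulAut Q2) x)) = x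
      rw [hα.1 _ (hpres β⁻¹ x hx)]
      exact MulAut.apply_inv_self _ _ _
    · show (x : Ω)⁻¹ * (((β : MulAut Q2) ((α : MulAut Q2) (((β⁻¹ : N1.autGroup Q2) : MulAut Q2) x))) : Q2) ∈ U
      set z := ((β⁻¹ : N1.autGroup Q2) : MulAut Q2) x
      have hx : x = (β : MulAut Q2) z := (MulAut.apply_inv_self _ _ _).symm
      have h1 := hpres β (z⁻¹ * (α : MulAut Q2) z) (hα.2 z)
      rw [map_mul, map_inv, ← hx] at h1
      exact h1
  have hA0p : IsPGroup p A0 := by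
    rintro ⟨α, hα1, hα2⟩
    haveI := finite_of_le (hUQ2.trans (hQ2N.trans normalizerIn_le))
    obtain ⟨a, ha⟩ := IsPGroup.iff_card.mp (hS.to_le hUn.1)
    refine ⟨a, Subtype.ext (Subtype.ext (MulEquiv.ext fun x => ?_))⟩
    show (((α ^ p ^ a : N1.autGroup Q2)) : MulAut Q2) x = x
    have hit : ∀ i : ℕ, (((α ^ i : N1.autGroup Q2)) : MulAut Q2) x =
        x * (x⁻¹ * (α : MulAut Q2) x) ^ i := by
      intro i
      induction i with
      | zero => simp
      | succ i ih =>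
        rw [pow_succ', Subgroup.coe_mul, MulAut.mul_apply, ih, map_mul, map_pow,
          hα1 (x⁻¹ * (α : MulAut Q2) x) (hα2 x),
          pow_succ', ← mul_assoc, mul_inv_cancel_left]
    rw [hit]
    have h1 : (⟨((x⁻¹ * (α : MulAut Q2) x : Q2) : Ω), hα2 x⟩ : U) ^ p ^ a = (1 : U) := by
      rw [← ha]; exact pow_card_eq_one'
    have h2 : (x⁻¹ * (α : MulAut Q2) x) ^ p ^ a = 1 := Subtype.ext (by
      rw [SubmonoidClass.coe_pow]; exact congrArg Subtype.val h1)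
    rw [h2, mul_one]
  obtain ⟨-, PA, hPA⟩ := hN1s.isFullyAutomized_of_isFullyNormalized hN1p hQ2n
  -- the discrepancy is inner
  have key : ∀ f' : Ω → Ω, IsGen F p E Q2 f' → (∀ x ∈ U, f' x = h' x) →
      ∃ a ∈ U, a ∈ Subgroup.centralizer (U : Set Ω) ∧ ∀ x ∈ Q2, f' x = μ (a * x * a⁻¹) := by
    intro f' hf' hf'e
    have hδ : F.IsIso Q2 Q2 (fun x => μi (f' x)) := hf'.iso.comp hμi
    have hδU : ∀ x ∈ U, μi (f' x) = x := fun x hx => by
      rw [hf'e x hx, ← hμU x hx, hμil x (hUQ2 hx)]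
    have hδtriv : ∀ x ∈ Q2, x⁻¹ * μi (f' x) ∈ U := by
      intro x hx
      have hm : μi (f' x) ∈ Q2 := hμi.mem (hf'.iso.mem hx)
      rw [← hQ2U]
      refine ⟨Q2.mul_mem (Q2.inv_mem hx) hm, ?_⟩
      have h1 : (f' x) = μ (μi (f' x)) := (hμir _ (hf'.iso.mem hx)).symm
      have h2 := A.triv_N hkN (hQ2N hm) (hμrep _ hm).1 (hμrep _ hm).2.symm
      rw [← h1] at h2
      have h3 := T.mul_mem (hf'.triv x hx) (T.inv_mem h2)
      simpa [mul_assoc, mul_inv_rev] using h3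
    have hδN1 : N1.IsIso Q2 Q2 (fun x => μi (f' x)) :=
      mem_normalizerSystem hUn.1 hδ hQ2N hQ2N hUQ2 fun x hx => by rw [hδU x hx]; exact hx
    obtain ⟨δ, hδm, hδe⟩ := hδN1.toAut
    have hδA : (⟨δ, hδm⟩ : N1.autGroup Q2) ∈ A0 := ⟨fun x hx => Subtype.ext ((hδe x).trans (hδU x hx)),
      fun x => by
        show (x : Ω)⁻¹ * ((δ x : Q2) : Ω) ∈ U
        rw [hδe]; exact hδtriv x x.2⟩
    obtain ⟨c, hcN, hcn, hce⟩ := mem_autInducedBy_iff.mp
      (hPA.le (SubCent.le_sylow PA hA0n hA0p hδA) : δ ∈ autInducedBy (normalizerIn S U) Q2)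
    have hcC : c ∈ centralizerIn S U := ⟨hcN.1, Subgroup.mem_centralizer_iff.mpr fun x hx => by
      have h1 : c * x * c⁻¹ = x := ((hce ⟨x, hUQ2 hx⟩).symm.trans (hδe ⟨x, hUQ2 hx⟩)).trans (hδU x hx)
      calc x * c = c * x * c⁻¹ * c := by rw [h1]
        _ = c * x := by group⟩
    have hf'c : ∀ x ∈ Q2, f' x = μ (c * x * c⁻¹) := fun x hx => by
      rw [← show μi (f' x) = c * x * c⁻¹ from (hδe ⟨x, hx⟩).symm.trans (hce ⟨x, hx⟩), hμir _ (hf'.iso.mem hx)]
    -- `c` acts as an element of the centre of `U`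
    have hcNR : c ∈ normalizerIn S U := hcN
    set l := k * A.J c with hl
    have hlrep : A.Rep l Q2 f' := fun x hx => by
      have hm : c * x * c⁻¹ ∈ Q2 := (Subgroup.mem_normalizer_iff.mp hcn x).mp hx
      refine ⟨hQ2N (hf'.iso.mem hx), ?_⟩
      rw [hf'c x hx, (hμrep _ hm).2, A.J_conj hcNR (hQ2N hx), hl]
      group
    obtain ⟨n, hn, hnper⟩ := hf'.per
    set i := n * orderOf k with hi
    have hli : ∀ x ∈ Q2, l ^ i * A.J x * (l ^ i)⁻¹ = A.J x := fun x hx => by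
      have h1 := ((hlrep.iterate (A := A) (fun z hz => hf'.iso.mem hz) hQ2N i) x hx).2
      have h2 : f'^[i] x = x := by
        rw [hi, Function.iterate_mul]
        exact Function.iterate_fixed (hnper x hx) _
      rw [h2] at h1
      exact h1.symm
    let Z : Subgroup A.L := A.N ⊓ Subgroup.centralizer (((U.subgroupOf (normalizerIn S U)).map A.j : Subgroup A.L) : Set A.L)
    haveI := A.normN
    haveI := A.normR
    haveI hZn : Z.Normal := inferInstance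
    have hzC : A.J c ∈ Subgroup.centralizer (((U.subgroupOf (normalizerIn S U)).map A.j : Subgroup A.L) : Set A.L) := by
      refine Subgroup.mem_centralizer_iff.mpr ?_
      rintro _ ⟨u, hu, rfl⟩
      rw [← A.J_coe, ← A.J_mul u.2 hcNR, ← A.J_mul hcNR u.2, Subgroup.mem_centralizer_iff.mp hcC.2 u hu]
    have hcomm : (A.J c)⁻¹ * k⁻¹ * A.J c * k ∈ Z := by
      refine ⟨?_, ?_⟩
      · exact A.N.mul_mem (by simpa using A.normN.conj_mem _ (A.N.inv_mem hkN) (A.J c)⁻¹) hkN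
      · rw [mul_assoc, mul_assoc, ← mul_assoc k⁻¹]
        refine mul_mem ((Subgroup.centralizer _).inv_mem hzC) ?_
        simpa using (Subgroup.normal_centralizer (H := (U.subgroupOf (normalizerIn S U)).map A.j)).conj_mem _ hzC k⁻¹
    have hzi : ((k * A.J c : A.L) : A.L ⧸ Z) ^ i = (A.J c : A.L ⧸ Z) ^ i := by
      have hcom : Commute (k : A.L ⧸ Z) (A.J c : A.L ⧸ Z) := by
        show (k : A.L ⧸ Z) * (A.J c : A.L ⧸ Z) = (A.J c : A.L ⧸ Z) * (k : A.L ⧸ Z)
        rw [← QuotientGroup.mk_mul, ← QuotientGroup.mk_mul, QuotientGroup.eq,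
          show (k * A.J c)⁻¹ * (A.J c * k) = (A.J c)⁻¹ * k⁻¹ * A.J c * k by group]
        exact hcomm
      rw [QuotientGroup.mk_mul, hcom.mul_pow]
      rw [show (k : A.L ⧸ Z) ^ i = 1 by
        rw [← QuotientGroup.mk_pow, hi, mul_comm, pow_mul, pow_orderOf_eq_one, one_pow]; rfl, one_mul]
    let Cq : Subgroup A.L := Subgroup.centralizer (A.J '' (Q2 : Set Ω))
    have hliC : l ^ i ∈ Cq := Subgroup.mem_centralizer_iff.mpr (by
      rintro _ ⟨x, hx, rfl⟩
      calc A.J x * l ^ i = l ^ i * A.J x * (l ^ i)⁻¹ * l ^ i := by rw [hli x hx]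
        _ = l ^ i * A.J x := by group)
    have hziC : A.J c ^ i ∈ Cq ⊔ Z := by
      have h1 : (l ^ i)⁻¹ * A.J c ^ i ∈ Z := by
        rw [← QuotientGroup.eq, QuotientGroup.mk_pow, QuotientGroup.mk_pow]
        exact hzi
      have h2 := Subgroup.mul_mem_sup hliC h1
      rwa [mul_inv_cancel_left] at h2
    have hzC' : A.J c ∈ Cq ⊔ Z := by
      obtain ⟨b, hb⟩ := hc.exists_pow_one (hcN.1)
      have hzb : A.J c ^ p ^ b = 1 := by
        rw [A.J_eq hcNR, ← map_pow, ← map_one A.j]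
        exact congrArg A.j (Subtype.ext hb)
      have hip : ¬ p ∣ i := fun hd => ((Fact.out : p.Prime).dvd_mul.mp hd).elim hn hkord
      obtain ⟨t, ht⟩ := exists_pow_eq_self_of_coprime (x := A.J c) (n := i) (by
        refine Nat.Coprime.coprime_dvd_right (orderOf_dvd_of_pow_eq_one hzb) ?_
        exact (Nat.Coprime.pow_right b ((Nat.Prime.coprime_iff_not_dvd Fact.out).mpr hip).symm))
      rw [← ht]
      exact (Cq ⊔ Z).pow_mem hziC t
    obtain ⟨w0, hw0, w, hw, hwe⟩ := Subgroup.mem_sup_of_normal_right.mp hzC'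
    obtain ⟨a, haT, hae⟩ := A.cent w hw.1 fun r hr => by
      have h1 := Subgroup.mem_centralizer_iff.mp hw.2 (A.j r) ⟨r, hr, rfl⟩
      rw [← h1, mul_inv_cancel_right]
    have haU : (a : Ω) ∈ U := hUc.centralizerIn_le_self haT
    refine ⟨a, haU, haT.2, fun x hx => ?_⟩
    rw [hf'c x hx]
    congr 1
    have haQ := hUQ2 haU
    have hxa : (a : Ω) * x * (a : Ω)⁻¹ ∈ Q2 := Q2.mul_mem (Q2.mul_mem haQ hx) (Q2.inv_mem haQ)
    refine A.J_inj ?_ (hQ2N hxa) ?_
    · exact (normalizerIn S U).mul_mem ((normalizerIn S U).mul_mem hcNR (hQ2N hx)) ((normalizerIn S U).inv_mem hcNR)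
    · rw [A.J_conj hcNR (hQ2N hx), A.J_conj a.2 (hQ2N hx), A.J_coe, hae, ← hwe]
      have h3 := Subgroup.mem_centralizer_iff.mp hw0 (w * A.J x * w⁻¹) ⟨(a : Ω) * x * (a : Ω)⁻¹, hxa, by
        rw [A.J_conj a.2 (hQ2N hx), A.J_coe, hae]⟩
      calc w0 * w * A.J x * (w0 * w)⁻¹ = w0 * (w * A.J x * w⁻¹) * w0⁻¹ := by group
        _ = w * A.J x * w⁻¹ * w0 * w0⁻¹ := by rw [h3]
        _ = _ := by group
  obtain ⟨a, ha, haC, hae⟩ := key h' hh' fun _ _ => rfl
  obtain ⟨b, hb, hbC, hbe⟩ := key g' hg' fun x hx => (he' x hx).symm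
  -- back to `P`
  set z := μ (a * b⁻¹) with hz
  have hab : a * b⁻¹ ∈ U := U.mul_mem ha (U.inv_mem hb)
  have habC : a * b⁻¹ ∈ Subgroup.centralizer (U : Set Ω) := mul_mem haC ((Subgroup.centralizer _).inv_mem hbC)
  have hzU : z ∈ U := by rw [hz, hμU _ hab]; exact hh'U.mem hab
  have hzC : z ∈ Subgroup.centralizer (U : Set Ω) :=
    hμ.mem_centralizer hUQ2 (image_self hμ hUQ2 fun x hx => by rw [hμU x hx]; exact hh'U.mem hx) (hUQ2 hab) habC
  have hz' : ∀ y ∈ Q2, h' y = z * g' y * z⁻¹ := by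
    intro y hy
    have hbQ := hUQ2 hb
    have hby : b * y * b⁻¹ ∈ Q2 := Q2.mul_mem (Q2.mul_mem hbQ hy) (Q2.inv_mem hbQ)
    rw [hae y hy, hbe y hy, hz, ← hμ.apply_conj (hUQ2 hab) hby]
    congr 1
    group
  rw [← hQ2U] at hzU
  obtain ⟨a0, ha0, ha0z⟩ := (inter_image hT hχ z).mp hzU
  refine ⟨a0, ha0, Subgroup.mem_centralizer_iff.mpr fun x hx => ?_, fun x hx => ?_⟩
  · refine hχ.inj (P.mul_mem hx.1 ha0.1) (P.mul_mem ha0.1 hx.1) ?_
    rw [hχ.apply_mul hx.1 ha0.1, hχ.apply_mul ha0.1 hx.1, ha0z]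
    refine Subgroup.mem_centralizer_iff.mp hzC _ ?_
    rw [← hQ2U]
    exact (inter_image hT hχ _).mpr ⟨x, hx, rfl⟩
  · refine hχ.inj (hh.iso.mem hx) (P.mul_mem (P.mul_mem ha0.1 (hg.iso.mem hx)) (P.inv_mem ha0.1)) ?_
    rw [hχ.apply_conj ha0.1 (hg.iso.mem hx), ha0z, ← hh'e x hx, ← hg'e x hx]
    exact hz' _ (hχ.mem hx)

end Cfsg.FusionSystem.Product
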