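import Cfsg.Agent.Lib.Fusion.Product.LevelUp

/-!
Maps of the generated system over a good subgroup are the maps of its local groups.
-/

set_option autoImplicit false
set_option linter.unusedSectionVars false
set_option linter.unusedVariables false
set_option linter.style.haveILetI false

namespace Cfsg.FusionSystem.Product

open Cfsg.FusionSystem.SubCent (isIso_self iterate_isIso)

universe u

variable {Ω : Type u} [Group Ω] {S T : Subgroup Ω} {F : FusionSystem S} {E : FusionSystem T}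
  {P P' Q R U V D : Subgroup Ω} {f g φ : Ω → Ω} {p : ℕ}

/-- `φ` on `D`, read in chosen coordinates over `R`, comes from the local group. -/
def Linked (hc : Setup F p E) (A : Loc F p E R) (γ : Subgroup Ω → Ω → Ω) (D : Subgroup Ω) (φ : Ω → Ω) : Prop :=
  ∀ P P' : Subgroup Ω, P ≤ D → F.IsIso P P' φ → (amb hc).IsConj (P ⊓ T) R →
    (∀ c ∈ centralizerIn S R, ∃ x ∈ P, γ (P ⊓ T) x = c) →
    ∃ m : A.L, ∀ x ∈ P, A.J (γ (P' ⊓ T) (φ x)) = m * A.J (γ (P ⊓ T) x) * m⁻¹

/-- Coordinates over `R`, trivial at `R`. -/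
structure Coords (hc : Setup F p E) (R : Subgroup Ω) (γ : Subgroup Ω → Ω → Ω) : Prop where
  coord : ∀ U, (amb hc).IsConj U R → Coord (prodSys hc) U R (γ U)
  self : γ R = fun x => x

theorem Linked.congr {hc : Setup F p E} {A : Loc F p E R} {γ : Subgroup Ω → Ω → Ω} (h : Linked hc A γ D φ)
    (he : ∀ x ∈ D, g x = φ x) : Linked hc A γ D g := by
  intro P P' hPD hg hU hC
  obtain ⟨m, hm⟩ := h P P' hPD (hg.congr fun x hx => (he x (hPD hx)).symm) hU hC
  exact ⟨m, fun x hx => by rw [he x (hPD hx)]; exact hm x hx⟩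

variable [Finite S] [Fact p.Prime]

theorem exists_coords (hc : Setup F p E) (hR : Good F p E R) : ∃ γ, Coords hc R γ := by
  classical
  have h : ∀ U, ∃ γ : Ω → Ω, ((amb hc).IsConj U R → Coord (prodSys hc) U R γ) := fun U => by
    by_cases hU : (amb hc).IsConj U R
    · obtain ⟨φ, hφ, hr⟩ := hU.symm
      have hUc : E.IsCentric U :=
        hc.inv.isCentric_of_isIso hR.centric (((hr ▸ isIso_funOf hφ) : (amb hc).IsIso R U (funOf φ)).mono (amb_le hc))
      obtain ⟨γ, hγ⟩ := exists_coord (big_prodSys hc) hUc hR hU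
      exact ⟨γ, fun _ => hγ⟩
    · exact ⟨fun x => x, fun h => absurd h hU⟩
  choose γ hγ using h
  refine ⟨Function.update γ R fun x => x, fun U hU => ?_, Function.update_self _ _ _⟩
  rcases eq_or_ne U R with rfl | hne
  · rw [Function.update_self]
    exact ⟨_, IsIso.refl _ normalizerIn_le, le_rfl, fun y =>
      ⟨fun hy => ⟨y, hy, rfl⟩, fun ⟨x, hx, he⟩ => he ▸ hx⟩⟩
  · rw [Function.update_of_ne hne]; exact hγ U hU

theorem inter_amb (hc : Setup F p E) (hφ : (amb hc).IsIso P Q f) : (amb hc).IsIso (P ⊓ T) (Q ⊓ T) f :=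
  hφ.restrict' inf_le_left (inter_image hc.closed (hφ.mono (amb_le hc)))

theorem conj_of_map (hc : Setup F p E) (hφ : (amb hc).IsIso P Q f) (hU : (amb hc).IsConj (P ⊓ T) R) :
    (amb hc).IsConj (Q ⊓ T) R :=
  (inter_amb hc hφ).isConj.symm.trans hU

theorem coord_mem {hc : Setup F p E} {γ : Subgroup Ω → Ω → Ω} (hγ : Coords hc R γ) (hP : P ≤ S)
    (hU : (amb hc).IsConj (P ⊓ T) R) {x : Ω} (hx : x ∈ P) : γ (P ⊓ T) x ∈ normalizerIn S R := by
  obtain ⟨D, hD, hle, -⟩ := hγ.coord _ hU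
  exact hle (hD.mem (le_normalizer_inter hc hP hx))

set_option maxHeartbeats 1000000 in
/-- The condition propagates from a larger domain. -/
theorem linked_step (hc : Setup F p E) (hR : Good F p E R)
    (ih : ∀ R' : Subgroup Ω, Good F p E R' → Nat.card R < Nat.card R' → LocalHolds hc R') (A : Loc F p E R)
    {γ : Subgroup Ω → Ω → Ω} (hγ : Coords hc R γ) {P1 P1' : Subgroup Ω} (hφ : F.IsIso P P' φ)
    (hφ1 : (prodSys hc).IsIso P1 P1' φ) (hPP : P ≤ P1) (hP1 : P1 ≤ normalizerIn S (P ⊓ T))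
    (hU : (amb hc).IsConj (P ⊓ T) R) (hC : ∀ c ∈ centralizerIn S R, ∃ x ∈ P, γ (P ⊓ T) x = c)
    (hlt : P ⊓ T < P1 ⊓ T) :
    ∃ m : A.L, ∀ x ∈ P, A.J (γ (P' ⊓ T) (φ x)) = m * A.J (γ (P ⊓ T) x) * m⁻¹ := by
  have hX := big_prodSys hc
  have hφ1F := hφ1.mono (prodSys_le_F hc)
  obtain ⟨P'', hφP, -, hP''⟩ := (hφ1.mono hX.le).restrict hPP
  have hPP' : P'' = P' := Subgroup.ext fun y => (hP'' y).trans
    ⟨fun ⟨x, hx, he⟩ => he ▸ hφ.mem hx, fun hy => hφ.surj hy⟩
  rw [hPP'] at hφP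
  have hU' := conj_of_map hc hφP hU
  obtain ⟨D, hD, hDle, hRm⟩ := hγ.coord _ hU
  obtain ⟨D', hD', hD'le, hR'm⟩ := hγ.coord _ hU'
  have hUm := inter_image hc.closed hφ
  have hUP1 : P ⊓ T ≤ P1 := inf_le_left.trans hPP
  obtain ⟨D0, hD0, hD0D, -⟩ := hD.restrict hP1
  have hP1' : P1' ≤ normalizerIn S (P' ⊓ T) := fun y hy => by
    obtain ⟨x, hx, rfl⟩ := hφ1.surj hy
    exact ⟨hφ1.le_right hy, hφ1F.mem_normalizer hUP1 hUm hx (hP1 hx).2⟩
  obtain ⟨D0', hD0', -, -⟩ := hD'.restrict hP1'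
  obtain ⟨γi, hγi, hγl, -⟩ := hD0.symm
  have hψ : (prodSys hc).IsIso D0 D0' (fun y => γ (P' ⊓ T) (φ (γi y))) := (hγi.comp hφ1).comp hD0'
  have hRD0 : R ≤ D0 := fun y hy => by
    obtain ⟨x, hx, rfl⟩ := (hRm y).mp hy
    exact hD0.mem (hUP1 hx)
  obtain ⟨m, hm⟩ := level_up hc hR ih A hψ hRD0 (fun c hc' => by
      obtain ⟨x, hx, rfl⟩ := hC c hc'
      exact hD0.mem (hPP hx))
    (hD0D.trans hDle) (fun y hy => by
      obtain ⟨x, hx, rfl⟩ := (hRm y).mp hy
      rw [hγl x (hUP1 hx)]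
      exact (hR'm _).mpr ⟨φ x, (hUm _).mpr ⟨x, hx, rfl⟩, rfl⟩)
    (lt_of_le_of_ne (le_inf hRD0 hR.centric.1) fun e => by
      obtain ⟨x, hx, hxU⟩ := SetLike.exists_of_lt hlt
      have h1 : γ (P ⊓ T) x ∈ R := e.ge
        ⟨hD0.mem hx.1, hc.closed.iso_mem (hD0.mono (prodSys_le_F hc)) hx.1 hx.2⟩
      obtain ⟨u, hu, hue⟩ := (hRm _).mp h1
      exact hxU (hD0.inj hx.1 (hUP1 hu) hue.symm ▸ hu))
  refine ⟨m, fun x hx => ?_⟩
  have h1 : A.J (γ (P' ⊓ T) (φ (γi (γ (P ⊓ T) x)))) = m * A.J (γ (P ⊓ T) x) * m⁻¹ :=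
    (hm _ (hD0.mem (hPP hx))).2
  rwa [hγl x (hPP hx)] at h1

theorem linked_conj (hc : Setup F p E) (hR : Good F p E R)
    (ih : ∀ R' : Subgroup Ω, Good F p E R' → Nat.card R < Nat.card R' → LocalHolds hc R') (A : Loc F p E R)
    {γ : Subgroup Ω → Ω → Ω} (hγ : Coords hc R γ) (hD : D ≤ S) {s : Ω} (hs : s ∈ S) :
    Linked hc A γ D (fun x => s * x * s⁻¹) := by
  intro P P' hPD hφ hU hC
  haveI := hc.finT
  have hPS : P ≤ S := hPD.trans hD
  rcases eq_or_ne (P ⊓ T) T with hT | hT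
  · -- then `R` is `T`
    have hRT : R = T := Subgroup.eq_of_le_of_card_ge hR.centric.1
      (by rw [← hU.card_eq, hT])
    have hT' : P' ⊓ T = T := by
      refine Subgroup.eq_of_le_of_card_ge inf_le_right ?_
      rw [← (inter_iso hc.closed hφ).card_eq, hT]
    have hsN : s ∈ normalizerIn S R := ⟨hs, hRT ▸ hc.closed.le_normalizer hs⟩
    refine ⟨A.J s, fun x hx => ?_⟩
    rw [hT, hT', show γ T = fun x => x from hRT ▸ hγ.self]
    exact A.J_conj hsN ⟨hPS hx, hRT ▸ hc.closed.le_normalizer (hPS hx)⟩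
  · refine linked_step hc hR ih A hγ hφ (isIso_conj normalizerIn_le hs) (le_normalizer_inter hc hPS) le_rfl hU hC ?_
    refine lt_of_lt_of_le (lt_normalizerIn hc.tgroup (lt_of_le_of_ne inf_le_right hT)) ?_
    exact fun x hx => ⟨⟨hc.le_S hx.1, hx.2⟩, hx.1⟩

set_option maxHeartbeats 1000000 in
theorem linked_gen (hc : Setup F p E) (hR : Good F p E R)
    (ih : ∀ R' : Subgroup Ω, Good F p E R' → Nat.card R < Nat.card R' → LocalHolds hc R') (A : Loc F p E R)
    {γ : Subgroup Ω → Ω → Ω} (hγ : Coords hc R γ) {h : Ω → Ω} (hh : IsGen F p E D h) :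
    Linked hc A γ D h := by
  intro P P' hPD hφ hU hC
  haveI := hc.finT
  have hDS : D ≤ S := hh.iso.le_left
  have hPS : P ≤ S := hPD.trans hDS
  have hgen := hasGens_prodSys hc D h hh
  rcases eq_or_ne (P ⊓ T) (D ⊓ T) with he | hne
  · -- the part in `T` is fixed
    have hU'e : P' ⊓ T = P ⊓ T := by
      haveI : Finite ↥(P ⊓ T : Subgroup Ω) := finite_of_le (inf_le_left.trans hPS)
      refine Subgroup.eq_of_le_of_card_ge (fun y hy => ?_) (by rw [← (inter_iso hc.closed hφ).card_eq])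
      obtain ⟨x, hx, rfl⟩ := (inter_image hc.closed hφ y).mp hy
      rw [he] at hx ⊢
      exact (inter_iso hc.closed hh.iso).mem hx
    rw [hU'e]
    obtain ⟨D0, hD0, hD0le, hRm⟩ := hγ.coord _ hU
    have hDN : D ≤ normalizerIn S (P ⊓ T) := he ▸ le_normalizer_inter hc hDS
    obtain ⟨D1, hD1, hD1D, -⟩ := hD0.restrict hDN
    have hD1N : D1 ≤ normalizerIn S R := hD1D.trans hD0le
    have hD1F := hD1.mono (prodSys_le_F hc)
    obtain ⟨h', hh', hh'e⟩ := hh.transport hc hD1F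
    have hD1T : D1 ⊓ T = R := Subgroup.ext fun y => by rw [inter_image hc.closed hD1F, ← he, hRm]
    have hRD1 : R ≤ D1 := hD1T ▸ inf_le_left
    have hCD1 : centralizerIn S R ≤ D1 := fun c hc' => by
      obtain ⟨x, hx, rfl⟩ := hC c hc'
      exact hD1.mem (hPD hx)
    have hRS : R ≤ S := hR.centric.1.trans hc.le_S
    have hh'R : E.IsIso R R h' := by have := hh'.restr; rwa [hD1T] at this
    obtain ⟨n, hn, hord, hrep⟩ := A.exists_pprime_rep hRS hh'R (hh'.per.mono hRD1)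
    have hland : ∀ x ∈ D1, ∃ y ∈ D1, A.J y = n * A.J x * n⁻¹ := fun x hx => by
      obtain ⟨c, hc', hce⟩ := A.land_map hc hR.norm hrep hh'.iso hRD1 hD1N hD1N (fun r _ => rfl) hx
      exact ⟨_, D1.mul_mem (hh'.iso.mem hx) (hCD1 hc'), hce.symm⟩
    obtain ⟨k0, Q0, -, hk0⟩ := A.rep_iso hD1N (m := n) fun x hx => by
      obtain ⟨y, hy, hye⟩ := hland x hx
      rw [← hye]; exact A.J_mem_range (hD1N hy)
    have hk0m : ∀ x ∈ D1, k0 x ∈ D1 := fun x hx => by
      obtain ⟨y, hy, hye⟩ := hland x hx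
      rwa [A.J_inj (hk0 x hx).1 (hD1N hy) ((hk0 x hx).2.trans hye.symm)]
    obtain ⟨a, ha, -, hae⟩ := gen_eq hc hh' (gen_of_rep hc hR A hn hord hRD1 hD1N hk0 hk0m) fun x hx => by
      rw [hD1T] at hx
      exact hrep.eq (A := A) (hk0.restrict (A := A) hRD1) hx
    refine ⟨A.J a * n, fun x hx => ?_⟩
    have hx1 := hD1.mem (hPD hx)
    rw [← hh'e x (hPD hx), hae _ hx1, A.J_conj (hD1N ha.1) (hD1N (hk0m _ hx1)), (hk0 _ hx1).2]
    group
  · obtain ⟨P1', hP1', -, -⟩ := hgen.restrict (inf_le_left : D ⊓ Subgroup.normalizer ((P ⊓ T : Subgroup Ω) : Set Ω) ≤ D)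
    refine linked_step hc hR ih A hγ hφ hP1' (fun x hx => ⟨hPD hx, (le_normalizer_inter hc hPS hx).2⟩)
      (fun x hx => ⟨hDS hx.1, hx.2⟩) hU hC ?_
    haveI : Finite ↥(D ⊓ T : Subgroup Ω) := finite_of_le (inf_le_left.trans hDS)
    have h1 := lt_normalizerIn (hc.tgroup.to_le (inf_le_right : D ⊓ T ≤ T))
      (lt_of_le_of_ne (inf_le_inf_right T hPD) hne)
    exact lt_of_lt_of_le h1 fun x hx => ⟨⟨hx.1.1, hx.2⟩, hx.1.2⟩

set_option maxHeartbeats 1000000 in
/-- The maps whose readings come from the local group form a system. -/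
def linkedSys (hc : Setup F p E) (hR : Good F p E R)
    (ih : ∀ R' : Subgroup Ω, Good F p E R' → Nat.card R < Nat.card R' → LocalHolds hc R') (A : Loc F p E R)
    {γ : Subgroup Ω → Ω → Ω} (hγ : Coords hc R γ) : FusionSystem S where
  Hom P := {φ | φ ∈ (prodSys hc).Hom P ∧ Linked hc A γ P (funOf φ)}
  le_of_mem h := (prodSys hc).le_of_mem h.1
  injective_of_mem h := (prodSys hc).injective_of_mem h.1
  conj_mem := by
    intro P g hP hg
    exact ⟨(prodSys hc).conj_mem hP hg, (linked_conj hc hR ih A hγ hP hg).congr fun x hx =>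
      (funOf_apply (conjHom P g) ⟨x, hx⟩).symm⟩
  comp_mem := by
    intro D D2 φ ψ hφ hψ hle
    refine ⟨(prodSys hc).comp_mem hφ.1 hψ.1 hle, ?_⟩
    have he : ∀ x ∈ D, funOf (ψ.comp (φ.codRestrict D2 hle)) x = funOf ψ (funOf φ x) := fun x hx => by
      rw [← funOf_apply (ψ.comp (φ.codRestrict D2 hle)) ⟨x, hx⟩, ← funOf_apply φ ⟨x, hx⟩]
      exact funOf_apply ψ ⟨φ ⟨x, hx⟩, hle _⟩
    intro P P' hPD hφψ hU hC
    have hφi := isIso_funOf hφ.1
    obtain ⟨P1, hP1, hP1r, hP1m⟩ := hφi.restrict hPD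
    have hP1F := hP1.mono (prodSys_le_F hc)
    have hP1D : P1 ≤ D2 := hP1r.trans (by rintro _ ⟨x, rfl⟩; exact hle x)
    obtain ⟨P2, hP2, -, hP2m⟩ := ((isIso_funOf hψ.1).mono (prodSys_le_F hc)).restrict hP1D
    have hP2e : P2 = P' := Subgroup.ext fun y => by
      rw [hP2m]
      constructor
      · rintro ⟨z, hz, rfl⟩
        obtain ⟨x, hx, rfl⟩ := (hP1m z).mp hz
        rw [← he x (hPD hx)]
        exact hφψ.mem hx
      · intro hy
        obtain ⟨x, hx, rfl⟩ := hφψ.surj hy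
        exact ⟨_, hP1.mem hx, (he x (hPD hx)).symm⟩
    rw [hP2e] at hP2
    obtain ⟨m1, hm1⟩ := hφ.2 P P1 hPD hP1F hU hC
    have hU1 := conj_of_map hc (hP1.mono (prodSys_le_amb hc)) hU
    obtain ⟨m2, hm2⟩ := hψ.2 P1 P' hP1D hP2 hU1 fun c hc' => by
      obtain ⟨c0, hc0, hc0e⟩ := A.conj_cent hc hR.norm (m := m1⁻¹) hc'
      obtain ⟨x, hx, hxe⟩ := hC c0 hc0
      refine ⟨funOf φ x, hP1.mem hx, A.J_inj (coord_mem hγ hP1.le_right hU1 (hP1.mem hx))
        (Loc.centralizerIn_le_NR hc') ?_⟩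
      rw [hm1 x hx, hxe, hc0e]
      group
    refine ⟨m2 * m1, fun x hx => ?_⟩
    rw [he x (hPD hx), hm2 _ (hP1.mem hx), hm1 x hx]
    group
  inv_mem := by
    intro D φ hφ
    obtain ⟨ψ, hψ, hψe⟩ := (prodSys hc).inv_mem hφ.1
    refine ⟨ψ, ⟨hψ, ?_⟩, hψe⟩
    intro P P' hPD hψP hU hC
    have hl : ∀ x ∈ D, funOf ψ (funOf φ x) = x := fun x hx => by
      rw [← funOf_apply φ ⟨x, hx⟩]
      exact (funOf_apply ψ ⟨φ ⟨x, hx⟩, ⟨x, hx⟩, rfl⟩).symm.trans (hψe _)
    have hr : ∀ y ∈ φ.range, funOf φ (funOf ψ y) = y := by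
      rintro _ ⟨x, rfl⟩
      rw [show funOf ψ (φ x) = x by rw [funOf_apply φ x]; exact hl x x.2]
      exact (funOf_apply φ x).symm
    have hP'D : P' ≤ D := fun z hz => by
      obtain ⟨y, hy, rfl⟩ := hψP.surj hz
      obtain ⟨x, rfl⟩ := hPD hy
      rw [funOf_apply φ x, hl x x.2]
      exact x.2
    obtain ⟨g, hg, hgl, -⟩ := hψP.symm
    have hφP : F.IsIso P' P (funOf φ) := hg.congr fun z hz => by
      obtain ⟨y, hy, rfl⟩ := hψP.surj hz
      rw [hgl y hy, hr y (hPD hy)]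
    have hamb : (amb hc).IsIso P' P (funOf φ) := by
      obtain ⟨P2, hP2, -, hP2m⟩ := ((isIso_funOf hφ.1).mono (prodSys_le_amb hc)).restrict hP'D
      rwa [show P = P2 from Subgroup.ext fun y => by
        rw [hP2m]; exact ⟨fun hy => hφP.surj hy, fun ⟨x, hx, he⟩ => he ▸ hφP.mem hx⟩]
    have hU' : (amb hc).IsConj (P' ⊓ T) R := (inter_amb hc hamb).isConj.trans hU
    obtain ⟨m, hm⟩ := hφ.2 P' P hP'D hφP hU' (by
      -- counting in the centraliser
      haveI := finite_centralizerIn (S := S) (P := R)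
      obtain ⟨D0, hD0, -, hRm⟩ := hγ.coord _ hU
      obtain ⟨D0', hD0', -, hR'm⟩ := hγ.coord _ hU'
      choose x hx hxe using hC
      have hPN := le_normalizer_inter hc hψP.le_left
      have hP'N := le_normalizer_inter hc hψP.le_right
      have hcen : ∀ c (hc' : c ∈ centralizerIn S R),
          γ (P' ⊓ T) (funOf ψ (x c hc')) ∈ centralizerIn S R := by
        intro c hc'
        have hxU : x c hc' ∈ Subgroup.centralizer ((P ⊓ T : Subgroup Ω) : Set Ω) := by
          refine Subgroup.mem_centralizer_iff.mpr fun u hu => ?_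
          have hu' : u ∈ normalizerIn S (P ⊓ T) := hPN hu.1
          have hx' := hPN (hx c hc')
          refine hD0.inj (mul_mem hu' hx') (mul_mem hx' hu') ?_
          rw [hD0.apply_mul hu' hx', hD0.apply_mul hx' hu', hxe]
          exact Subgroup.mem_centralizer_iff.mp hc'.2 _ ((hRm _).mpr ⟨u, hu, rfl⟩)
        have hψx : funOf ψ (x c hc') ∈ Subgroup.centralizer ((P' ⊓ T : Subgroup Ω) : Set Ω) :=
          hψP.mem_centralizer inf_le_left (inter_image hc.closed hψP) (hx c hc') hxU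
        exact SubCent.map_centralizer (hD0'.mono (prodSys_le_F hc)) (le_normalizerIn (inf_le_left.trans hψP.le_right))
          hR'm ⟨hψP.le_right (hψP.mem (hx c hc')), hψx⟩ (hP'N (hψP.mem (hx c hc')))
      let ι : centralizerIn S R → centralizerIn S R := fun c => ⟨_, hcen c c.2⟩
      have hι : Function.Bijective ι := Finite.injective_iff_bijective.mp fun a b hab => by
        have h1 : γ (P' ⊓ T) (funOf ψ (x a a.2)) = γ (P' ⊓ T) (funOf ψ (x b b.2)) := congrArg Subtype.val hab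
        have h2 := hD0'.inj (hP'N (hψP.mem (hx a a.2))) (hP'N (hψP.mem (hx b b.2))) h1
        have h3 := hψP.inj (hx a a.2) (hx b b.2) h2
        refine Subtype.ext ?_
        rw [← hxe a a.2, ← hxe b b.2, h3]
      intro c hc'
      obtain ⟨d, hd⟩ := hι.2 ⟨c, hc'⟩
      exact ⟨_, hψP.mem (hx d d.2), congrArg Subtype.val hd⟩)
    refine ⟨m⁻¹, fun y hy => ?_⟩
    have h1 := hm _ (hψP.mem hy)
    rw [hr y (hPD hy)] at h1
    rw [h1]
    group

/-- The maps of the generated system over a good subgroup come from its local groups. -/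
theorem localHolds (hc : Setup F p E) : ∀ R : Subgroup Ω, Good F p E R → LocalHolds hc R := by
  haveI := hc.finT
  intro R
  induction hn : Nat.card T - Nat.card R using Nat.strong_induction_on generalizing R with
  | _ n IH =>
  intro hR A P P' f hf hRP hCP hPN hfR
  have ih : ∀ R' : Subgroup Ω, Good F p E R' → Nat.card R < Nat.card R' → LocalHolds hc R' := by
    intro R' hR' hlt
    refine IH (Nat.card T - Nat.card R') ?_ R' rfl hR'
    have := Subgroup.card_le_of_le hR'.centric.1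
    omega
  rcases eq_or_ne (P ⊓ T) R with hPT | hPT
  swap
  · exact level_up hc hR ih A hf hRP hCP hPN hfR (lt_of_le_of_ne (le_inf hRP hR.centric.1) (Ne.symm hPT))
  obtain ⟨γ, hγ⟩ := exists_coords hc hR
  have hgens : HasGens F p E (linkedSys hc hR ih A hγ) := by
    intro D h hh
    obtain ⟨φ, hφ, hr, he⟩ := hasGens_prodSys hc D h hh
    exact ⟨φ, ⟨hφ, (linked_gen hc hR ih A hγ hh).congr fun x hx => by
      rw [← funOf_apply φ ⟨x, hx⟩]; exact he _⟩, hr, he⟩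
  obtain ⟨φ, hφ, hr, he⟩ := id hf
  have hlink := (prodSys_le hc hgens P hφ).2
  have hfF := hf.mono (prodSys_le_F hc)
  have hRm := SubCent.image_self hfF hRP hfR
  have hP'T : P' ⊓ T = R := Subgroup.ext fun y => by rw [inter_image hc.closed hfF, hPT, hRm]
  obtain ⟨m, hm⟩ := (hlink.congr (g := f) fun x hx => by rw [← funOf_apply φ ⟨x, hx⟩, he]) P P' le_rfl hfF
    (by rw [hPT]; exact (IsIso.refl (amb hc) (hR.centric.1.trans hc.le_S)).isConj)
    (fun c hc' => ⟨c, hCP hc', by rw [hPT, hγ.self]⟩)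
  refine ⟨m, fun x hx => ⟨⟨hf.le_right (hf.mem hx), hfF.mem_normalizer hRP hRm hx (hPN hx).2⟩, ?_⟩⟩
  have h1 := hm x hx
  rwa [hP'T, hPT, hγ.self] at h1

end Cfsg.FusionSystem.Product
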