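import Cfsg.Agent.Lib.Fusion.Product.Coord

/-!
Automorphisms of the normal subsystem detected on a centric normal subgroup, and generators from local groups.
-/

set_option autoImplicit false
set_option linter.unusedSectionVars false
set_option linter.unusedVariables false
set_option linter.style.haveILetI false

namespace Cfsg.FusionSystem.Product

open Cfsg.FusionSystem.SubCent (isIso_self iterate_isIso)

universe u

variable {Ω : Type u} [Group Ω] {S T : Subgroup Ω} {F : FusionSystem S} {E : FusionSystem T}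
  {P Q R U V D : Subgroup Ω} {f g : Ω → Ω} {p : ℕ} [Finite S] [Fact p.Prime]

/-- An automorphism of `E` fixing a centric normal subgroup is a conjugation by an element of its centre. -/
theorem eqOn_conj (hc : Setup F p E) (hR : E.IsCentric R) (hRU : R ≤ U)
    (hn : U ≤ Subgroup.normalizer (R : Set Ω)) (hf : E.IsIso U U f) (hid : ∀ r ∈ R, f r = r) :
    ∃ z ∈ R, z ∈ Subgroup.centralizer (R : Set Ω) ∧ ∀ u ∈ U, f u = z * u * z⁻¹ := by
  haveI := hc.finT
  obtain ⟨φ, hφ, -, he⟩ := id hf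
  obtain ⟨z, hz, hzc, hze⟩ := exists_conj_of_eqOn_normal hc.tgroup hc.esat hR hRU hn (E.id_mem hf.le_left) hφ
    fun x hx => by rw [he x, hid x hx]; rfl
  exact ⟨z, hz, hzc, fun u hu => by rw [← he ⟨u, hu⟩, hze ⟨u, hu⟩]; rfl⟩

set_option maxHeartbeats 1000000 in
/-- A periodic automorphism of `F` on a subgroup of `T` which is in `E` on a centric normal subgroup is in `E`. -/
theorem E_of_restrict (hc : Setup F p E) {h : Ω → Ω} (hR : E.IsCentric R) (hRU : R ≤ U) (hUT : U ≤ T)
    (hn : U ≤ Subgroup.normalizer (R : Set Ω)) (hh : F.IsIso U U h) (hper : PerPrime p U h)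
    (hhR : E.IsIso R R h) : E.IsIso U U h := by
  haveI := hc.finT
  have hrec := hc.esat.isReceptive_of_isFullyCentralized hc.tgroup hR.isFullyCentralized
  obtain ⟨e, N', he, hee⟩ := hrec.extend hhR hUT hRU hn fun g hg =>
    ⟨h g, hUT (hh.mem hg), fun x hx => hh.apply_conj hg (hRU hx)⟩
  have heU : ∀ u ∈ U, e u ∈ U := by
    intro u hu
    have hw : (h u)⁻¹ * e u ∈ centralizerIn T R := by
      refine ⟨T.mul_mem (T.inv_mem (hUT (hh.mem hu))) (he.le_right (he.mem hu)),
        Subgroup.mem_centralizer_iff.mpr fun y hy => ?_⟩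
      obtain ⟨x, hx, rfl⟩ := hhR.surj hy
      have hux : u * x * u⁻¹ ∈ R := (Subgroup.mem_normalizer_iff.mp (hn hu) x).mp hx
      have h1 := hee _ hux
      rw [he.apply_conj hu (hRU hx), hh.apply_conj hu (hRU hx), hee x hx] at h1
      calc h x * ((h u)⁻¹ * e u) = (h u)⁻¹ * (h u * h x * (h u)⁻¹) * e u := by group
        _ = (h u)⁻¹ * e u * h x := by rw [← h1]; group
    have := U.mul_mem (hh.mem hu) (hRU (hR.centralizerIn_le_self hw))
    rwa [mul_inv_cancel_left] at this
  have he' : E.IsIso U U e := isIso_self he le_rfl heU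
  obtain ⟨ei, hei, hel, her⟩ := he'.symm
  have hdF : F.IsIso U U (fun x => ei (h x)) := hh.comp (hei.mono hc.sub)
  have hdR : ∀ r ∈ R, ei (h r) = r := fun r hr => by rw [← hee r hr]; exact hel r (hRU hr)
  -- the discrepancy is a `p`-element
  obtain ⟨a, ha⟩ := IsPGroup.iff_card.mp hc.tgroup
  have hdp : ∀ u ∈ U, (fun x => ei (h x))^[p ^ a] u = u := by
    intro u hu
    have hz : u⁻¹ * ei (h u) ∈ centralizerIn T R := by
      refine ⟨T.mul_mem (T.inv_mem (hUT hu)) (hUT (hdF.mem hu)), Subgroup.mem_centralizer_iff.mpr fun x hx => ?_⟩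
      have hux : u * x * u⁻¹ ∈ R := (Subgroup.mem_normalizer_iff.mp (hn hu) x).mp hx
      have h1 := hdF.apply_conj hu (hRU hx)
      simp only [hdR _ hux, hdR x hx] at h1
      calc x * (u⁻¹ * ei (h u)) = u⁻¹ * (u * x * u⁻¹) * ei (h u) := by group
        _ = u⁻¹ * ei (h u) * x := by rw [h1]; group
    set z := u⁻¹ * ei (h u) with hzdef
    have hzR : z ∈ R := hR.centralizerIn_le_self hz
    have hk : ∀ k : ℕ, (fun x => ei (h x))^[k] u = u * z ^ k := by
      intro k
      induction k with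
      | zero => simp
      | succ k ih =>
        rw [Function.iterate_succ_apply', ih, hdF.apply_mul hu (hRU (R.pow_mem hzR k))]
        show ei (h u) * ei (h (z ^ k)) = _
        rw [hdR _ (R.pow_mem hzR k), show ei (h u) = u * z by rw [hzdef, mul_inv_cancel_left], pow_succ', mul_assoc]
    have hzp : z ^ p ^ a = 1 := by
      have := pow_card_eq_one' (G := T) (x := ⟨z, hz.1⟩)
      rw [ha] at this
      exact congrArg Subtype.val this
    rw [hk, hzp, mul_one]
  -- iterates factor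
  have hfac : ∀ k : ℕ, ∃ ek, E.IsIso U U ek ∧ ∀ u ∈ U, h^[k] u = ek ((fun x => ei (h x))^[k] u) := by
    intro k
    induction k with
    | zero => exact ⟨_, IsIso.refl E hUT, fun u _ => rfl⟩
    | succ k ih =>
      obtain ⟨ek, hek, heke⟩ := ih
      have hdk := iterate_isIso hdF k
      obtain ⟨e', he'', he'e⟩ := hc.inv.iso_transport hdk hUT he' le_rfl le_rfl
        (fun y => ⟨fun hy => hdk.surj hy, fun ⟨x, hx, hxe⟩ => hxe ▸ hdk.mem hx⟩)
        (fun y => ⟨fun hy => hdk.surj hy, fun ⟨x, hx, hxe⟩ => hxe ▸ hdk.mem hx⟩)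
      refine ⟨_, he''.comp hek, fun u hu => ?_⟩
      rw [Function.iterate_succ_apply, heke _ (hh.mem hu), Function.iterate_succ_apply, he'e _ (hdF.mem hu)]
      show _ = ek _
      rw [her _ (hh.mem hu)]
  obtain ⟨j, hj⟩ := hper.exists_mul a
  obtain ⟨ek, hek, heke⟩ := hfac (p ^ a * j)
  refine hek.congr fun u hu => ?_
  rw [← hj u hu, heke u hu]
  congr 1
  clear hj heke
  induction j with
  | zero => rfl
  | succ j ih =>
    rw [Nat.mul_succ, Function.iterate_add_apply, hdp u hu, ih]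

/-- An element of a local group of order prime to `p` stabilising an overgroup of `R` induces a generator. -/
theorem gen_of_rep (hc : Setup F p E) (hR : Good F p E R) (A : Loc F p E R) {n : A.L} (hn : n ∈ A.N)
    (hord : ¬ p ∣ orderOf n) (hRP : R ≤ P) (hP : P ≤ normalizerIn S R) (hrep : A.Rep n P f)
    (hm : ∀ x ∈ P, f x ∈ P) : IsGen F p E P f := by
  obtain ⟨f1, P', hf1, hrep1⟩ := A.rep_iso hP (m := n) fun x hx => by
    rw [← (hrep x hx).2]; exact A.J_mem_range (hrep x hx).1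
  have hiso : F.IsIso P P f := isIso_self (hf1.congr fun x hx => hrep.eq (A := A) hrep1 hx) le_rfl hm
  have hper : PerPrime p P f := ⟨orderOf n, hord, fun x hx => by
    have h1 := hrep.iterate (A := A) hm hP (orderOf n) x hx
    refine A.J_inj h1.1 (hP hx) ?_
    rw [h1.2, pow_orderOf_eq_one, one_mul, inv_one, mul_one]⟩
  have hRT := hR.centric.1
  have hRN : R ≤ normalizerIn S R := le_normalizerIn (hRT.trans hc.le_S)
  haveI := hc.finT
  have hPT : R ≤ P ⊓ T := le_inf hRP hRT
  obtain ⟨a, ha, hae⟩ := A.restr n hn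
  refine ⟨hiso, hper, fun x hx => A.triv_N hn (hP hx) (hrep x hx).1 (hrep x hx).2.symm,
    isCentric_of_le hR.centric hPT inf_le_right,
    E_of_restrict hc hR.centric hPT inf_le_right (fun x hx => (hP hx.1).2) (inter_iso hc.closed hiso)
      (hper.mono inf_le_left) ?_⟩
  exact ha.congr fun r hr => (hrep.restrict (A := A) hRP).eq (A := A) (A.rep_of_repOn hae hRN) hr

set_option maxHeartbeats 1000000 in
/-- The maps of local groups at good subgroups lie in the generated system. -/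
theorem big_prodSys (hc : Setup F p E) : Big hc (prodSys hc) := by
  refine ⟨prodSys_le_amb hc, fun R hR A P f hRP hP hf => ?_⟩
  obtain ⟨PL, hPL⟩ := A.sylow
  have hRS : R ≤ S := hR.centric.1.trans hc.le_S
  have hRN : R ≤ normalizerIn S R := le_normalizerIn hRS
  let Link : Subgroup A.L → A.L → Prop := fun Pi b => ∀ (P : Subgroup Ω) (f : Ω → Ω), R ≤ P →
    P ≤ normalizerIn S R → (∀ x ∈ P, A.J x ∈ Pi) → A.Rep b P f → ∃ P', (prodSys hc).IsIso P P' f
  have key : ∀ (Pi : Subgroup A.L) (b : A.L), Pi ≤ (PL : Subgroup A.L) →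
      (∀ x ∈ Pi, b * x * b⁻¹ ∈ (PL : Subgroup A.L)) → Link Pi b := by
    -- elements of `Pi` moved into the range
    have hmoveR : ∀ {a : A.L} {P : Subgroup Ω}, R ≤ P → P ≤ normalizerIn S R → ∀ {f : Ω → Ω} {P1 : Subgroup Ω},
        F.IsIso P P1 f → A.Rep a P f → R ≤ P1 ∧ P1 ≤ normalizerIn S R := by
      intro a P hRP hP f P1 hiso hrep
      refine ⟨fun r hr => ?_, fun y hy => ?_⟩
      · obtain ⟨r', hr', hre⟩ := A.conj_R hRS a⁻¹ hr
        have : f r' = r := A.J_inj (hrep r' (hRP hr')).1 (hRN hr) (by rw [(hrep r' (hRP hr')).2, hre]; group)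
        exact this ▸ hiso.mem (hRP hr')
      · obtain ⟨x, hx, rfl⟩ := hiso.surj hy
        exact (hrep x hx).1
    refine Wedge.linked_of_conj_le PL Link ?_ ?_ ?_ ?_ ?_
    · intro Pi a b ha hla hlb P f hRP hP hPi hrep
      obtain ⟨f1, P1, hf1, hr1⟩ := A.rep_iso hP (m := a) fun x hx => hPL ▸ ha _ (hPi x hx)
      obtain ⟨P1', hX1⟩ := hla P f1 hRP hP hPi hr1
      obtain ⟨hR1, hN1⟩ := hmoveR hRP hP (hX1.mono (prodSys_le_F hc)) hr1
      have hmem : ∀ x ∈ P, b * A.J (f1 x) * b⁻¹ = A.J (f x) := fun x hx => by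
        rw [(hrep x hx).2, (hr1 x hx).2]; group
      obtain ⟨f2, P2, -, hr2⟩ := A.rep_iso hN1 (m := b) fun y hy => by
        obtain ⟨x, hx, rfl⟩ := hX1.surj hy
        rw [hmem x hx]; exact A.J_mem_range (hrep x hx).1
      obtain ⟨P2', hX2⟩ := hlb P1' f2 hR1 hN1 (fun y hy => by
        obtain ⟨x, hx, rfl⟩ := hX1.surj hy
        exact ⟨A.J x, hPi x hx, (hr1 x hx).2.symm⟩) hr2
      exact ⟨P2', (hX1.comp hX2).congr fun x hx =>
        hrep.eq (A := A) (hr1.comp (A := A) hr2 fun y hy => hX1.mem hy) hx⟩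
    · intro Pi a hPi ha hla P f hRP hP hPim hrep
      obtain ⟨f1, P0, hf1, hr1⟩ := A.rep_iso hP (m := a⁻¹) fun x hx => by
        obtain ⟨l, hl, hle⟩ := hPim x hx
        rw [← hle]
        show a⁻¹ * (a * l * a⁻¹) * a⁻¹⁻¹ ∈ _
        rw [show a⁻¹ * (a * l * a⁻¹) * a⁻¹⁻¹ = l by group, ← hPL]
        exact hPi hl
      obtain ⟨hR0, hN0⟩ := hmoveR hRP hP hf1 hr1
      obtain ⟨g, hg, hgl, hgr⟩ := hf1.symm
      have hrg : A.Rep a P0 g := by
        have := hr1.inv (A := A) (g := g) (Q := P0) hP hgl fun y hy => hf1.surj hy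
        rwa [inv_inv] at this
      obtain ⟨P1, hX⟩ := hla P0 g hR0 hN0 (fun y hy => by
        obtain ⟨x, hx, rfl⟩ := hf1.surj hy
        obtain ⟨l, hl, hle⟩ := hPim x hx
        rw [(hr1 x hx).2, ← hle]
        show a⁻¹ * (a * l * a⁻¹) * a⁻¹⁻¹ ∈ _
        rwa [show a⁻¹ * (a * l * a⁻¹) * a⁻¹⁻¹ = l by group]) hrg
      obtain ⟨gi, hgi, hgil, -⟩ := hX.symm
      have hP1 : P1 = P := by
        ext y
        constructor
        · intro hy
          obtain ⟨x, hx, rfl⟩ := hX.surj hy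
          exact hg.mem hx
        · intro hy
          rw [← hgl y hy]; exact hX.mem (hf1.mem hy)
      rw [hP1] at hgi
      refine ⟨P0, hgi.congr fun x hx => ?_⟩
      have h1 := hgil (f1 x) (hf1.mem hx)
      rw [hgl x hx] at h1
      rw [h1]
      exact hrep.eq (A := A) hr1 hx
    · intro Pi Pi' a hle h P f hRP hP hPi hrep
      exact h P f hRP hP (fun x hx => hle (hPi x hx)) hrep
    · intro z hz P f hRP hP hPi hrep
      obtain ⟨s, hs, rfl⟩ := A.exists_of_range (hPL ▸ hz)
      exact ⟨_, (isIso_conj (hP.trans normalizerIn_le) hs.1).congr fun x hx =>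
        hrep.eq (A := A) (A.rep_conj hs hP) hx⟩
    · intro Pi b hPi hb hord P f hRP hP hPim hrep
      haveI := A.normN
      have hbN : b ∈ A.N := by
        refine Wedge.mem_of_coprime_sup (H := A.N) (P := A.j.range) (hPL ▸ PL.2) ?_ hord
        rw [sup_comm, A.top]; exact Subgroup.mem_top _
      let P' : Subgroup Ω := (Pi.comap A.j).map (normalizerIn S R).subtype
      have hP' : ∀ x, x ∈ P' ↔ x ∈ normalizerIn S R ∧ A.J x ∈ Pi := fun x => by
        constructor
        · rintro ⟨y, hy, rfl⟩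
          exact ⟨y.2, (A.J_coe y).symm ▸ hy⟩
        · rintro ⟨hx, hxe⟩
          exact ⟨⟨x, hx⟩, show A.j ⟨x, hx⟩ ∈ Pi by rw [← A.J_eq hx]; exact hxe, rfl⟩
      have hPP' : P ≤ P' := fun x hx => (hP' x).mpr ⟨hP hx, hPim x hx⟩
      have hP'N : P' ≤ normalizerIn S R := fun x hx => ((hP' x).mp hx).1
      obtain ⟨f', Q', hf', hr'⟩ := A.rep_iso hP'N (m := b) fun x hx => by
        rw [← hPL]
        exact hPi ((Subgroup.mem_normalizer_iff.mp hb _).mp ((hP' x).mp hx).2)
      have hm : ∀ x ∈ P', f' x ∈ P' := fun x hx => (hP' _).mpr ⟨(hr' x hx).1, by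
        rw [(hr' x hx).2]; exact (Subgroup.mem_normalizer_iff.mp hb _).mp ((hP' x).mp hx).2⟩
      have hgen := gen_of_rep hc hR A hbN hord (hRP.trans hPP') hP'N hr' hm
      obtain ⟨P1, hP1, -, -⟩ := (hasGens_prodSys hc P' f' hgen).restrict hPP'
      exact ⟨P1, hP1.congr fun x hx => hrep.eq (A := A) (hr'.restrict (A := A) hPP') hx⟩
  obtain ⟨m, hm⟩ := hf
  refine key ((P.subgroupOf (normalizerIn S R)).map A.j) m ?_ ?_ P f hRP hP
    (fun x hx => (A.mem_img hP).mpr ⟨x, hx, rfl⟩) hm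
  · rw [hPL]; exact Subgroup.map_le_range _ _
  · intro l hl
    obtain ⟨x, hx, rfl⟩ := (A.mem_img hP).mp hl
    rw [← (hm x hx).2, hPL]
    exact A.J_mem_range (hm x hx).1

end Cfsg.FusionSystem.Product
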