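import Cfsg.Agent.Lib.Fusion.Product.GenEq
import Cfsg.Agent.Lib.Fusion.SolvableSystem

/-!
Good representatives of the classes of centric subgroups of the carrier of a normal subsystem under `E` and `S`.
-/

set_option autoImplicit false
set_option linter.unusedSectionVars false
set_option linter.style.haveILetI false

namespace Cfsg.FusionSystem.Product

open Cfsg.FusionSystem.SubCent (isIso_self image_self iterate_isIso)

universe u

variable {Ω : Type u} [Group Ω] {S T : Subgroup Ω} {F : FusionSystem S} {E : FusionSystem T}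
  {P Q R U V : Subgroup Ω} {f g : Ω → Ω} {p : ℕ}

/-- The image of a subgroup under conjugation. -/
abbrev sConj (s : Ω) (R : Subgroup Ω) : Subgroup Ω := R.map (MulAut.conj s).toMonoidHom

theorem sConj_sConj (s s' : Ω) (R : Subgroup Ω) : sConj s (sConj s' R) = sConj (s * s') R := by
  ext y
  simp only [mem_map_conj]
  constructor
  · rintro ⟨z, ⟨x, hx, rfl⟩, rfl⟩; exact ⟨x, hx, by group⟩
  · rintro ⟨x, hx, rfl⟩; exact ⟨_, ⟨x, hx, rfl⟩, by group⟩

theorem sConj_one (R : Subgroup Ω) : sConj 1 R = R := by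
  ext y; simp [mem_map_conj]

theorem sConj_eq_self {s : Ω} (hs : s ∈ Subgroup.normalizer (R : Set Ω)) : sConj s R = R := by
  ext y
  rw [mem_map_conj]
  constructor
  · rintro ⟨x, hx, rfl⟩; exact (Subgroup.mem_normalizer_iff.mp hs x).mp hx
  · intro hy; exact ⟨_, (Subgroup.mem_normalizer_iff''.mp hs y).mp hy, by group⟩

theorem mem_normalizer_of_sConj {s : Ω} (h : sConj s R = R) : s ∈ Subgroup.normalizer (R : Set Ω) := by
  rw [Subgroup.mem_normalizer_iff]
  intro x
  constructor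
  · intro hx; rw [← h]; exact mem_map_conj.mpr ⟨x, hx, rfl⟩
  · intro hx
    rw [← h] at hx
    obtain ⟨y, hy, he⟩ := mem_map_conj.mp hx
    rwa [← mul_left_cancel (mul_right_cancel he)]

theorem sConj_normalizerIn {K : Subgroup Ω} {s : Ω} (hs : s ∈ Subgroup.normalizer (K : Set Ω)) :
    sConj s (normalizerIn K R) = normalizerIn K (sConj s R) := by
  ext y
  rw [mem_map_conj]
  constructor
  · rintro ⟨x, hx, rfl⟩
    refine ⟨(Subgroup.mem_normalizer_iff.mp hs x).mp hx.1, mem_normalizer_of_sConj ?_⟩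
    rw [sConj_sConj, show s * x * s⁻¹ * s = s * x by group, ← sConj_sConj, sConj_eq_self hx.2]
  · intro hy
    refine ⟨s⁻¹ * y * s, ⟨(Subgroup.mem_normalizer_iff''.mp hs y).mp hy.1, mem_normalizer_of_sConj ?_⟩, by group⟩
    rw [← sConj_sConj, ← sConj_sConj, sConj_eq_self hy.2, sConj_sConj, inv_mul_cancel, sConj_one]

theorem card_sConj (s : Ω) (R : Subgroup Ω) : Nat.card (sConj s R) = Nat.card R :=
  Subgroup.card_map_of_injective (MulAut.conj s).injective

theorem Setup.isConj_sConj (hc : Setup F p E) {s : Ω} (hs : s ∈ S) (h : E.IsConj U V) :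
    E.IsConj (sConj s U) (sConj s V) := by
  obtain ⟨φ, hφ, hr⟩ := h
  obtain ⟨f', hf', -⟩ := conj_transport hc.inv hs (hr ▸ isIso_funOf hφ : E.IsIso U V (funOf φ))
  exact hf'.isConj

theorem Setup.centric_sConj (hc : Setup F p E) {s : Ω} (hs : s ∈ S) (h : E.IsCentric R) :
    E.IsCentric (sConj s R) :=
  hc.inv.isCentric_of_isIso h (isIso_conj (h.1.trans hc.le_S) hs)

theorem Setup.fullyNormalized_sConj (hc : Setup F p E) {s : Ω} (hs : s ∈ S) (h : E.IsFullyNormalized R) :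
    E.IsFullyNormalized (sConj s R) := by
  have hn := hc.closed.le_normalizer hs
  refine ⟨by rintro _ ⟨x, hx, rfl⟩; exact hc.conj_mem hs (h.1 hx), fun Q hQ => ?_⟩
  have h1 := hc.isConj_sConj (S.inv_mem hs) hQ
  rw [sConj_sConj, inv_mul_cancel, sConj_one] at h1
  have h2 := h.2 _ h1
  rw [← card_sConj s (normalizerIn T R), sConj_normalizerIn hn] at h2
  rwa [← card_sConj s (normalizerIn T (sConj s⁻¹ Q)), sConj_normalizerIn hn, sConj_sConj, mul_inv_cancel,
    sConj_one] at h2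

/-- A fully normalised centric subgroup of `T` such that the elements of `S` fixing its `E`-class lie in
`T N_S(R)`. -/
structure Good (F : FusionSystem S) (p : ℕ) (E : FusionSystem T) (R : Subgroup Ω) : Prop where
  centric : E.IsCentric R
  norm : E.IsFullyNormalized R
  stab : ∀ s ∈ S, E.IsConj R (sConj s R) → ∃ t ∈ T, ∃ n ∈ normalizerIn S R, s = t * n

theorem good_top [Finite S] (hc : Setup F p E) : Good F p E T := by
  haveI := hc.finT
  exact ⟨isCentric_self, isFullyNormalized_self, fun s hs _ =>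
    ⟨1, T.one_mem, s, ⟨hs, hc.closed.le_normalizer hs⟩, (one_mul s).symm⟩⟩

theorem Good.sConj (hc : Setup F p E) (h : Good F p E R) {s : Ω} (hs : s ∈ S) : Good F p E (Product.sConj s R) := by
  refine ⟨hc.centric_sConj hs h.centric, hc.fullyNormalized_sConj hs h.norm, fun s' hs' hconj => ?_⟩
  have h1 := hc.isConj_sConj (S.inv_mem hs) hconj
  rw [sConj_sConj, inv_mul_cancel, sConj_one, sConj_sConj, sConj_sConj] at h1
  obtain ⟨t, ht, n, hn, he⟩ := h.stab _ (S.mul_mem (S.mul_mem (S.inv_mem hs) hs') hs) h1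
  refine ⟨s * t * s⁻¹, hc.conj_mem hs ht, s * n * s⁻¹, ⟨S.mul_mem (S.mul_mem hs hn.1) (S.inv_mem hs),
    mem_normalizer_of_sConj ?_⟩, ?_⟩
  · rw [sConj_sConj, show s * n * s⁻¹ * s = s * n by group, ← sConj_sConj, sConj_eq_self hn.2]
  · have : s' = s * (t * n) * s⁻¹ := by rw [← he]; group
    rw [this]; group

variable (hc : Setup F p E)
include hc

/-- Maps of the crude system between subgroups of `T`. -/
theorem amb_decomp {U' : Subgroup Ω} (hU : U ≤ T) (hf : (amb hc).IsIso U U' f) :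
    ∃ s ∈ S, ∃ (e : Ω → Ω) (Q : Subgroup Ω), E.IsIso U Q e ∧ (∀ x ∈ U, f x = s * e x * s⁻¹) ∧
      Product.sConj s Q = U' := by
  obtain ⟨hfF, s, hs, -, e, Q, he, hfe⟩ := (isIso_amb_iff hc).mp hf
  rw [inf_eq_left.mpr hU] at he hfe
  refine ⟨s, hs, e, Q, he, hfe, ?_⟩
  ext y
  rw [mem_map_conj]
  constructor
  · rintro ⟨z, hz, rfl⟩
    obtain ⟨x, hx, rfl⟩ := he.surj hz
    rw [← hfe x hx]; exact hfF.mem hx
  · intro hy
    obtain ⟨x, hx, rfl⟩ := hfF.surj hy
    exact ⟨e x, he.mem hx, (hfe x hx).symm⟩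

/-- An element inducing an isomorphism of `E` on `R` lies in `T C_S(R)`. -/
theorem Good.ker [Finite S] [Fact p.Prime] (h : Good F p E R) {s : Ω} (hs : s ∈ S) {e : Ω → Ω}
    {Q : Subgroup Ω} (he : E.IsIso R Q e) (hse : ∀ x ∈ R, e x = s * x * s⁻¹) :
    ∃ t ∈ T, ∃ c ∈ centralizerIn S R, s = t * c := by
  have hQ : Product.sConj s R = Q := by
    ext y
    rw [mem_map_conj]
    constructor
    · rintro ⟨x, hx, rfl⟩; rw [← hse x hx]; exact he.mem hx
    · intro hy
      obtain ⟨x, hx, rfl⟩ := he.surj hy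
      exact ⟨x, hx, (hse x hx).symm⟩
  obtain ⟨t, ht, n, hn, rfl⟩ := h.stab s hs (hQ ▸ he.isConj)
  have hQT : Q ≤ T := he.le_right
  have h1 : E.IsIso Q (Product.sConj t⁻¹ Q) (fun x => t⁻¹ * x * t⁻¹⁻¹) := isIso_conj hQT (T.inv_mem ht)
  rw [← hQ, sConj_sConj, inv_mul_cancel_left, sConj_eq_self hn.2] at h1
  have h2 : E.IsIso R R (fun x => t⁻¹ * e x * t⁻¹⁻¹) := (hQ.symm ▸ he).comp h1
  obtain ⟨t', ht', c, hc', rfl⟩ := exists_split hc h.norm hn h2 fun x hx => by
    rw [hse x hx]; group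
  exact ⟨t * t', T.mul_mem ht ht'.1, c, hc', (mul_assoc _ _ _).symm⟩

/-- Good subgroups have the largest normalisers in their classes. -/
theorem Good.card_le [Finite S] [Fact p.Prime] (h : Good F p E R) (hU : (amb hc).IsConj R U) :
    Nat.card (normalizerIn S U) ≤ Nat.card (normalizerIn S R) := by
  obtain ⟨φ, hφ, hr⟩ := hU
  obtain ⟨s, hs, e, Q, he, -, hQ⟩ := amb_decomp hc h.centric.1 (hr ▸ isIso_funOf hφ :
    (amb hc).IsIso R U (funOf φ))
  have hnS : s ∈ Subgroup.normalizer (S : Set Ω) := Subgroup.le_normalizer hs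
  rw [← hQ, ← sConj_normalizerIn hnS, card_sConj]
  haveI hn : (T.subgroupOf S).Normal := hc.closed.subgroupOf_normal
  let π : S →* S ⧸ T.subgroupOf S := QuotientGroup.mk' _
  let fQ : ↥(normalizerIn S Q) →* S ⧸ T.subgroupOf S := π.comp (Subgroup.inclusion normalizerIn_le)
  let fR : ↥(normalizerIn S R) →* S ⧸ T.subgroupOf S := π.comp (Subgroup.inclusion normalizerIn_le)
  have hker : ∀ {V : Subgroup Ω} (x : ↥(normalizerIn S V)),
      x ∈ (π.comp (Subgroup.inclusion normalizerIn_le)).ker ↔ (x : Ω) ∈ T := by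
    intro V x
    rw [MonoidHom.mem_ker, MonoidHom.comp_apply, QuotientGroup.mk'_apply, QuotientGroup.eq_one_iff,
      Subgroup.mem_subgroupOf]
    rfl
  have hrange : fQ.range ≤ fR.range := by
    rintro _ ⟨x, rfl⟩
    have h1 := hc.isConj_sConj x.2.1 he.isConj
    rw [sConj_eq_self x.2.2] at h1
    obtain ⟨t, ht, n, hn', hxe⟩ := h.stab _ x.2.1 (he.isConj.trans h1.symm)
    refine ⟨⟨n, hn'⟩, ?_⟩
    show π ⟨n, _⟩ = π ⟨x, _⟩
    refine (QuotientGroup.eq.mpr ?_)
    rw [Subgroup.mem_subgroupOf]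
    show n⁻¹ * (x : Ω) ∈ T
    rw [hxe, ← mul_assoc]
    exact hc.conj_mem' hn'.1 ht
  haveI := finite_normalizerIn (S := S) (P := Q)
  haveI := finite_normalizerIn (S := S) (P := R)
  haveI := hc.finT
  haveI := finite_normalizerIn (S := T) (P := R)
  rw [← Subgroup.card_mul_index fQ.ker, ← Subgroup.card_mul_index fR.ker, Subgroup.index_ker, Subgroup.index_ker]
  refine Nat.mul_le_mul ?_ (Subgroup.card_le_of_le hrange)
  have e1 : ∀ (V : Subgroup Ω) (f : ↥(normalizerIn S V) →* S ⧸ T.subgroupOf S),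
      (∀ x, x ∈ f.ker ↔ (x : Ω) ∈ T) → Nat.card f.ker = Nat.card (normalizerIn T V) := fun V f hf =>
    Nat.card_congr
      { toFun := fun x => ⟨x.1, (hf x.1).mp x.2, x.1.2.2⟩
        invFun := fun y => ⟨⟨y, hc.le_S y.2.1, y.2.2⟩, (hf _).mpr y.2.1⟩
        left_inv := fun x => rfl
        right_inv := fun y => rfl }
  rw [e1 Q fQ hker, e1 R fR hker]
  exact h.norm.2 Q he.isConj

/-- Maps of the crude system fixing a good subgroup are realised in its local groups. -/
theorem Good.realise [Finite S] [Fact p.Prime] (h : Good F p E R) (A : Loc F p E R)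
    (hf : (amb hc).IsIso R R f) : A.Maps R f := by
  obtain ⟨s, hs, e, Q, he, hfe, hQ⟩ := amb_decomp hc h.centric.1 hf
  have hRN : R ≤ normalizerIn S R := le_normalizerIn (h.centric.1.trans hc.le_S)
  have hQR : Product.sConj s⁻¹ R = Q := by rw [← hQ, sConj_sConj, inv_mul_cancel, sConj_one]
  obtain ⟨t, ht, n, hn, hsn⟩ := h.stab s⁻¹ (S.inv_mem hs) (hQR.symm ▸ he.isConj)
  have hs' : s = n⁻¹ * t⁻¹ := by rw [← mul_inv_rev, ← hsn, inv_inv]
  have h2 : E.IsIso Q (Product.sConj t⁻¹ Q) (fun x => t⁻¹ * x * t⁻¹⁻¹) := isIso_conj he.le_right (T.inv_mem ht)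
  have h3 : Product.sConj t⁻¹ Q = R := by
    rw [← hQR, sConj_sConj, hsn, inv_mul_cancel_left, sConj_eq_self hn.2]
  rw [h3] at h2
  obtain ⟨k, -, hk⟩ := A.lift _ (he.comp h2)
  have hk' := A.rep_of_repOn hk hRN
  have hn' := (normalizerIn S R).inv_mem hn
  refine ⟨A.J n⁻¹ * k, ((hk'.comp (A := A) (A.rep_conj hn' hRN) fun x hx => (he.comp h2).mem hx).congr
    (A := A) fun x hx => ?_)⟩
  rw [hfe x hx, hs']
  group

end Cfsg.FusionSystem.Product
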