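import Cfsg.Agent.Lib.Fusion.Product.Good

/-!
Either the normaliser of a subgroup of a good subgroup grows along a map of its local group, or it gives a Sylow
subgroup of the stabiliser in the local group.
-/

set_option autoImplicit false
set_option linter.unusedSectionVars false
set_option linter.style.haveILetI false

namespace Cfsg.FusionSystem.Product

universe u

variable {Ω : Type u} [Group Ω] {S T : Subgroup Ω} {F : FusionSystem S} {E : FusionSystem T}
  {P Q R U U1 V D : Subgroup Ω} {f g : Ω → Ω} {p : ℕ}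

/-- A system between the maps of the local groups and the crude system. -/
structure Big (hc : Setup F p E) (X : FusionSystem S) : Prop where
  le : X.IsSubsystemOf (amb hc)
  maps : ∀ R, Good F p E R → ∀ (A : Loc F p E R) (P : Subgroup Ω) (f : Ω → Ω), R ≤ P → P ≤ normalizerIn S R →
    A.Maps P f → ∃ P', X.IsIso P P' f

theorem Big.toF {hc : Setup F p E} {X : FusionSystem S} (hX : Big hc X) : X.IsSubsystemOf F :=
  fun P φ h => (hX.le P h).1

/-- The stabiliser in the local group of a subgroup of `N_S(R)`. -/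
def Loc.stab (A : Loc F p E R) (U1 : Subgroup Ω) : Subgroup A.L :=
  Subgroup.normalizer (((U1.subgroupOf (normalizerIn S R)).map A.j : Subgroup A.L) : Set A.L)

theorem Loc.mem_img (A : Loc F p E R) (hU : U1 ≤ normalizerIn S R) {l : A.L} :
    l ∈ (U1.subgroupOf (normalizerIn S R)).map A.j ↔ ∃ x ∈ U1, A.J x = l := by
  constructor
  · rintro ⟨x, hx, rfl⟩
    exact ⟨x, hx, A.J_coe x⟩
  · rintro ⟨x, hx, rfl⟩
    exact ⟨⟨x, hU hx⟩, hx, (A.J_eq (hU hx)).symm⟩

/-- An element carrying the image of `U1` into itself stabilises it. -/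
theorem Loc.mem_stab (A : Loc F p E R) (hU : U1 ≤ normalizerIn S R) {l : A.L}
    (h : ∀ x ∈ U1, ∃ y ∈ U1, A.J y = l * A.J x * l⁻¹) : l ∈ A.stab U1 := by
  set H := (U1.subgroupOf (normalizerIn S R)).map A.j
  have hle : H.map (MulAut.conj l).toMonoidHom ≤ H := by
    rintro _ ⟨z, hz, rfl⟩
    obtain ⟨x, hx, rfl⟩ := (A.mem_img hU).mp hz
    obtain ⟨y, hy, hye⟩ := h x hx
    exact (A.mem_img hU).mpr ⟨y, hy, hye⟩
  have heq : H.map (MulAut.conj l).toMonoidHom = H :=
    Subgroup.eq_of_le_of_card_ge hle (Wedge.card_map_conj H l).ge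
  show l ∈ Subgroup.normalizer (H : Set A.L)
  rw [Subgroup.mem_normalizer_iff]
  intro z
  constructor
  · intro hz
    exact heq.le ⟨z, hz, rfl⟩
  · intro hz
    obtain ⟨w, hw, hwe⟩ := heq.ge hz
    exact ((MulAut.conj l).injective hwe) ▸ hw

theorem Loc.stab_apply (A : Loc F p E R) (hU : U1 ≤ normalizerIn S R) {l : A.L} (hl : l ∈ A.stab U1)
    {x : Ω} (hx : x ∈ U1) : ∃ y ∈ U1, A.J y = l * A.J x * l⁻¹ :=
  (A.mem_img hU).mp ((Subgroup.mem_normalizer_iff.mp hl _).mp ((A.mem_img hU).mpr ⟨x, hx, rfl⟩))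

theorem Loc.J_mem_stab (A : Loc F p E R) (hU : U1 ≤ normalizerIn S R) {x : Ω} (hx : x ∈ normalizerIn S R)
    (hn : x ∈ Subgroup.normalizer (U1 : Set Ω)) : A.J x ∈ A.stab U1 :=
  A.mem_stab hU fun u hu => ⟨x * u * x⁻¹, (Subgroup.mem_normalizer_iff.mp hn u).mp hu, A.J_conj hx (hU hu)⟩

variable [Finite S] [Fact p.Prime] {hc : Setup F p E} {X : FusionSystem S}

theorem sylow_or_grow (hX : Big hc X) (hR : Good F p E R) (A : Loc F p E R) (hU1 : U1 ≤ R) (hRD : R ≤ D)
    (hD : D ≤ normalizerIn S R) (hDn : D ≤ Subgroup.normalizer (U1 : Set Ω)) :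
    (∃ (f : Ω → Ω) (D' U2 : Subgroup Ω), X.IsIso D D' f ∧ U2 ≤ R ∧ D' ≤ normalizerIn S U2 ∧
      (∀ y, y ∈ U2 ↔ ∃ x ∈ U1, f x = y) ∧ Nat.card D < Nat.card (normalizerIn S U2)) ∨
    ∃ P : Sylow p (A.stab U1), ∀ l : A.stab U1, l ∈ (P : Subgroup (A.stab U1)) ↔ ∃ x ∈ D, A.J x = l := by
  classical
  have hRS : R ≤ S := hR.centric.1.trans hc.le_S
  have hRN : R ≤ normalizerIn S R := le_normalizerIn hRS
  have hUN : U1 ≤ normalizerIn S R := hU1.trans hRN
  let PD : Subgroup (A.stab U1) := ((D.subgroupOf (normalizerIn S R)).map A.j).subgroupOf (A.stab U1)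
  have hPDp : IsPGroup p PD := by
    refine (IsPGroup.map ?_ A.j).comap_of_injective _ (A.stab U1).subtype_injective
    exact (hc.pgroup.to_le normalizerIn_le).to_subgroup _
  have hPDmem : ∀ l : A.stab U1, l ∈ PD ↔ ∃ x ∈ D, A.J x = l := fun l => by
    rw [Subgroup.mem_subgroupOf]; exact A.mem_img hD
  obtain ⟨P, hP⟩ := hPDp.exists_le_sylow
  by_cases hle : (P : Subgroup (A.stab U1)) ≤ PD
  · exact Or.inr ⟨P, fun l => by rw [← hPDmem]; exact ⟨fun h => hle h, fun h => hP h⟩⟩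
  refine Or.inl ?_
  obtain ⟨PL, hPL⟩ := A.sylow
  obtain ⟨a, ha⟩ := exists_conj_mem_sylow PL (X := (P : Subgroup (A.stab U1)).map (A.stab U1).subtype) (P.2.map _)
  have haD : ∀ x ∈ D, a * A.J x * a⁻¹ ∈ A.j.range := fun x hx => by
    rw [← hPL]
    exact ha _ ⟨⟨A.J x, A.J_mem_stab hUN (hD hx) (hDn hx)⟩, hP ((hPDmem _).mpr ⟨x, hx, rfl⟩), rfl⟩
  obtain ⟨f, D0, -, hrep⟩ := A.rep_iso hD haD
  obtain ⟨D', hf⟩ := hX.maps R hR A D f hRD hD ⟨a, hrep⟩
  obtain ⟨U2, hfU, -, hU2m⟩ := hf.restrict (hU1.trans hRD)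
  have hU2R : U2 ≤ R := fun y hy => by
    obtain ⟨x, hx, rfl⟩ := (hU2m y).mp hy
    obtain ⟨r, hr, hre⟩ := A.conj_R hRS a (hU1 hx)
    rwa [← A.J_inj (hRN hr) (hrep x (hRD (hU1 hx))).1 (hre.trans (hrep x (hRD (hU1 hx))).2.symm)]
  refine ⟨f, D', U2, hf, hU2R, fun y hy => ?_, hU2m, ?_⟩
  · obtain ⟨x, hx, rfl⟩ := hf.surj hy
    exact ⟨hf.le_right hy, (hf.mono (hX.toF)).mem_normalizer (hU1.trans hRD) hU2m hx (hDn hx)⟩
  · -- the image of the Sylow subgroup normalises `U2`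
    have hmap : ∀ σ : (P : Subgroup (A.stab U1)), ∃ x ∈ normalizerIn S U2, x ∈ normalizerIn S R ∧
        A.J x = a * (σ : A.stab U1) * a⁻¹ := by
      intro σ
      have h1 : a * (σ : A.stab U1) * a⁻¹ ∈ A.j.range := by
        rw [← hPL]; exact ha _ ⟨(σ : A.stab U1), σ.2, rfl⟩
      obtain ⟨x, hx, hxe⟩ := A.exists_of_range h1
      refine ⟨x, ⟨hx.1, ?_⟩, hx, hxe⟩
      have hm : ∀ y ∈ U2, x * y * x⁻¹ ∈ U2 := by
        intro y hy
        obtain ⟨u, hu, rfl⟩ := (hU2m y).mp hy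
        obtain ⟨v, hv, hve⟩ := A.stab_apply hUN (σ : A.stab U1).2 hu
        have hfu := hrep u (hRD (hU1 hu))
        have hfv := hrep v (hRD (hU1 hv))
        have e : x * f u * x⁻¹ = f v := by
          refine A.J_inj ?_ hfv.1 ?_
          · exact (normalizerIn S R).mul_mem ((normalizerIn S R).mul_mem hx hfu.1) ((normalizerIn S R).inv_mem hx)
          · rw [A.J_conj hx hfu.1, hxe, hfu.2, hfv.2, hve]; group
        rw [e]
        exact (hU2m _).mpr ⟨v, hv, rfl⟩
      haveI := finite_of_le (hU2R.trans hRS)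
      have heq : Product.sConj x U2 = U2 := by
        refine Subgroup.eq_of_le_of_card_ge ?_ (card_sConj x U2).ge
        rintro _ ⟨y, hy, rfl⟩
        exact hm y hy
      exact mem_normalizer_of_sConj heq
    choose x hx hxR hxe using hmap
    have hlt : Nat.card PD < Nat.card (P : Subgroup (A.stab U1)) := by
      by_contra h
      exact hle (Subgroup.eq_of_le_of_card_ge hP (not_lt.mp h)).ge
    haveI := finite_normalizerIn (S := S) (P := U2)
    have hDcard : Nat.card D ≤ Nat.card PD := by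
      refine Nat.card_le_card_of_injective
        (fun d : D => (⟨⟨A.J d, A.J_mem_stab hUN (hD d.2) (hDn d.2)⟩, (hPDmem _).mpr ⟨d, d.2, rfl⟩⟩ : PD))
        fun d d' he => Subtype.ext (A.J_inj (hD d.2) (hD d'.2) (congrArg (fun z : PD => ((z : A.stab U1) : A.L)) he :))
    refine lt_of_le_of_lt hDcard (lt_of_lt_of_le hlt ?_)
    refine Nat.card_le_card_of_injective (fun σ => (⟨x σ, hx σ⟩ : normalizerIn S U2)) fun σ σ' he => ?_
    have h1 : A.J (x σ) = A.J (x σ') := congrArg A.J (congrArg Subtype.val he)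
    rw [hxe, hxe] at h1
    exact Subtype.ext (Subtype.ext (mul_left_cancel (mul_right_cancel h1)))

end Cfsg.FusionSystem.Product
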