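import Cfsg.Agent.Lib.Fusion.Product.Gens

/-!
Maps of the generated system on a larger part in `T` come from local groups.
-/

set_option autoImplicit false
set_option linter.unusedSectionVars false
set_option linter.unusedVariables false
set_option linter.style.haveILetI false

namespace Cfsg.FusionSystem.Product

open Cfsg.FusionSystem.SubCent (isIso_self iterate_isIso)

universe u

variable {Ω : Type u} [Group Ω] {S T : Subgroup Ω} {F : FusionSystem S} {E : FusionSystem T}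
  {P Q R R1 U V D D' : Subgroup Ω} {f g γ : Ω → Ω} {p : ℕ} [Finite S] [Fact p.Prime]

/-- The elements inducing maps of `E` on `U` lie in `T C_S(U)`. -/
def KerCond (E : FusionSystem T) (S U : Subgroup Ω) : Prop :=
  ∀ s ∈ S, ∀ (e : Ω → Ω) (Q : Subgroup Ω), E.IsIso U Q e → (∀ x ∈ U, e x = s * x * s⁻¹) →
    ∃ t ∈ T, ∃ c ∈ centralizerIn S U, s = t * c

theorem le_normalizer_inter (hc : Setup F p E) (hP : P ≤ S) : P ≤ normalizerIn S (P ⊓ T) := fun x hx =>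
  ⟨hP hx, mem_normalizer_of_sConj (by
    refine le_antisymm ?_ ?_
    · rintro _ ⟨y, hy, rfl⟩
      exact ⟨P.mul_mem (P.mul_mem hx hy.1) (P.inv_mem hx), hc.conj_mem (hP hx) hy.2⟩
    · intro y hy
      refine ⟨x⁻¹ * y * x, ⟨P.mul_mem (P.mul_mem (P.inv_mem hx) hy.1) hx, hc.conj_mem' (hP hx) hy.2⟩, ?_⟩
      show x * (x⁻¹ * y * x) * x⁻¹ = y
      group)⟩

/-- A good subgroup gives the condition on overgroups normalising it. -/
theorem kerCond_of_good (hc : Setup F p E) (hR : Good F p E R) (hRU : R ≤ U) (hUT : U ≤ T)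
    (hn : U ≤ Subgroup.normalizer (R : Set Ω)) (hCn : centralizerIn S R ≤ Subgroup.normalizer (U : Set Ω)) :
    KerCond E S U := by
  intro s hs e Q he hse
  obtain ⟨Q', he', -, -⟩ := he.restrict hRU
  obtain ⟨t, ht, c, hc', rfl⟩ := hR.ker hc hs he' fun x hx => hse x (hRU hx)
  have hcn : c ∈ Subgroup.normalizer (U : Set Ω) := hCn hc'
  have h1 : E.IsIso Q (sConj t⁻¹ Q) (fun x => t⁻¹ * x * t⁻¹⁻¹) := isIso_conj he.le_right (T.inv_mem ht)
  have h2 := he.comp h1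
  haveI := hc.finT
  have h3 : E.IsIso U U (fun x => c * x * c⁻¹) := by
    refine isIso_self (h2.congr fun x hx => ?_) le_rfl fun x hx => (Subgroup.mem_normalizer_iff.mp hcn x).mp hx
    show c * x * c⁻¹ = t⁻¹ * e x * t⁻¹⁻¹
    rw [hse x hx]; group
  obtain ⟨z, hz, -, hze⟩ := eqOn_conj hc hR.centric hRU hn h3 fun r hr => by
    show c * r * c⁻¹ = r
    rw [← Subgroup.mem_centralizer_iff.mp hc'.2 r hr, mul_inv_cancel_right]
  refine ⟨t * z, T.mul_mem ht (hR.centric.1 hz), z⁻¹ * c,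
    ⟨S.mul_mem (S.inv_mem (hc.le_S (hR.centric.1 hz))) hc'.1, Subgroup.mem_centralizer_iff.mpr fun u hu => ?_⟩,
    by group⟩
  have h4 := hze u hu
  calc u * (z⁻¹ * c) = z⁻¹ * (z * u * z⁻¹) * c := by group
    _ = z⁻¹ * c * u := by rw [← h4]; group

/-- Maps of the crude system carry the centraliser of a centric subgroup of `T` onto that of its image. -/
theorem cent_onto (hc : Setup F p E) (hγ : (amb hc).IsIso D D' γ) (hUD : U ≤ D) (hU : E.IsCentric U)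
    (hCD : centralizerIn S U ≤ D) (hm : ∀ y, y ∈ R1 ↔ ∃ x ∈ U, γ x = y) (hk : KerCond E S U) :
    ∀ c ∈ centralizerIn S R1, ∃ x ∈ centralizerIn S U, γ x = c := by
  intro c hc'
  haveI := hc.finT
  obtain ⟨hγF, s0, hs0, htr, e, Q, he, hγe⟩ := (isIso_amb_iff hc).mp hγ
  have hUDT : U ≤ D ⊓ T := le_inf hUD hU.1
  obtain ⟨Q1, he1, -, hQ1⟩ := he.restrict hUDT
  have hR1c : E.IsCentric R1 := hc.inv.isCentric_of_isIso hU (hγF.restrict' hUD hm)
  set c1 := s0⁻¹ * c * s0 with hc1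
  have hc1S : c1 ∈ S := S.mul_mem (S.mul_mem (S.inv_mem hs0) hc'.1) hs0
  have hfix : ∀ u ∈ U, c1 * e u * c1⁻¹ = e u := by
    intro u hu
    have h1 := Subgroup.mem_centralizer_iff.mp hc'.2 _ ((hm _).mpr ⟨u, hu, rfl⟩)
    rw [hγe u (hUDT hu)] at h1
    calc c1 * e u * c1⁻¹ = s0⁻¹ * (c * (s0 * e u * s0⁻¹)) * c⁻¹ * s0 := by rw [hc1]; group
      _ = e u := by rw [← h1]; group
  obtain ⟨e', he', he'e⟩ := conj_transport hc.inv hc1S he1
  have hQfix : Q1.map (MulAut.conj c1).toMonoidHom = Q1 := by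
    ext y
    rw [mem_map_conj]
    constructor
    · rintro ⟨z, hz, rfl⟩
      obtain ⟨u, hu, rfl⟩ := (hQ1 z).mp hz
      rwa [hfix u hu]
    · intro hy
      obtain ⟨u, hu, rfl⟩ := (hQ1 y).mp hy
      exact ⟨_, hy, hfix u hu⟩
  rw [hQfix] at he'
  obtain ⟨ei, hei, heil, -⟩ := he'.symm
  obtain ⟨t, ht, c2, hc2, he2⟩ := hk c1 hc1S _ _ ((he1.comp hei).congr (g := fun x => c1 * x * c1⁻¹) fun x hx => by
    have h1 := he'e x hx
    rw [hfix x hx] at h1
    show c1 * x * c1⁻¹ = ei (e x)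
    rw [← h1, heil _ (mem_map_conj.mpr ⟨x, hx, rfl⟩)]) fun x _ => rfl
  have hc2D := hCD hc2
  set w := c * (γ c2)⁻¹ with hw
  have hwT : w ∈ T := by
    have hτ := htr c2 hc2D
    have h1 : c = s0 * t * s0⁻¹ * (γ c2 * ((s0 * c2 * s0⁻¹)⁻¹ * γ c2)⁻¹) := by
      have : c = s0 * c1 * s0⁻¹ := by rw [hc1]; group
      rw [this, he2]; group
    have h2 : w = s0 * t * s0⁻¹ * (γ c2 * ((s0 * c2 * s0⁻¹)⁻¹ * γ c2)⁻¹ * (γ c2)⁻¹) := by
      rw [hw]; nth_rewrite 1 [h1]; group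
    rw [h2]
    exact T.mul_mem (hc.conj_mem hs0 ht) (hc.conj_mem (hγF.le_right (hγF.mem hc2D)) (T.inv_mem hτ))
  have hγc2 : γ c2 ∈ centralizerIn S R1 := SubCent.map_centralizer hγF hUD hm hc2 hc2D
  have hwR : w ∈ R1 := hR1c.centralizerIn_le_self
    ⟨hwT, (Subgroup.centralizer _).mul_mem hc'.2 ((Subgroup.centralizer _).inv_mem hγc2.2)⟩
  obtain ⟨u, hu, hue⟩ := (hm w).mp hwR
  refine ⟨u * c2, (centralizerIn S U).mul_mem ⟨hc.le_S (hU.1 hu), Subgroup.mem_centralizer_iff.mpr fun x hx => ?_⟩ hc2, ?_⟩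
  · refine hγF.inj (D.mul_mem (hUD hx) (hUD hu)) (D.mul_mem (hUD hu) (hUD hx)) ?_
    rw [hγF.apply_mul (hUD hx) (hUD hu), hγF.apply_mul (hUD hu) (hUD hx), hue]
    exact Subgroup.mem_centralizer_iff.mp ((Subgroup.centralizer _).mul_mem hc'.2
      ((Subgroup.centralizer _).inv_mem hγc2.2)) _ ((hm _).mpr ⟨x, hx, rfl⟩)
  · rw [hγF.apply_mul (hUD hu) hc2D, hue, hw, inv_mul_cancel_right]

/-- Maps of the generated system between subgroups over `R` fixing `R` come from its local groups. -/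
def LocalHolds (hc : Setup F p E) (R : Subgroup Ω) : Prop :=
  ∀ (A : Loc F p E R) (P P' : Subgroup Ω) (f : Ω → Ω), (prodSys hc).IsIso P P' f → R ≤ P →
    centralizerIn S R ≤ P → P ≤ normalizerIn S R → (∀ r ∈ R, f r ∈ R) → A.Maps P f

set_option maxHeartbeats 1000000 in
theorem level_up (hc : Setup F p E) (hR : Good F p E R)
    (ih : ∀ R' : Subgroup Ω, Good F p E R' → Nat.card R < Nat.card R' → LocalHolds hc R') (A : Loc F p E R)
    {P P' : Subgroup Ω} {φ : Ω → Ω} (hφ : (prodSys hc).IsIso P P' φ) (hRP : R ≤ P)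
    (hCP : centralizerIn S R ≤ P) (hPN : P ≤ normalizerIn S R) (hφR : ∀ r ∈ R, φ r ∈ R) (hlt : R < P ⊓ T) :
    A.Maps P φ := by
  have hX := big_prodSys hc
  haveI := hc.finT
  have hRT := hR.centric.1
  have hRS : R ≤ S := hRT.trans hc.le_S
  have hRN : R ≤ normalizerIn S R := le_normalizerIn hRS
  have hPS : P ≤ S := hφ.le_left
  have hφF := hφ.mono (prodSys_le_F hc)
  have hRm := SubCent.image_self hφF hRP hφR
  have hP'N : P' ≤ normalizerIn S R := fun y hy => by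
    obtain ⟨x, hx, rfl⟩ := hφ.surj hy
    exact ⟨hφ.le_right hy, hφF.mem_normalizer hRP hRm hx (hPN hx).2⟩
  have hCP' : centralizerIn S R ≤ P' := by
    haveI := finite_of_le hPS
    haveI := finite_centralizerIn (S := S) (P := R)
    let ι : centralizerIn S R → centralizerIn S R := fun x => ⟨φ x, SubCent.map_centralizer hφF hRP hRm x.2 (hCP x.2)⟩
    have hb : Function.Bijective ι := Finite.injective_iff_bijective.mp fun a b he =>
      Subtype.ext (hφ.inj (hCP a.2) (hCP b.2) (congrArg Subtype.val he :))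
    intro c hc'
    obtain ⟨x, hx⟩ := hb.2 ⟨c, hc'⟩
    have : φ x = c := congrArg Subtype.val hx
    exact this ▸ hφ.mem (hCP x.2)
  obtain ⟨m, hm⟩ := hR.realise hc A ((hφ.mono hX.le).restrict' hRP hRm)
  have hland : ∀ x ∈ P, ∃ y ∈ P', A.J y = m * A.J x * m⁻¹ := fun x hx => by
    obtain ⟨c, hc', he⟩ := A.land_map hc hR.norm hm hφF hRP hPN hP'N (fun r _ => rfl) hx
    exact ⟨_, P'.mul_mem (hφ.mem hx) (hCP' hc'), he.symm⟩
  obtain ⟨μ, Q0, -, hμr⟩ := A.rep_iso hPN (m := m) fun x hx => by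
    obtain ⟨y, hy, hye⟩ := hland x hx
    rw [← hye]; exact A.J_mem_range (hP'N hy)
  obtain ⟨Q1, hμ⟩ := hX.maps R hR A P μ hRP hPN ⟨m, hμr⟩
  haveI := finite_of_le hφ.le_right
  have hQ1 : Q1 = P' := by
    refine Subgroup.eq_of_le_of_card_ge (fun z hz => ?_) (by rw [← hμ.card_eq, hφ.card_eq])
    obtain ⟨x, hx, rfl⟩ := hμ.surj hz
    obtain ⟨y, hy, hye⟩ := hland x hx
    rwa [A.J_inj (hμr x hx).1 (hP'N hy) ((hμr x hx).2.trans hye.symm)]
  rw [hQ1] at hμ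
  obtain ⟨μi, hμi, hμl, hμrr⟩ := hμ.symm
  set δ := fun x => μi (φ x) with hδdef
  have hδ : (prodSys hc).IsIso P P δ := hφ.comp hμi
  have hδR : ∀ r ∈ R, δ r = r := fun r hr => by
    show μi (φ r) = r
    rw [← (hμr.restrict (A := A) hRP).eq (A := A) hm hr]
    exact hμl r (hRP hr)
  suffices h : ∃ g ∈ P, ∀ x ∈ P, δ x = g * x * g⁻¹ by
    obtain ⟨g, hg, hge⟩ := h
    refine ⟨m * A.J g, ((A.rep_conj (hPN hg) hPN).comp (A := A) hμr fun x hx =>
      P.mul_mem (P.mul_mem hg hx) (P.inv_mem hg)).congr (A := A) fun x hx => ?_⟩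
    show φ x = μ (g * x * g⁻¹)
    rw [← hge x hx]
    exact (hμrr _ (hφ.mem hx)).symm
  -- the crude decomposition of `δ`
  obtain ⟨hδF, s, hs, -, e, Q, he, hδe⟩ := (isIso_amb_iff hc).mp (hδ.mono (prodSys_le_amb hc))
  set U := P ⊓ T with hU
  have hRU : R ≤ U := le_inf hRP hRT
  have hUT : U ≤ T := inf_le_right
  have hUN : U ≤ Subgroup.normalizer (R : Set Ω) := fun x hx => (hPN hx.1).2
  obtain ⟨Q', he', -, -⟩ := he.restrict hRU
  obtain ⟨t, ht, c, hc', hsc⟩ := hR.ker hc (S.inv_mem hs) he' fun r hr => by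
    have h1 := hδe r (hRU hr)
    rw [hδR r hr] at h1
    nth_rewrite 2 [h1]
    group
  have hs' : s = c⁻¹ * t⁻¹ := by rw [← mul_inv_rev, ← hsc, inv_inv]
  have hcP := hCP hc'
  have hδ1 : (prodSys hc).IsIso P P (fun x => c * δ x * c⁻¹) :=
    hδ.comp (isIso_conj_normalizer hPS hc'.1 (Subgroup.le_normalizer hcP))
  have hE1 : E.IsIso U U (fun x => c * δ x * c⁻¹) := by
    have h1 : E.IsIso Q (sConj t⁻¹ Q) (fun x => t⁻¹ * x * t⁻¹⁻¹) := isIso_conj he.le_right (T.inv_mem ht)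
    refine isIso_self ((he.comp h1).congr fun x hx => ?_) le_rfl fun x hx =>
      (inter_iso hc.closed (hδ1.mono (prodSys_le_F hc))).mem hx
    rw [hδe x hx, hs']
    group
  obtain ⟨z, hz, -, hze⟩ := eqOn_conj hc hR.centric hRU hUN hE1 fun r hr => by
    rw [hδR r hr, ← Subgroup.mem_centralizer_iff.mp hc'.2 r hr, mul_inv_cancel_right]
  have hzP := hRP hz
  set δ2 := fun x => z⁻¹ * (c * δ x * c⁻¹) * z⁻¹⁻¹ with hδ2def
  have hδ2 : (prodSys hc).IsIso P P δ2 :=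
    hδ1.comp (isIso_conj_normalizer hPS (S.inv_mem (hPS hzP)) (Subgroup.le_normalizer (P.inv_mem hzP)))
  have hδ2U : ∀ u ∈ U, δ2 u = u := fun u hu => by
    show z⁻¹ * (c * δ u * c⁻¹) * z⁻¹⁻¹ = u
    rw [show c * δ u * c⁻¹ = z * u * z⁻¹ from hze u hu]; group
  -- a coordinate of `U`
  have hUc : E.IsCentric U := isCentric_of_le hR.centric hRU hUT
  obtain ⟨R2, γ, hR2, hcoord⟩ := (exists_step hX U hUT).1 hUc
  have hUS : U ≤ S := hUT.trans hc.le_S
  have hγU := hcoord.iso hUS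
  obtain ⟨D, hγ, hDR2, hR2m⟩ := hcoord
  have hPNU : P ≤ normalizerIn S U := le_normalizer_inter hc hPS
  obtain ⟨D1, hγP, hD1D, hD1m⟩ := hγ.restrict hPNU
  obtain ⟨γi, hγi, hγl, -⟩ := hγP.symm
  have hδ' : (prodSys hc).IsIso D1 D1 (fun y => γ (δ2 (γi y))) := (hγi.comp hδ2).comp hγP
  have hR2D1 : R2 ≤ D1 := fun y hy => by
    obtain ⟨x, hx, rfl⟩ := (hR2m y).mp hy
    exact hγP.mem hx.1
  have hR2fix : ∀ y ∈ R2, γ (δ2 (γi y)) = y := fun y hy => by
    obtain ⟨x, hx, rfl⟩ := (hR2m y).mp hy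
    rw [hγl x hx.1, hδ2U x hx]
  have hCR : centralizerIn S U ≤ centralizerIn S R :=
    fun x hx => ⟨hx.1, Subgroup.centralizer_le (SetLike.coe_subset_coe.mpr hRU) hx.2⟩
  have hker : KerCond E S U :=
    kerCond_of_good hc hR hRU hUT hUN (hCP.trans (hPNU.trans inf_le_right))
  have hCo := cent_onto hc (hγ.mono hX.le) (le_normalizerIn hUS) hUc Loc.centralizerIn_le_NR hR2m hker
  have hC2 : centralizerIn S R2 ≤ D1 := fun y hy => by
    obtain ⟨x, hx, rfl⟩ := hCo y hy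
    exact hγP.mem (hCP (hCR hx))
  obtain ⟨A2⟩ := exists_loc hc hR2.centric hR2.norm
  have hcard : Nat.card R < Nat.card R2 := by
    haveI := finite_of_le hUT
    rw [← hγU.card_eq]
    exact Family.card_lt_of_lt hlt
  obtain ⟨k, hk⟩ := ih R2 hR2 hcard A2 D1 D1 _ hδ' hR2D1 hC2 (hD1D.trans hDR2) fun y hy => (hR2fix y hy).symm ▸ hy
  have hR2N : R2 ≤ normalizerIn S R2 := le_normalizerIn (hR2.centric.1.trans hc.le_S)
  obtain ⟨d, hd, hdk⟩ := A2.cent_top hc hR2.norm (m := k) fun r hr => by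
    have h1 : A2.J (γ (δ2 (γi r))) = k * A2.J r * k⁻¹ := (hk r (hR2D1 hr)).2
    rw [hR2fix r hr] at h1
    exact h1.symm
  obtain ⟨c2, hc2, rfl⟩ := hCo d hd
  have hc2P := hCP (hCR hc2)
  have hδ2c : ∀ x ∈ P, δ2 x = c2 * x * c2⁻¹ := by
    intro x hx
    have hr1 : A2.Rep k D1 (fun y => γ c2 * y * (γ c2)⁻¹) := by
      rw [← hdk]
      exact A2.rep_conj (hDR2 (hγ.mem (hPNU hc2P))) (hD1D.trans hDR2)
    have h1 : γ (δ2 (γi (γ x))) = γ c2 * γ x * (γ c2)⁻¹ := hk.eq (A := A2) hr1 (hγP.mem hx)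
    rw [hγl x hx, ← hγP.apply_conj hc2P hx] at h1
    exact hγP.inj (hδ2.mem hx) (P.mul_mem (P.mul_mem hc2P hx) (P.inv_mem hc2P)) h1
  refine ⟨c⁻¹ * z * c2, P.mul_mem (P.mul_mem (P.inv_mem hcP) hzP) hc2P, fun x hx => ?_⟩
  have h1 : z⁻¹ * (c * δ x * c⁻¹) * z⁻¹⁻¹ = c2 * x * c2⁻¹ := hδ2c x hx
  calc δ x = c⁻¹ * z * (z⁻¹ * (c * δ x * c⁻¹) * z⁻¹⁻¹) * z⁻¹ * c := by group
    _ = _ := by rw [h1]; group

end Cfsg.FusionSystem.Product
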