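import Cfsg.Agent.Lib.Fusion.Product.Normalizer

/-!
Local groups at centric subgroups of the carrier of a normal subsystem.
-/

set_option autoImplicit false
set_option linter.unusedSectionVars false
set_option linter.style.haveILetI false

namespace Cfsg.FusionSystem.Product

open Cfsg.FusionSystem.SubCent (isIso_self image_self map_centralizer iterate_isIso)

universe u

variable {Ω : Type u} [Group Ω] {S T : Subgroup Ω} {F : FusionSystem S} {E : FusionSystem T}
  {P Q R U V : Subgroup Ω} {f g : Ω → Ω} {p : ℕ}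

/-- `l` acts through `j` as `f` on `P`. -/
def RepOn {L : Type u} [Group L] (j : ↥(normalizerIn S R) →* L) (l : L) (P : Subgroup Ω) (f : Ω → Ω) : Prop :=
  ∀ r : ↥(normalizerIn S R), (r : Ω) ∈ P → ∃ r' : ↥(normalizerIn S R), (r' : Ω) = f r ∧ j r' = l * j r * l⁻¹

/-- A group inducing `Aut_E(R) Aut_S(R)` on `R`, with `N_S(R)` as a Sylow subgroup. -/
structure Loc (F : FusionSystem S) (p : ℕ) (E : FusionSystem T) (R : Subgroup Ω) : Type (u + 1) where
  L : Type u
  [grp : Group L]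
  [fin : Finite L]
  j : ↥(normalizerIn S R) →* L
  N : Subgroup L
  inj : Function.Injective j
  normN : N.Normal
  top : N ⊔ j.range = ⊤
  normR : ((R.subgroupOf (normalizerIn S R)).map j).Normal
  sylow : ∃ P : Sylow p L, (P : Subgroup L) = j.range
  mem_N : ∀ x : ↥(normalizerIn S R), j x ∈ N ↔ (x : Ω) ∈ T
  cent : ∀ n ∈ N, (∀ r : ↥(normalizerIn S R), (r : Ω) ∈ R → n * j r * n⁻¹ = j r) →
    ∃ z : ↥(normalizerIn S R), (z : Ω) ∈ centralizerIn T R ∧ j z = n
  lift : ∀ f, E.IsIso R R f → ∃ n ∈ N, RepOn j n R f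
  restr : ∀ n ∈ N, ∃ f, E.IsIso R R f ∧ RepOn j n R f
  conj : ∀ (P : Subgroup Ω) (l : L), P ≤ normalizerIn S R →
    (∀ x : ↥(normalizerIn S R), (x : Ω) ∈ P → l * j x * l⁻¹ ∈ j.range) →
    ∃ f P', F.IsIso P P' f ∧ RepOn j l P f

attribute [instance] Loc.grp Loc.fin

section

variable [Finite S] [Fact p.Prime]

set_option maxHeartbeats 2000000 in
/-- Local groups exist. -/
theorem exists_loc (hc : Setup F p E) (hR : E.IsCentric R) (hRn : E.IsFullyNormalized R) :
    Nonempty (Loc F p E R) := by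
  classical
  have hS := hc.pgroup
  have hF := hc.sat
  have hT := hc.closed
  haveI := hc.finT
  have hRT := hR.1
  have hRS : R ≤ S := hRT.trans hc.le_S
  -- a fully normalised conjugate
  obtain ⟨U, hRU, hUn⟩ := F.exists_isFullyNormalized hRS
  obtain ⟨φ, hφ, hφr, ψ, hψ, hψN, hψe⟩ := hF.exists_map_to_fullyNormalized hS hUn hRU
  set Ψ := funOf ψ with hΨ
  have hΨiso := isIso_funOf hψ
  have hRN : R ≤ normalizerIn S R := le_normalizerIn hRS
  have hΨR : ∀ y, y ∈ U ↔ ∃ x ∈ R, Ψ x = y := fun y => by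
    constructor
    · intro hy
      obtain ⟨x, hx⟩ := hφr.ge hy
      exact ⟨x, x.2, by rw [hΨ, ← funOf_apply ψ ⟨x, hRN x.2⟩, hψe x, hx]⟩
    · rintro ⟨x, hx, rfl⟩
      rw [hΨ, ← funOf_apply ψ ⟨x, hRN hx⟩, hψe ⟨x, hx⟩]
      exact hφr.le ⟨_, rfl⟩
  have hRU' : F.IsIso R U Ψ := hΨiso.restrict' hRN hΨR
  have hUc : E.IsCentric U := hc.inv.isCentric_of_isIso hR hRU'
  have hUT := hUc.1
  have hUS : U ≤ S := hUn.1
  have hUnE : E.IsFullyNormalized U := hUn.of_invariant hc.inv hS hF hUT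
  have hUfc := hF.isFullyCentralized_of_isFullyNormalized hS hUn
  -- the model
  set W := U ⊔ centralizerIn S U with hW
  have hWN : W ≤ normalizerIn S U := sup_le (le_normalizerIn hUS) fun c hc' =>
    ⟨hc'.1, Subgroup.centralizer_le_normalizer _ hc'.2⟩
  obtain ⟨hfin2, hset⟩ := normalizer_setup_ext hS hF hUn
  haveI := hfin2
  have h := hset hWN
  set N1 := F.normalizerSystem U hUn.1
  set N2 := N1.normalizerSystem W hWN
  set L := h.Ext h.isBiset_carrier
  have hG : h.IsExt L (h.extι h.isBiset_carrier) (h.extPr h.isBiset_carrier) := h.isExt_ext h.isBiset_carrier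
  obtain ⟨hLfin, ⟨-, hreal⟩, ⟨PL, hPL⟩, -⟩ := hG.isModel h
  haveI := hLfin
  set ι0 := h.extι h.isBiset_carrier with hι0
  set pr := h.extPr h.isBiset_carrier
  let inc : ↥(normalizerIn S U) →* ↥(normalizerIn (normalizerIn S U) W) :=
    (Subgroup.inclusion fun x hx => normalizerIn_ext hx)
  set ι : ↥(normalizerIn S U) →* L := ι0.comp inc with hι
  have hιinj : Function.Injective ι := fun a b hab => Subgroup.inclusion_injective _ (hG.inj hab)
  have hιrange : ι.range = ι0.range := by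
    ext l
    constructor
    · rintro ⟨a, rfl⟩; exact ⟨_, rfl⟩
    · rintro ⟨a, rfl⟩; exact ⟨⟨a, a.2.1⟩, congrArg ι0 (Subtype.ext rfl)⟩
  have hιp : IsPGroup p ι.range := by rw [hιrange, ← hPL]; exact PL.2
  -- the action on `W`
  let act : L → Ω → Ω := fun l => funOf (W.subtype.comp ((pr l : MulAut W)).toMonoidHom)
  have hact : ∀ l (x : W), act l x = (((pr l : MulAut W) x : W) : Ω) := fun l x =>
    (funOf_apply (W.subtype.comp ((pr l : MulAut W)).toMonoidHom) x).symm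
  have hactW : ∀ l, ∀ x ∈ W, act l x ∈ W := fun l x hx => by
    rw [hact l ⟨x, hx⟩]; exact SetLike.coe_mem _
  have hact2 : ∀ l, N2.IsIso W W (act l) := fun l => by
    obtain ⟨f, hf, hfe⟩ := isIso_of_aut (le_normalizerIn (hW ▸ hWN)) (pr l).2
    exact hf.congr fun x hx => (hact l ⟨x, hx⟩).trans (hfe ⟨x, hx⟩)
  have hactF : ∀ l, F.IsIso W W (act l) := fun l =>
    ((hact2 l).mono (normalizerSystem_le hWN)).mono (normalizerSystem_le hUn.1)
  have hactU : ∀ l, ∀ x ∈ U, act l x ∈ U := fun l x hx =>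
    normalizerSystem_pres hUn.1 ((hact2 l).mono (normalizerSystem_le hWN)) le_sup_left hx
  have hactimg : ∀ l, ∀ y, y ∈ U ↔ ∃ x ∈ U, act l x = y := fun l =>
    image_self (hactF l) le_sup_left (hactU l)
  have hactC : ∀ l, ∀ c ∈ centralizerIn S U, act l c ∈ centralizerIn S U := fun l c hc' =>
    map_centralizer (hactF l) le_sup_left (hactimg l) hc' (Subgroup.mem_sup_right hc')
  have hactmul : ∀ l m, ∀ x ∈ W, act (l * m) x = act l (act m x) := fun l m x hx => by
    rw [hact m ⟨x, hx⟩, hact l ((pr m : MulAut W) ⟨x, hx⟩), hact (l * m) ⟨x, hx⟩, map_mul]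
    rfl
  have hact1 : ∀ x ∈ W, act 1 x = x := fun x hx => by rw [hact 1 ⟨x, hx⟩, map_one]; rfl
  have hconjW : ∀ (l : L) (x : ↥(normalizerIn S U)) (hx : (x : Ω) ∈ W),
      l * ι x * l⁻¹ = ι ⟨act l x, hWN (hactW l x hx)⟩ := fun l x hx => by
    refine (hG.conj l ⟨x, hx⟩).trans ?_
    exact congrArg ι0 (Subtype.ext (hact l ⟨x, hx⟩).symm)
  have hactι : ∀ (s : ↥(normalizerIn S U)), ∀ x ∈ W, act (ι s) x = (s : Ω) * x * (s : Ω)⁻¹ := fun s x hx => by
    rw [hact _ ⟨x, hx⟩, show pr (ι s) = h.res (inc s) from hG.pr_res _, h.res_apply]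
    rfl
  -- automorphisms in `E`, trivial modulo `U` on the centraliser
  let A : Subgroup L :=
    { carrier := {l | (∃ a, E.IsIso U U a ∧ ∀ x ∈ U, act l x = a x) ∧ ∀ c ∈ centralizerIn S U, c⁻¹ * act l c ∈ U}
      one_mem' := ⟨⟨fun x => x, IsIso.refl E hUT, fun x hx => hact1 x (Subgroup.mem_sup_left hx)⟩,
        fun c hc' => by rw [hact1 c (Subgroup.mem_sup_right hc'), inv_mul_cancel]; exact U.one_mem⟩
      mul_mem' := by
        rintro l m ⟨⟨a, ha, hae⟩, hat⟩ ⟨⟨b, hb, hbe⟩, hbt⟩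
        refine ⟨⟨_, hb.comp ha, fun x hx => ?_⟩, fun c hc' => ?_⟩
        · rw [hactmul l m x (Subgroup.mem_sup_left hx), hbe x hx, hae _ (hb.mem hx)]
        · rw [hactmul l m c (Subgroup.mem_sup_right hc')]
          have := U.mul_mem (hbt c hc') (hat _ (hactC m c hc'))
          simpa [mul_assoc] using this
      inv_mem' := by
        rintro l ⟨⟨a, ha, hae⟩, hat⟩
        obtain ⟨ai, hai, -, har⟩ := ha.symm
        have hinv : ∀ x ∈ W, act l (act l⁻¹ x) = x := fun x hx => by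
          rw [← hactmul l l⁻¹ x hx, mul_inv_cancel, hact1 x hx]
        refine ⟨⟨ai, hai, fun x hx => ?_⟩, fun c hc' => ?_⟩
        · refine (hactF l).inj (hactW _ _ (Subgroup.mem_sup_left hx)) (Subgroup.mem_sup_left (hai.mem hx)) ?_
          rw [hinv x (Subgroup.mem_sup_left hx), hae _ (hai.mem hx), har x hx]
        · have h1 := U.inv_mem (hat _ (hactC l⁻¹ c hc'))
          rw [hinv c (Subgroup.mem_sup_right hc')] at h1
          simpa [mul_inv_rev] using h1 }
  haveI hAn : A.Normal := by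
    refine ⟨fun l hl g => ?_⟩
    obtain ⟨⟨a, ha, hae⟩, hat⟩ := hl
    have hgU : F.IsIso U U (act g) := isIso_self (hactF g) le_sup_left (hactU g)
    obtain ⟨a', ha', ha'e⟩ := hc.inv.iso_transport hgU hUT ha le_rfl le_rfl (hactimg g) (hactimg g)
    have hinv : ∀ x ∈ W, act g (act g⁻¹ x) = x := fun x hx => by
      rw [← hactmul g g⁻¹ x hx, mul_inv_cancel, hact1 x hx]
    refine ⟨⟨a', ha', fun x hx => ?_⟩, fun c hc' => ?_⟩
    · have hxW : x ∈ W := Subgroup.mem_sup_left hx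
      rw [hactmul _ _ x hxW, hactmul _ _ _ (hactW _ _ hxW), hae _ (hactU _ _ hx), ← ha'e _ (hactU _ _ hx),
        hinv x hxW]
    · have hcW : c ∈ W := Subgroup.mem_sup_right hc'
      have h1 := hat _ (hactC g⁻¹ c hc')
      rw [hactmul _ _ c hcW, hactmul _ _ _ (hactW _ _ hcW)]
      have h3 := hactW l _ (hactW g⁻¹ _ hcW)
      rw [← mul_inv_cancel_left (act g⁻¹ c) (act l (act g⁻¹ c))]
      rw [(hactF g).apply_mul (hactW _ _ hcW) (Subgroup.mem_sup_left h1), hinv c hcW, inv_mul_cancel_left]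
      exact hactU g _ h1
  -- the part generated by elements of order prime to `p`
  let K : Subgroup L := Subgroup.closure {l | l ∈ A ∧ (orderOf l).Coprime p}
  have hKA : K ≤ A := (Subgroup.closure_le _).mpr fun l hl => hl.1
  haveI hKn : K.Normal := by
    refine ⟨fun l hl g => ?_⟩
    have : K.map (MulAut.conj g).toMonoidHom ≤ K := by
      rw [Subgroup.map_le_iff_le_comap, Subgroup.closure_le]
      intro x hx
      refine Subgroup.subset_closure ⟨hAn.conj_mem x hx.1 g, ?_⟩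
      show (orderOf ((MulAut.conj g) x)).Coprime p
      rw [MulEquiv.orderOf_eq]
      exact hx.2
    exact this ⟨l, hl, rfl⟩
  let TN : Subgroup L := (T.subgroupOf (normalizerIn S U)).map ι
  have hTNA : TN ≤ A := by
    rintro _ ⟨t, ht, rfl⟩
    refine ⟨⟨_, isIso_conj_normalizer hUT ht t.2.2, fun x hx => hactι t x (Subgroup.mem_sup_left hx)⟩,
      fun c hc' => hUc.centralizerIn_le_self ⟨?_, ?_⟩⟩
    · rw [hactι t c (Subgroup.mem_sup_right hc')]
      have := T.mul_mem (hc.conj_mem' hc'.1 ht) (T.inv_mem ht)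
      simpa [mul_assoc] using this
    · have h1 := (centralizerIn S U).mul_mem ((centralizerIn S U).inv_mem hc')
        (hactC (ι t) c hc')
      exact h1.2
  -- the Sylow part of `A`
  have hKT : ∀ x : ↥(normalizerIn S U), ι x ∈ K → (x : Ω) ∈ T := by
    intro x hx
    let QA : Sylow p A := CfsgLib.sylowInfNormal PL A
    have hQA : ∀ a : A, a ∈ (QA : Subgroup A) ↔ (a : L) ∈ ι.range := fun a => by
      rw [hιrange, ← hPL]
      exact Subgroup.mem_subgroupOf
    have hxQ : (⟨ι x, hKA hx⟩ : A) ∈ (QA : Subgroup A) ⊓ pResidual p A := by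
      refine ⟨(hQA _).mpr ⟨x, rfl⟩, ?_⟩
      have e : K = (pResidual p A).map A.subtype := by
        rw [show pResidual p A = Subgroup.closure {g : A | (orderOf g).Coprime p} from rfl,
          MonoidHom.map_closure]
        refine congrArg Subgroup.closure (Set.ext fun l => ⟨fun hl => ⟨⟨l, hl.1⟩, ?_, rfl⟩, ?_⟩)
        · show (orderOf (⟨l, hl.1⟩ : A)).Coprime p
          rw [← Subgroup.orderOf_coe]
          exact hl.2
        · rintro ⟨a, ha, rfl⟩
          exact ⟨a.2, by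
            show (orderOf (a : L)).Coprime p
            rw [Subgroup.orderOf_coe]; exact ha⟩
      obtain ⟨a, ha, hae⟩ := e.le hx
      rwa [show (⟨ι x, hKA hx⟩ : A) = a from Subtype.ext hae.symm]
    rw [← hyperfocalSubgroup_groupFusionSystem] at hxQ
    have hle : (groupFusionSystem (QA : Subgroup A)).hyperfocalSubgroup p ≤ TN.subgroupOf A := by
      refine (hyperfocal_group_le_iff QA).mpr fun P hP g hg _ a ha => ?_
      obtain ⟨s, hs⟩ := (hQA a).mp (hP ha)
      have haP2 : g * a * g⁻¹ ∈ P := (Subgroup.mem_normalizer_iff.mp hg a).mp ha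
      obtain ⟨y, hy⟩ := (hQA _).mp (hP haP2)
      obtain ⟨⟨a0, ha0, ha0e⟩, -⟩ := (hs ▸ a.2 : ι s ∈ A)
      obtain ⟨t, ht, c, hcC, hsc⟩ := exists_split hc hUnE s.2 ha0 fun z hz =>
        (ha0e z hz).symm.trans (hactι s z (Subgroup.mem_sup_left hz))
      -- the domain of conjugation by `g`
      let D : Subgroup Ω := (ι.range.comap ((MulAut.conj (g : L)).toMonoidHom.comp ι)).map
        (normalizerIn S U).subtype
      have hDN : D ≤ normalizerIn S U := Subgroup.map_subtype_le _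
      have hmemD : ∀ z : ↥(normalizerIn S U), (g : L) * ι z * (g : L)⁻¹ ∈ ι.range → (z : Ω) ∈ D :=
        fun z hz => ⟨z, hz, rfl⟩
      have hsD : (s : Ω) ∈ D := hmemD s ⟨y, by rw [hy, hs]; rfl⟩
      have hcW : c ∈ W := Subgroup.mem_sup_right hcC
      have hcD : c ∈ D := hmemD ⟨c, hWN hcW⟩ ⟨_, (hconjW _ ⟨c, hWN hcW⟩ hcW).symm⟩
      have htD : t ∈ D := by
        have := D.mul_mem hsD (D.inv_mem hcD)
        rwa [hsc, mul_inv_cancel_right] at this
      -- the map
      have hDim : ∀ z : D, ∃ w : ↥(normalizerIn (normalizerIn S U) W),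
          ι0 w = (g : L) * ι ⟨z, hDN z.2⟩ * (g : L)⁻¹ := by
        rintro ⟨_, z, ⟨w, hw⟩, rfl⟩
        exact ⟨inc w, hw⟩
      choose w hw using hDim
      let φD : D →* Ω :=
        { toFun := fun z => (w z : Ω)
          map_one' := by
            have h1 := hw 1
            rw [show (⟨((1 : D) : Ω), hDN (1 : D).2⟩ : ↥(normalizerIn S U)) = 1 from rfl, map_one, mul_one,
              mul_inv_cancel, ← map_one ι0] at h1
            exact congrArg Subtype.val (hG.inj h1)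
          map_mul' := fun z z' => by
            have h1 := hw (z * z')
            rw [show (⟨((z * z' : D) : Ω), hDN (z * z').2⟩ : ↥(normalizerIn S U)) =
              ⟨z, hDN z.2⟩ * ⟨z', hDN z'.2⟩ from rfl, map_mul] at h1
            have h2 : ι0 (w (z * z')) = ι0 (w z * w z') := by
              rw [h1, map_mul, hw z, hw z']; group
            exact congrArg Subtype.val (hG.inj h2) }
      have hφD : φD ∈ N2.Hom D :=
        (hreal D (fun z hz => normalizerIn_ext (hDN hz)) φD fun z => (w z).2).mpr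
          ⟨(g : L), fun z => (hw z).trans rfl⟩
      have hfD : F.IsIso D φD.range (funOf φD) :=
        ((isIso_funOf hφD).mono (normalizerSystem_le hWN)).mono (normalizerSystem_le hUn.1)
      have hfT : funOf φD t ∈ T := hT.iso_mem hfD htD ht.1
      have hfc : funOf φD c = act g c := by
        rw [← funOf_apply φD ⟨c, hcD⟩]
        have h1 := hw ⟨c, hcD⟩
        rw [hconjW _ ⟨c, hDN hcD⟩ hcW] at h1
        exact congrArg Subtype.val (hG.inj h1)
      have hfs : funOf φD s = y := by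
        rw [← funOf_apply φD ⟨s, hsD⟩]
        have h1 := hw ⟨s, hsD⟩
        have h2 : ι0 (w ⟨s, hsD⟩) = ι0 (inc y) := by
          rw [h1]
          show (g : L) * ι ⟨(s : Ω), _⟩ * (g : L)⁻¹ = ι y
          rw [hy, Subtype.coe_eta, hs]
          rfl
        exact congrArg Subtype.val (hG.inj h2)
      have hmem : (s : Ω)⁻¹ * y ∈ T := by
        have hu : c⁻¹ * act (g : L) c ∈ T := hUT ((g.2).2 c hcC)
        have h1 : (y : Ω) = funOf φD t * funOf φD c := by
          rw [← hfD.apply_mul htD hcD, ← hsc, hfs]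
        rw [h1, hfc, hsc]
        have h3 := T.mul_mem (hc.conj_mem' hcC.1 (T.mul_mem (T.inv_mem ht.1) hfT)) hu
        convert h3 using 1
        group
      refine Subgroup.mem_subgroupOf.mpr ⟨s⁻¹ * y, hmem, ?_⟩
      rw [map_mul, map_inv, hy, hs]
      rfl
    obtain ⟨t, ht, hte⟩ := Subgroup.mem_subgroupOf.mp (hle hxQ)
    rw [← hιinj hte]
    exact ht
  -- the group
  have hnormTN : ∀ x : ↥(normalizerIn S U), ∀ n ∈ TN, ι x * n * (ι x)⁻¹ ∈ TN := by
    rintro x _ ⟨t, ht, rfl⟩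
    exact ⟨x * t * x⁻¹, hc.conj_mem x.2.1 ht, by rw [map_mul, map_mul, map_inv]⟩
  set NN : Subgroup L := K ⊔ TN with hNN
  have hNA : NN ≤ A := sup_le hKA hTNA
  have hNι : ∀ x : ↥(normalizerIn S U), ι x ∈ NN → (x : Ω) ∈ T := by
    intro x hx
    obtain ⟨k, hk, _, ⟨t, ht, rfl⟩, hkt⟩ := Subgroup.mem_sup_of_normal_left.mp hx
    have : ι (x * t⁻¹) ∈ K := by rwa [map_mul, map_inv, ← hkt, mul_inv_cancel_right]
    have h1 := T.mul_mem (hKT _ this) ht
    simpa using h1
  -- the embedding of `N_S(R)`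
  let j0 : ↥(normalizerIn S R) →* L := ι.comp (ψ.codRestrict (normalizerIn S U) hψN)
  have hψval : ∀ x : ↥(normalizerIn S R), ψ x = Ψ x := fun x => funOf_apply ψ x
  have hTNj : ∀ n ∈ TN, ∃ x : ↥(normalizerIn S R), (x : Ω) ∈ T ∧ j0 x = n := by
    rintro _ ⟨t, ht, rfl⟩
    obtain ⟨x, hx, hxe⟩ := normalizer_onto hc hRn hΨiso hΨR (y := t) ⟨ht, t.2.2⟩
    exact ⟨⟨x, hc.le_S hx.1, hx.2⟩, hx.1, congrArg ι (Subtype.ext ((hψval _).trans hxe))⟩
  have hjnorm : ∀ (x : ↥(normalizerIn S R)), ∀ n ∈ NN, j0 x * n * (j0 x)⁻¹ ∈ NN := by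
    intro x n hn
    obtain ⟨k, hk, t, ht, rfl⟩ := Subgroup.mem_sup_of_normal_left.mp hn
    rw [show j0 x * (k * t) * (j0 x)⁻¹ = (j0 x * k * (j0 x)⁻¹) * (j0 x * t * (j0 x)⁻¹) by group]
    exact Subgroup.mul_mem_sup (hKn.conj_mem k hk _) (hnormTN _ t ht)
  let M : Subgroup L := NN ⊔ j0.range
  let jM : ↥(normalizerIn S R) →* M := j0.codRestrict M fun x => Subgroup.mem_sup_right ⟨x, rfl⟩
  have hjMinj : Function.Injective jM := fun a b hab => by
    have h1 : ψ.codRestrict (normalizerIn S U) hψN a = ψ.codRestrict (normalizerIn S U) hψN b :=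
      hιinj (congrArg Subtype.val hab)
    exact F.injective_of_mem hψ (congrArg Subtype.val h1)
  have hMnorm : ∀ m ∈ M, ∀ n ∈ NN, m * n * m⁻¹ ∈ NN := by
    have hle : M ≤ Subgroup.normalizer (NN : Set L) := sup_le Subgroup.le_normalizer (by
      rintro _ ⟨x, rfl⟩
      refine Subgroup.mem_normalizer_iff.mpr fun n => ⟨hjnorm x n, fun hn => ?_⟩
      have h1 := hjnorm x⁻¹ _ hn
      simpa [map_inv, mul_assoc] using h1)
    exact fun m hm n hn => (Subgroup.mem_normalizer_iff.mp (hle hm) n).mp hn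
  -- representation through `Ψ`
  have hrep : ∀ (l : M) (r : ↥(normalizerIn S R)) (hr : (r : Ω) ∈ R) (r' : ↥(normalizerIn S R)),
      Ψ r' = act (l : L) (Ψ r) → jM r' = l * jM r * l⁻¹ := by
    intro l r hr r' he
    apply Subtype.ext
    show j0 r' = (l : L) * j0 r * (l : L)⁻¹
    have hrW : ((ψ.codRestrict (normalizerIn S U) hψN r : ↥(normalizerIn S U)) : Ω) ∈ W :=
      Subgroup.mem_sup_left ((hΨR _).mpr ⟨r, hr, (hψval r).symm⟩)
    refine Eq.trans ?_ (hconjW (l : L) _ hrW).symm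
    refine congrArg ι (Subtype.ext ?_)
    show ψ r' = act (l : L) (ψ r)
    rw [hψval, hψval]
    exact he
  obtain ⟨Ψi, hΨi, hΨil, hΨir⟩ := hRU'.symm
  refine ⟨{ L := M, j := jM, N := NN.subgroupOf M, inj := hjMinj, normN := ⟨fun n hn m => hMnorm m m.2 n hn⟩,
            top := ?_, normR := ?_, sylow := ?_, mem_N := ?_, cent := ?_, lift := ?_, restr := ?_, conj := ?_ }⟩
  · -- top
    rw [eq_top_iff]
    rintro ⟨m, hm⟩ -
    haveI : (NN.subgroupOf M).Normal := ⟨fun n hn m => hMnorm m m.2 n hn⟩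
    have hle : M ≤ ((NN.subgroupOf M) ⊔ jM.range).map M.subtype := sup_le
      (fun n hn => ⟨⟨n, Subgroup.mem_sup_left hn⟩, Subgroup.mem_sup_left hn, rfl⟩)
      (by rintro _ ⟨x, rfl⟩; exact ⟨jM x, Subgroup.mem_sup_right ⟨x, rfl⟩, rfl⟩)
    obtain ⟨y, hy, hye⟩ := hle hm
    rwa [show (⟨m, hm⟩ : M) = y from Subtype.ext hye.symm]
  · -- normR
    refine ⟨?_⟩
    rintro _ ⟨r, hr, rfl⟩ l
    have hu : act (l : L) (Ψ r) ∈ U := hactU _ _ ((hΨR _).mpr ⟨r, hr, rfl⟩)
    exact ⟨⟨Ψi _, hRN (hΨi.mem hu)⟩, hΨi.mem hu, hrep l r hr _ (hΨir _ hu)⟩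
  · -- Sylow
    have hjp : IsPGroup p jM.range :=
      IsPGroup.of_surjective (hS.to_le normalizerIn_le) jM.rangeRestrict jM.rangeRestrict_surjective
    obtain ⟨P, hP⟩ := hjp.exists_le_sylow
    refine ⟨P, le_antisymm ?_ hP⟩
    intro q hq
    have hjKM : (q : L) ∈ NN ⊔ j0.range := q.2
    rw [show NN ⊔ j0.range = K ⊔ (TN ⊔ j0.range) from sup_assoc _ _ _,
      show TN ⊔ j0.range = j0.range from sup_eq_right.mpr fun n hn => by
        obtain ⟨x, -, rfl⟩ := hTNj n hn; exact ⟨x, rfl⟩] at hjKM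
    obtain ⟨k, hk, _, ⟨x, rfl⟩, hkx⟩ := Subgroup.mem_sup_of_normal_left.mp hjKM
    have hkP : k ∈ (P : Subgroup M).map M.subtype := by
      refine ⟨q * (jM x)⁻¹, (P : Subgroup M).mul_mem hq ((P : Subgroup M).inv_mem (hP ⟨x, rfl⟩)), ?_⟩
      show (q : L) * (j0 x)⁻¹ = k
      rw [← hkx, mul_inv_cancel_right]
    -- the Sylow subgroup of `K` lies in the image of `N_T(U)`
    have hKTN : ι.range ⊓ K ≤ (P : Subgroup M).map M.subtype ⊓ K := by
      rintro _ ⟨⟨y, rfl⟩, hy⟩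
      obtain ⟨z, -, hz⟩ := hTNj (ι y) ⟨y, hKT y hy, rfl⟩
      exact ⟨⟨jM z, hP ⟨z, rfl⟩, hz⟩, hy⟩
    have hle := Wedge.le_of_normal_pSubgroup PL
      (X := (P : Subgroup M).map M.subtype ⊓ K) ((P.2.map _).to_le inf_le_left) inf_le_right
      (by rw [hPL, ← hιrange]; exact hKTN) ⟨hkP, hk⟩
    rw [hPL, ← hιrange] at hle
    obtain ⟨y, hy⟩ := hle
    obtain ⟨z, -, hz⟩ := hTNj (ι y) ⟨y, hKT y (hy ▸ hk), rfl⟩
    exact ⟨z * x, Subtype.ext (by
      show j0 (z * x) = (q : L)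
      rw [map_mul, hz, hy, hkx])⟩
  · -- mem_N
    intro x
    constructor
    · intro hx
      have h1 := hNι _ (show ι (ψ.codRestrict (normalizerIn S U) hψN x) ∈ NN from hx)
      obtain ⟨Ψj, hΨj, hΨjl, -⟩ := hΨiso.symm
      have h2 : Ψ x ∈ T := by rwa [← hψval]
      rw [← hΨjl x x.2]
      exact hT.iso_mem hΨj (hΨiso.mem x.2) h2
    · intro hx
      refine Subgroup.mem_sup_right ⟨ψ.codRestrict (normalizerIn S U) hψN x, ?_, rfl⟩
      show ψ x ∈ T
      rw [hψval]
      exact hT.iso_mem hΨiso x.2 hx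
  · -- cent
    intro n hn hcen
    have hfixU : ∀ u ∈ U, act (n : L) u = u := by
      intro u hu
      obtain ⟨r, hr, rfl⟩ := (hΨR u).mp hu
      have h2 := congrArg Subtype.val (hcen ⟨r, hRN hr⟩ hr)
      have hrW : ((ψ.codRestrict (normalizerIn S U) hψN ⟨r, hRN hr⟩ : ↥(normalizerIn S U)) : Ω) ∈ W :=
        Subgroup.mem_sup_left ((hΨR _).mpr ⟨r, hr, (hψval ⟨r, hRN hr⟩).symm⟩)
      have h3 : ι ⟨act (n : L) (ψ ⟨r, hRN hr⟩), hWN (hactW _ _ hrW)⟩ =
          ι (ψ.codRestrict (normalizerIn S U) hψN ⟨r, hRN hr⟩) := (hconjW (n : L) _ hrW).symm.trans h2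
      have h4 := congrArg Subtype.val (hιinj h3)
      simp only [MonoidHom.codRestrict_apply] at h4
      rwa [hψval] at h4
    -- the elements of `A` centralising `U` form a normal `p`-subgroup
    let X : Subgroup L :=
      { carrier := {l | l ∈ A ∧ ∀ u ∈ U, act l u = u}
        one_mem' := ⟨A.one_mem, fun u hu => hact1 u (Subgroup.mem_sup_left hu)⟩
        mul_mem' := fun {l m} hl hm => ⟨A.mul_mem hl.1 hm.1, fun u hu => by
          rw [hactmul l m u (Subgroup.mem_sup_left hu), hm.2 u hu, hl.2 u hu]⟩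
        inv_mem' := fun {l} hl => ⟨A.inv_mem hl.1, fun u hu => by
          have hu' : u ∈ W := Subgroup.mem_sup_left hu
          refine (hactF l).inj (hactW _ _ hu') hu' ?_
          rw [← hactmul l l⁻¹ u hu', mul_inv_cancel, hact1 u hu', hl.2 u hu]⟩ }
    have hXn : X.Normal := ⟨fun l hl g => ⟨hAn.conj_mem l hl.1 g, fun u hu => by
      have hu' : u ∈ W := Subgroup.mem_sup_left hu
      rw [hactmul _ _ u hu', hactmul _ _ _ (hactW _ _ hu'), hl.2 _ (hactU _ _ hu), ← hactmul _ _ u hu',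
        mul_inv_cancel, hact1 u hu']⟩⟩
    have hXp : IsPGroup p X := by
      rintro ⟨l, hlA, hlU⟩
      haveI := finite_of_le hUS
      obtain ⟨a, ha⟩ := IsPGroup.iff_card.mp (hS.to_le hUS)
      have hlc : ∀ c ∈ centralizerIn S U, ∀ k : ℕ, act (l ^ k) c = c * (c⁻¹ * act l c) ^ k := by
        intro c hc' k
        have hu := hlA.2 c hc'
        induction k with
        | zero => rw [pow_zero, hact1 c (Subgroup.mem_sup_right hc'), pow_zero, mul_one]
        | succ k ih =>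
          rw [pow_succ', hactmul l (l ^ k) c (Subgroup.mem_sup_right hc'), ih,
            (hactF l).apply_mul (Subgroup.mem_sup_right hc') (Subgroup.mem_sup_left (U.pow_mem hu k)),
            hlU _ (U.pow_mem hu k), pow_succ', ← mul_assoc, mul_inv_cancel_left]
      have hlW : ∀ x ∈ W, act (l ^ p ^ a) x = x := by
        have hU1 : ∀ u ∈ U, act (l ^ p ^ a) u = u := by
          intro u hu
          have : ∀ k : ℕ, act (l ^ k) u = u := by
            intro k
            induction k with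
            | zero => rw [pow_zero, hact1 u (Subgroup.mem_sup_left hu)]
            | succ k ih => rw [pow_succ', hactmul _ _ u (Subgroup.mem_sup_left hu), ih, hlU u hu]
          exact this _
        have hC1 : ∀ c ∈ centralizerIn S U, act (l ^ p ^ a) c = c := by
          intro c hc'
          have hu := hlA.2 c hc'
          have h1 : (⟨_, hu⟩ : U) ^ p ^ a = 1 := by rw [← ha]; exact pow_card_eq_one'
          rw [hlc c hc', show (c⁻¹ * act l c) ^ p ^ a = 1 from congrArg Subtype.val h1, mul_one]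
        intro x hx
        have hcl := hx
        rw [hW, Subgroup.sup_eq_closure] at hcl
        refine SubCent.forall_closure_fixed (hactF (l ^ p ^ a))
          (le_of_eq (by rw [hW, Subgroup.sup_eq_closure])) (fun y hy => ?_) x hcl
        rcases hy with hy | hy
        · exact hU1 y hy
        · exact hC1 y hy
      have hpr : pr (l ^ p ^ a) = 1 := ModelSetup.aut_ext fun q => by
        rw [← hact]; exact hlW q q.2
      obtain ⟨z, -, hz⟩ := hG.ker _ hpr
      obtain ⟨b, hb⟩ := hS ⟨(z : Ω), z.2.1.1⟩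
      refine ⟨a + b, Subtype.ext ?_⟩
      show l ^ p ^ (a + b) = 1
      have hzb : z ^ p ^ b = 1 := Subtype.ext (congrArg Subtype.val hb : ((z : Ω)) ^ p ^ b = 1)
      rw [pow_add, pow_mul, ← hz, ← map_pow, hzb, map_one]
    have hnX : (n : L) ∈ X := ⟨hNA hn, hfixU⟩
    have h1 := SubCent.le_sylow PL hXn hXp hnX
    rw [hPL, ← hιrange] at h1
    obtain ⟨s, hs⟩ := h1
    have hsT : (s : Ω) ∈ T := hNι s (hs ▸ hn)
    have hsC : (s : Ω) ∈ centralizerIn T U := by
      refine ⟨hsT, Subgroup.mem_centralizer_iff.mpr fun u hu => ?_⟩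
      have h2 : (s : Ω) * u * (s : Ω)⁻¹ = u := by
        rw [← hactι s u (Subgroup.mem_sup_left hu), hs]
        exact hfixU u hu
      calc u * (s : Ω) = (s : Ω) * u * (s : Ω)⁻¹ * s := by rw [h2]
        _ = s * u := by group
    obtain ⟨r, hr, hre⟩ := (hΨR _).mp (hUc.centralizerIn_le_self hsC)
    refine ⟨⟨r, hRN hr⟩, ⟨hRT hr, Subgroup.mem_centralizer_iff.mpr fun r' hr' => ?_⟩, Subtype.ext ?_⟩
    · refine hΨiso.inj ((normalizerIn S R).mul_mem (hRN hr') (hRN hr))
        ((normalizerIn S R).mul_mem (hRN hr) (hRN hr')) ?_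
      rw [hΨiso.apply_mul (hRN hr') (hRN hr), hΨiso.apply_mul (hRN hr) (hRN hr')]
      show Ψ r' * Ψ r = Ψ r * Ψ r'
      rw [hre]
      exact Subgroup.mem_centralizer_iff.mp hsC.2 _ ((hΨR _).mpr ⟨r', hr', rfl⟩)
    · show j0 _ = (n : L)
      rw [← hs]
      exact congrArg ι (Subtype.ext ((hψval _).trans hre))
  · -- lift
    haveI := finite_autGroup (F := E) hRT
    let GA := E.autGroup R
    let J : Subgroup GA :=
      { carrier := {α | ∃ n ∈ NN, ∀ r : R, act n (Ψ r) = Ψ (((α : MulAut R) r : R) : Ω)}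
        one_mem' := ⟨1, NN.one_mem, fun r => hact1 _ (Subgroup.mem_sup_left ((hΨR _).mpr ⟨r, r.2, rfl⟩))⟩
        mul_mem' := by
          rintro α β ⟨n, hn, hne⟩ ⟨m, hm, hme⟩
          refine ⟨n * m, NN.mul_mem hn hm, fun r => ?_⟩
          rw [hactmul n m _ (Subgroup.mem_sup_left ((hΨR _).mpr ⟨r, r.2, rfl⟩)), hme r, hne]
          rfl
        inv_mem' := by
          rintro α ⟨n, hn, hne⟩
          refine ⟨n⁻¹, NN.inv_mem hn, fun r => ?_⟩
          have h1 := hne ((α : MulAut R)⁻¹ r)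
          rw [MulAut.apply_inv_self] at h1
          have hmW : ∀ z : R, Ψ (z : Ω) ∈ W := fun z => Subgroup.mem_sup_left ((hΨR _).mpr ⟨z, z.2, rfl⟩)
          rw [← h1, ← hactmul _ _ _ (hmW _), inv_mul_cancel, hact1 _ (hmW _)]
          rfl }
    obtain ⟨-, PE, hPE⟩ := hc.esat.isFullyAutomized_of_isFullyNormalized hc.tgroup hRn
    have hJtop : J = ⊤ := by
      refine SubCent.eq_top_of_sylow_of_pprime J PE (fun α hα => ?_) fun α hord => ?_
      · obtain ⟨t, ht, htn, hte⟩ := mem_autInducedBy_iff.mp (hPE.le hα : (α : MulAut R) ∈ autInducedBy T R)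
        have htN : t ∈ normalizerIn S R := ⟨hc.le_S ht, htn⟩
        refine ⟨j0 ⟨t, htN⟩, Subgroup.mem_sup_right ⟨ψ.codRestrict (normalizerIn S U) hψN ⟨t, htN⟩, ?_, rfl⟩,
          fun r => ?_⟩
        · show ψ ⟨t, htN⟩ ∈ T
          rw [hψval]; exact hT.iso_mem hΨiso htN ht
        · show act (ι _) (Ψ r) = _
          rw [hactι _ _ (Subgroup.mem_sup_left ((hΨR _).mpr ⟨r, r.2, rfl⟩))]
          show ψ ⟨t, htN⟩ * Ψ r * (ψ ⟨t, htN⟩)⁻¹ = _
          rw [hψval]
          exact ((hΨiso.apply_conj htN (hRN r.2)).symm).trans (congrArg Ψ (hte r)).symm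
      · obtain ⟨f, hf, hfe⟩ := isIso_of_aut hRT α.2
        obtain ⟨fU, hfU, hfUe⟩ := hc.inv.iso_transport hRU' hRT hf le_rfl le_rfl hΨR hΨR
        have hper : PerPrime p U fU := by
          refine PerPrime.transport (P := R) (χ := Ψ) ⟨orderOf (α : MulAut R), by rwa [Subgroup.orderOf_coe],
            fun x hx => ?_⟩ (fun x hx => hf.mem hx) hfUe fun y hy => (hΨR y).mp hy
          rw [← coe_pow_apply hfe (orderOf (α : MulAut R)) ⟨x, hx⟩, pow_orderOf_eq_one]; rfl
        obtain ⟨m, hm, hmper⟩ := hper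
        obtain ⟨k, hk, hke⟩ := Wedge.hasLifts hS hc.normal hUc hUfc fU hfU
        obtain ⟨k', hk', hk'k, n', hn', hn'per⟩ := hk.exists_pprime hm (fun x hx => by
          rw [(iterate_congr (fun z hz => hfU.mem hz) hke m hx).1, hmper x hx])
        haveI := finite_normalizerIn (S := S) (P := U)
        have hk'N2 : N2.IsIso W W k' :=
          mem_normalizerSystem hWN
            (mem_normalizerSystem hUn.1 hk'.iso hWN hWN le_sup_left hk'.pres)
            (le_normalizerIn hWN) (le_normalizerIn hWN) le_rfl fun x hx => hk'.iso.mem hx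
        obtain ⟨αk, hαk, hαke⟩ := hk'N2.toAut
        obtain ⟨l, hl⟩ := hG.surj ⟨αk, hαk⟩
        have hord' : ¬ p ∣ orderOf (pr l) := by
          refine fun hd => hn' (hd.trans (orderOf_dvd_of_pow_eq_one ?_))
          rw [hl]
          refine ModelSetup.aut_ext fun q => ?_
          rw [SubmonoidClass.coe_pow, coe_pow_apply hαke, hn'per q q.2]
          rfl
        obtain ⟨e, he, hel⟩ := Wedge.exists_pow_pprime (p := p) pr l hord'
        have hacte : ∀ x ∈ W, act (l ^ e) x = k' x := fun x hx => by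
          rw [hact _ ⟨x, hx⟩, hel, hl]
          exact hαke ⟨x, hx⟩
        have hlA : l ^ e ∈ A := ⟨⟨fU, hfU, fun x hx => by
          rw [hacte x (Subgroup.mem_sup_left hx), hk'k x hx, hke x hx]⟩, fun c hc' => by
          rw [hacte c (Subgroup.mem_sup_right hc')]; exact hk'.triv c hc'⟩
        refine ⟨l ^ e, Subgroup.mem_sup_left (Subgroup.subset_closure
          ⟨hlA, ((Nat.Prime.coprime_iff_not_dvd Fact.out).mpr he).symm⟩), fun r => ?_⟩
        have hrU : Ψ r ∈ U := (hΨR _).mpr ⟨r, r.2, rfl⟩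
        rw [hacte _ (Subgroup.mem_sup_left hrU), hk'k _ hrU, hke _ hrU, hfUe r r.2, hfe r]
    intro f hf
    obtain ⟨α, hα, hαe⟩ := hf.toAut
    obtain ⟨n, hn, hne⟩ := (hJtop.ge (Subgroup.mem_top (⟨α, hα⟩ : GA)) : (⟨α, hα⟩ : GA) ∈ J)
    refine ⟨⟨n, Subgroup.mem_sup_left hn⟩, hn, fun r hr => ?_⟩
    refine ⟨⟨f r, hRN (hf.mem hr)⟩, rfl, hrep ⟨n, Subgroup.mem_sup_left hn⟩ r hr _ ?_⟩
    show Ψ (f r) = act n (Ψ r)
    rw [hne ⟨r, hr⟩, hαe]
  · -- restr
    intro n hn
    obtain ⟨⟨a, ha, hae⟩, -⟩ := hNA hn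
    obtain ⟨a', ha', ha'e⟩ := hc.inv.iso_transport hΨi hUT ha le_rfl le_rfl
      (fun y => ⟨fun hy => hΨi.surj hy, fun ⟨x, hx, he⟩ => he ▸ hΨi.mem hx⟩)
      (fun y => ⟨fun hy => hΨi.surj hy, fun ⟨x, hx, he⟩ => he ▸ hΨi.mem hx⟩)
    refine ⟨a', ha', fun r hr => ⟨⟨a' r, hRN (ha'.mem hr)⟩, rfl, hrep n r hr _ ?_⟩⟩
    have hu : Ψ r ∈ U := (hΨR _).mpr ⟨r, hr, rfl⟩
    have h1 := ha'e _ hu
    rw [hΨil _ hr] at h1
    show Ψ (a' r) = act (n : L) (Ψ r)
    rw [h1, hΨir _ (ha.mem hu)]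
    exact (hae _ hu).symm
  · -- conj
    intro P l hP hPl
    obtain ⟨P2, hP2, hP2N, hP2m⟩ := hΨiso.restrict hP
    have hP2U : P2 ≤ normalizerIn S U := fun y hy => by
      obtain ⟨x, hx, rfl⟩ := (hP2m y).mp hy
      have := hψN ⟨x, hP hx⟩
      rwa [hψval] at this
    have him : ∀ y : P2, ∃ z : ↥(normalizerIn S R), ι ⟨(y : Ω), hP2U y.2⟩ ∈ j0.range ∧
        j0 z = (l : L) * ι ⟨(y : Ω), hP2U y.2⟩ * (l : L)⁻¹ := by
      intro y
      obtain ⟨x, hx, hxe⟩ := (hP2m y).mp y.2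
      obtain ⟨z, hz⟩ := hPl ⟨x, hP hx⟩ hx
      have e : (⟨(y : Ω), hP2U y.2⟩ : ↥(normalizerIn S U)) = ψ.codRestrict (normalizerIn S U) hψN ⟨x, hP hx⟩ :=
        Subtype.ext (hxe.symm.trans (hψval ⟨x, hP hx⟩).symm)
      rw [e]
      exact ⟨z, ⟨⟨x, hP hx⟩, rfl⟩, congrArg Subtype.val hz⟩
    choose z hz0 hz using him
    let φ2 : P2 →* Ω :=
      { toFun := fun y => ψ (z y)
        map_one' := by
          have h1 := hz 1
          rw [show (⟨((1 : P2) : Ω), hP2U (1 : P2).2⟩ : ↥(normalizerIn S U)) = 1 from rfl, map_one, mul_one,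
            mul_inv_cancel, ← map_one j0] at h1
          rw [hjMinj (Subtype.ext h1 : jM (z 1) = jM 1), map_one]
        map_mul' := fun y y' => by
          have h1 := hz (y * y')
          rw [show (⟨((y * y' : P2) : Ω), hP2U (y * y').2⟩ : ↥(normalizerIn S U)) =
            ⟨y, hP2U y.2⟩ * ⟨y', hP2U y'.2⟩ from rfl, map_mul] at h1
          have h2 : j0 (z (y * y')) = j0 (z y * z y') := by rw [h1, map_mul, hz y, hz y']; group
          rw [hjMinj (Subtype.ext h2 : jM (z (y * y')) = jM (z y * z y')), map_mul] }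
    have hφ2 : φ2 ∈ N2.Hom P2 :=
      (hreal P2 (fun y hy => normalizerIn_ext (hP2U hy)) φ2 fun y => normalizerIn_ext (hψN _)).mpr
        ⟨(l : L), fun y => hz y⟩
    have hf2 := ((isIso_funOf hφ2).mono (normalizerSystem_le hWN)).mono (normalizerSystem_le hUn.1)
    obtain ⟨Ψj, hΨj, hΨjl, -⟩ := hΨiso.symm
    have hrange : φ2.range ≤ ψ.range := by rintro _ ⟨y, rfl⟩; exact ⟨z y, rfl⟩
    obtain ⟨P', hP', -, -⟩ := hΨj.restrict hrange
    refine ⟨_, P', (hP2.comp hf2).comp hP', fun x hx => ?_⟩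
    have hxP2 : Ψ x ∈ P2 := (hP2m _).mpr ⟨x, hx, rfl⟩
    refine ⟨z ⟨Ψ x, hxP2⟩, ?_, Subtype.ext ?_⟩
    · show _ = Ψj (funOf φ2 (Ψ x))
      rw [← funOf_apply φ2 ⟨Ψ x, hxP2⟩]
      show _ = Ψj (ψ (z ⟨Ψ x, hxP2⟩))
      rw [hψval, hΨjl _ (z ⟨Ψ x, hxP2⟩).2]
    · show j0 _ = (l : L) * j0 x * (l : L)⁻¹
      rw [hz ⟨Ψ x, hxP2⟩]
      show _ = (l : L) * ι _ * (l : L)⁻¹
      rw [show (⟨Ψ (x : Ω), hP2U hxP2⟩ : ↥(normalizerIn S U)) = ψ.codRestrict (normalizerIn S U) hψN x from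
        Subtype.ext (hψval x).symm]

end

end Cfsg.FusionSystem.Product
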