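import Cfsg.Agent.Lib.Fusion.Product.Local

/-!
Elementary properties of local groups.
-/

set_option autoImplicit false
set_option linter.unusedSectionVars false
set_option linter.style.haveILetI false

namespace Cfsg.FusionSystem.Product

universe u

variable {Ω : Type u} [Group Ω] {S T : Subgroup Ω} {F : FusionSystem S} {E : FusionSystem T}
  {P Q R U V : Subgroup Ω} {f g : Ω → Ω} {p : ℕ}

namespace Loc

variable (A : Loc F p E R)

open Classical in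
/-- The embedding of `N_S(R)` as a function on the ambient group. -/
noncomputable def J (x : Ω) : A.L := if h : x ∈ normalizerIn S R then A.j ⟨x, h⟩ else 1

theorem J_eq {x : Ω} (hx : x ∈ normalizerIn S R) : A.J x = A.j ⟨x, hx⟩ := dif_pos hx

theorem J_coe (x : ↥(normalizerIn S R)) : A.J x = A.j x := A.J_eq x.2

theorem J_mul {x y : Ω} (hx : x ∈ normalizerIn S R) (hy : y ∈ normalizerIn S R) :
    A.J (x * y) = A.J x * A.J y := by
  rw [A.J_eq hx, A.J_eq hy, A.J_eq ((normalizerIn S R).mul_mem hx hy), ← map_mul]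
  rfl

theorem J_one : A.J 1 = 1 := by
  rw [A.J_eq (normalizerIn S R).one_mem]
  exact map_one A.j

theorem J_inv {x : Ω} (hx : x ∈ normalizerIn S R) : A.J x⁻¹ = (A.J x)⁻¹ := by
  refine eq_inv_of_mul_eq_one_left ?_
  rw [← A.J_mul ((normalizerIn S R).inv_mem hx) hx, inv_mul_cancel, A.J_one]

theorem J_conj {x y : Ω} (hx : x ∈ normalizerIn S R) (hy : y ∈ normalizerIn S R) :
    A.J (x * y * x⁻¹) = A.J x * A.J y * (A.J x)⁻¹ := by
  rw [A.J_mul ((normalizerIn S R).mul_mem hx hy) ((normalizerIn S R).inv_mem hx), A.J_mul hx hy, A.J_inv hx]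

theorem J_inj {x y : Ω} (hx : x ∈ normalizerIn S R) (hy : y ∈ normalizerIn S R) (h : A.J x = A.J y) : x = y := by
  rw [A.J_eq hx, A.J_eq hy] at h
  exact congrArg Subtype.val (A.inj h)

theorem J_mem_range {x : Ω} (hx : x ∈ normalizerIn S R) : A.J x ∈ A.j.range := ⟨_, (A.J_eq hx).symm⟩

theorem exists_of_range {l : A.L} (hl : l ∈ A.j.range) : ∃ x ∈ normalizerIn S R, A.J x = l := by
  obtain ⟨x, rfl⟩ := hl
  exact ⟨x, x.2, A.J_coe x⟩

theorem J_mem_N {x : Ω} (hx : x ∈ normalizerIn S R) : A.J x ∈ A.N ↔ x ∈ T := by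
  rw [A.J_eq hx]; exact A.mem_N _

/-- `m` acts as `f` on `P`. -/
def Rep (m : A.L) (P : Subgroup Ω) (f : Ω → Ω) : Prop :=
  ∀ x ∈ P, f x ∈ normalizerIn S R ∧ A.J (f x) = m * A.J x * m⁻¹

/-- The maps induced by the local group. -/
def Maps (P : Subgroup Ω) (f : Ω → Ω) : Prop := ∃ m : A.L, A.Rep m P f

theorem rep_of_repOn {l : A.L} (h : RepOn A.j l P f) (hP : P ≤ normalizerIn S R) : A.Rep l P f := by
  intro x hx
  obtain ⟨y, hy, hye⟩ := h ⟨x, hP hx⟩ hx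
  refine ⟨hy ▸ y.2, ?_⟩
  rw [← hy, A.J_coe, hye, A.J_eq (hP hx)]

theorem Rep.congr {m : A.L} (h : A.Rep m P f) (he : ∀ x ∈ P, g x = f x) : A.Rep m P g :=
  fun x hx => by rw [he x hx]; exact h x hx

theorem Rep.restrict {m : A.L} (h : A.Rep m P f) (hQ : Q ≤ P) : A.Rep m Q f := fun x hx => h x (hQ hx)

theorem Rep.comp {m m' : A.L} (hf : A.Rep m P f) (hg : A.Rep m' Q g) (hm : ∀ x ∈ P, f x ∈ Q) :
    A.Rep (m' * m) P (fun x => g (f x)) := by
  intro x hx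
  obtain ⟨h1, h2⟩ := hg _ (hm x hx)
  refine ⟨h1, ?_⟩
  show A.J (g (f x)) = _
  rw [h2, (hf x hx).2]
  group

theorem Rep.inv {m : A.L} (hP : P ≤ normalizerIn S R) (hf : A.Rep m P f) (hg : ∀ x ∈ P, g (f x) = x)
    (hs : ∀ y ∈ Q, ∃ x ∈ P, f x = y) : A.Rep m⁻¹ Q g := by
  intro y hy
  obtain ⟨x, hx, rfl⟩ := hs y hy
  refine ⟨by rw [hg x hx]; exact hP hx, ?_⟩
  rw [hg x hx, (hf x hx).2]
  group

theorem rep_conj {s : Ω} (hs : s ∈ normalizerIn S R) (hP : P ≤ normalizerIn S R) :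
    A.Rep (A.J s) P (fun x => s * x * s⁻¹) := fun _ hx =>
  ⟨(normalizerIn S R).mul_mem ((normalizerIn S R).mul_mem hs (hP hx)) ((normalizerIn S R).inv_mem hs),
    A.J_conj hs (hP hx)⟩

theorem Rep.eq {m : A.L} (hf : A.Rep m P f) (hg : A.Rep m P g) {x : Ω} (hx : x ∈ P) : f x = g x :=
  A.J_inj (hf x hx).1 (hg x hx).1 ((hf x hx).2.trans (hg x hx).2.symm)

theorem Rep.iterate {m : A.L} (hf : A.Rep m P f) (hm : ∀ x ∈ P, f x ∈ P) (hP : P ≤ normalizerIn S R) (k : ℕ) :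
    A.Rep (m ^ k) P f^[k] := by
  induction k with
  | zero => exact fun x hx => ⟨hP hx, by simp⟩
  | succ k ih =>
    rw [pow_succ']
    intro x hx
    have hk := (iterate_congr hm (fun _ _ => rfl) k hx).2
    rw [Function.iterate_succ_apply']
    refine ⟨(hf _ hk).1, ?_⟩
    rw [(hf _ hk).2, (ih x hx).2]
    group

theorem exists_decomp (m : A.L) : ∃ s ∈ normalizerIn S R, ∃ n ∈ A.N, m = A.J s * n := by
  haveI := A.normN
  have hm : m ∈ A.j.range ⊔ A.N := by rw [sup_comm, A.top]; exact Subgroup.mem_top _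
  obtain ⟨a, ⟨x, rfl⟩, n, hn, rfl⟩ := Subgroup.mem_sup_of_normal_right.mp hm
  exact ⟨x, x.2, n, hn, by rw [A.J_coe]⟩

/-- Conjugation by an element of `N` moves elements inside their cosets modulo `T`. -/
theorem triv_N {n : A.L} (hn : n ∈ A.N) {x y : Ω} (hx : x ∈ normalizerIn S R) (hy : y ∈ normalizerIn S R)
    (h : n * A.J x * n⁻¹ = A.J y) : x⁻¹ * y ∈ T := by
  haveI := A.normN
  rw [← A.J_mem_N ((normalizerIn S R).mul_mem ((normalizerIn S R).inv_mem hx) hy),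
    A.J_mul ((normalizerIn S R).inv_mem hx) hy, A.J_inv hx, ← h,
    show (A.J x)⁻¹ * (n * A.J x * n⁻¹) = ((A.J x)⁻¹ * n * A.J x) * n⁻¹ by group]
  exact A.N.mul_mem (by simpa using A.normN.conj_mem n hn (A.J x)⁻¹) (A.N.inv_mem hn)

theorem self_le (hR : R ≤ S) : R ≤ normalizerIn S R := le_normalizerIn hR

theorem centralizerIn_le_NR : centralizerIn S R ≤ normalizerIn S R :=
  fun _ hc => ⟨hc.1, Subgroup.centralizer_le_normalizer _ hc.2⟩

theorem rep_iso [Finite S] [Fact p.Prime] (hP : P ≤ normalizerIn S R) {m : A.L}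
    (hm : ∀ x ∈ P, m * A.J x * m⁻¹ ∈ A.j.range) : ∃ f P', F.IsIso P P' f ∧ A.Rep m P f := by
  obtain ⟨f, P', hf, hrep⟩ := A.conj P m hP fun x hx => by rw [← A.J_coe]; exact hm x hx
  exact ⟨f, P', hf, A.rep_of_repOn hrep hP⟩

theorem conj_R (hR : R ≤ S) (m : A.L) {r : Ω} (hr : r ∈ R) : ∃ r' ∈ R, A.J r' = m * A.J r * m⁻¹ := by
  obtain ⟨x, hx, hxe⟩ := A.normR.conj_mem _ ⟨⟨r, le_normalizerIn hR hr⟩, hr, rfl⟩ m
  refine ⟨x, hx, ?_⟩
  rw [A.J_coe, hxe, A.J_eq (le_normalizerIn hR hr)]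

variable [Finite S] [Fact p.Prime] (hc : Setup F p E) (hRn : E.IsFullyNormalized R)
include hc hRn

/-- Elements centralising `R` come from `C_S(R)`. -/
theorem cent_top {m : A.L} (hm : ∀ r ∈ R, m * A.J r * m⁻¹ = A.J r) :
    ∃ c ∈ centralizerIn S R, A.J c = m := by
  have hRS : R ≤ S := hRn.1.trans hc.le_S
  have hRN : R ≤ normalizerIn S R := le_normalizerIn hRS
  obtain ⟨s, hs, n, hn, rfl⟩ := A.exists_decomp m
  obtain ⟨a, ha, hae⟩ := A.restr n hn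
  have hae' := A.rep_of_repOn hae hRN
  obtain ⟨ai, hai, -, har⟩ := ha.symm
  have hsai : ∀ r ∈ R, ai r = s * r * s⁻¹ := by
    intro r hr
    have h1 := hm _ (hai.mem hr)
    have h2 := (hae' _ (hai.mem hr)).2
    rw [har r hr] at h2
    have h3 : A.J s * A.J r * (A.J s)⁻¹ = A.J (ai r) := by
      rw [h2]
      refine Eq.trans ?_ h1
      group
    rw [← A.J_conj hs (hRN hr)] at h3
    exact (A.J_inj ((normalizerIn S R).mul_mem ((normalizerIn S R).mul_mem hs (hRN hr))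
      ((normalizerIn S R).inv_mem hs)) (hRN (hai.mem hr)) h3).symm
  obtain ⟨t, ht, c, hc', rfl⟩ := exists_split hc hRn hs hai hsai
  have htN : t ∈ normalizerIn S R := ⟨hc.le_S ht.1, ht.2⟩
  have hcN := centralizerIn_le_NR hc'
  haveI := A.normN
  have hn' : A.J t * (A.J c * n * (A.J c)⁻¹) ∈ A.N :=
    A.N.mul_mem ((A.J_mem_N htN).mpr ht.1) (A.normN.conj_mem n hn _)
  have he : A.J (t * c) * n = A.J t * (A.J c * n * (A.J c)⁻¹) * A.J c := by
    rw [A.J_mul htN hcN]; group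
  have hcen : ∀ r : ↥(normalizerIn S R), (r : Ω) ∈ R →
      A.J t * (A.J c * n * (A.J c)⁻¹) * A.j r * (A.J t * (A.J c * n * (A.J c)⁻¹))⁻¹ = A.j r := by
    intro r hr
    have h1 := hm r hr
    have h3 : A.J c * A.J r * (A.J c)⁻¹ = A.J r := by
      rw [← A.J_conj hcN r.2, ← Subgroup.mem_centralizer_iff.mp hc'.2 r hr, mul_inv_cancel_right]
    rw [he, A.J_coe] at h1
    rw [A.J_coe] at h3
    calc A.J t * (A.J c * n * (A.J c)⁻¹) * A.j r * (A.J t * (A.J c * n * (A.J c)⁻¹))⁻¹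
        = A.J t * (A.J c * n * (A.J c)⁻¹) * (A.J c * A.j r * (A.J c)⁻¹) * (A.J t * (A.J c * n * (A.J c)⁻¹))⁻¹ := by
          rw [h3]
      _ = _ := by
          refine Eq.trans ?_ h1
          group
  obtain ⟨z, hz, hze⟩ := A.cent _ hn' hcen
  refine ⟨z * c, (centralizerIn S R).mul_mem ⟨hc.le_S hz.1, hz.2⟩ hc', ?_⟩
  rw [A.J_mul z.2 hcN, A.J_coe, hze, he]

theorem conj_cent {m : A.L} {c : Ω} (hc' : c ∈ centralizerIn S R) :
    ∃ c' ∈ centralizerIn S R, A.J c' = m * A.J c * m⁻¹ := by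
  have hRN : R ≤ normalizerIn S R := le_normalizerIn (hRn.1.trans hc.le_S)
  refine A.cent_top hc hRn fun r hr => ?_
  obtain ⟨r', hr', he⟩ := A.conj_R (hRn.1.trans hc.le_S) m⁻¹ hr
  have h3 : A.J c * A.J r' * (A.J c)⁻¹ = A.J r' := by
    rw [← A.J_conj (centralizerIn_le_NR hc') (hRN hr'), ← Subgroup.mem_centralizer_iff.mp hc'.2 r' hr',
      mul_inv_cancel_right]
  calc m * A.J c * m⁻¹ * A.J r * (m * A.J c * m⁻¹)⁻¹
      = m * (A.J c * (m⁻¹ * A.J r * m⁻¹⁻¹) * (A.J c)⁻¹) * m⁻¹ := by group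
    _ = m * (A.J c * A.J r' * (A.J c)⁻¹) * m⁻¹ := by rw [he]
    _ = A.J r := by rw [h3, he]; group

/-- An element with the same action on `R` differs by an element of `C_S(R)`. -/
theorem land {m : A.L} {x y : Ω} (hy : y ∈ normalizerIn S R)
    (h : ∀ r ∈ R, m * A.J x * m⁻¹ * A.J r * (m * A.J x * m⁻¹)⁻¹ = A.J (y * r * y⁻¹)) :
    ∃ c ∈ centralizerIn S R, m * A.J x * m⁻¹ = A.J (y * c) := by
  have hRN : R ≤ normalizerIn S R := le_normalizerIn (hRn.1.trans hc.le_S)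
  obtain ⟨c, hc', hce⟩ := A.cent_top hc hRn (m := (A.J y)⁻¹ * (m * A.J x * m⁻¹)) fun r hr => by
    have h1 := h r hr
    rw [A.J_conj hy (hRN hr)] at h1
    calc (A.J y)⁻¹ * (m * A.J x * m⁻¹) * A.J r * ((A.J y)⁻¹ * (m * A.J x * m⁻¹))⁻¹
        = (A.J y)⁻¹ * (m * A.J x * m⁻¹ * A.J r * (m * A.J x * m⁻¹)⁻¹) * A.J y := by group
      _ = _ := by rw [h1]; group
  refine ⟨c, hc', ?_⟩
  rw [A.J_mul hy (centralizerIn_le_NR hc'), hce, mul_inv_cancel_left]

/-- The image of an element whose image on `R` is prescribed. -/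
theorem land_map {m : A.L} (hm : A.Rep m R f) {D D' : Subgroup Ω} {φ : Ω → Ω} (hφ : F.IsIso D D' φ)
    (hRD : R ≤ D) (hD : D ≤ normalizerIn S R) (hD' : D' ≤ normalizerIn S R) (he : ∀ r ∈ R, φ r = f r)
    {x : Ω} (hx : x ∈ D) : ∃ c ∈ centralizerIn S R, m * A.J x * m⁻¹ = A.J (φ x * c) := by
  have hRN : R ≤ normalizerIn S R := le_normalizerIn (hRn.1.trans hc.le_S)
  refine A.land hc hRn (hD' (hφ.mem hx)) fun r hr => ?_
  obtain ⟨r₀, hr₀, hr₀e⟩ := A.conj_R (hRn.1.trans hc.le_S) m⁻¹ hr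
  have hmr₀ : m * A.J r₀ * m⁻¹ = A.J r := by rw [hr₀e]; group
  have hxr : x * r₀ * x⁻¹ ∈ R := (Subgroup.mem_normalizer_iff.mp (hD hx).2 r₀).mp hr₀
  have h4 : f r₀ = r := A.J_inj (hm r₀ hr₀).1 (hRN hr) ((hm r₀ hr₀).2.trans hmr₀)
  have h5 := (hm _ hxr).2
  rw [← he _ hxr, hφ.apply_conj hx (hRD hr₀), he r₀ hr₀, h4, A.J_conj (hD hx) (hRN hr₀)] at h5
  rw [h5, ← hmr₀]
  group

end Loc

end Cfsg.FusionSystem.Product
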