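import Cfsg.Agent.Lib.Fusion.Product.Unique

/-!
The product of a normal subsystem with an intermediate subgroup.
-/

set_option autoImplicit false
set_option linter.unusedSectionVars false
set_option linter.unusedVariables false
set_option linter.style.haveILetI false

namespace Cfsg.FusionSystem.Product

universe u

variable {Ω : Type u} [Group Ω] {S T H : Subgroup Ω} {F : FusionSystem S} {E : FusionSystem T} {p : ℕ}

theorem over_of_residual [Finite S] [Fact p.Prime] {E₁ : FusionSystem H} (hc₁ : Setup F p E₁) {R : Subgroup Ω}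
    (hR : R ≤ S) {D : FusionSystem R} (hDs : D.IsSaturated p) (hDF : D.IsSubsystemOf F)
    (hH : D.hyperfocalSubgroup p = H)
    (hres : ∀ D₁ : FusionSystem (D.hyperfocalSubgroup p), D.IsPResidual p D₁ → ∀ P, D₁.Hom P = E₁.Hom P) :
    Over F p E₁ D := by
  haveI := finite_of_le hR
  obtain ⟨D₁, hD₁, -⟩ := hDs.existsUnique_pPowerIndex (hc₁.pgroup.to_le hR) hyperfocalSubgroup_le le_rfl
  have he := hres D₁ hD₁
  refine ⟨hDs, hDF, fun P φ hφ => hD₁.2.1 P (by rw [he]; exact hφ), hH.le, fun P f hP hf hper => ?_⟩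
  obtain ⟨φ, hφ, hr, hφe⟩ := index_iso_of_per hD₁.2 (hH.symm ▸ hP) hf hper
  exact ⟨φ, he P ▸ hφ, hr, hφe⟩

theorem eq_residual [Finite S] [Fact p.Prime] (hc : Setup F p E) {E₁ E₂ : FusionSystem (E.hyperfocalSubgroup p)}
    (h₁ : E.IsPResidual p E₁) (h₂ : E.IsPResidual p E₂) : E₂ = E₁ := by
  obtain ⟨E', -, -, -, huniq⟩ := exists_residual hc
  rw [huniq E₁ h₁, huniq E₂ h₂]

set_option maxHeartbeats 1000000 in
theorem existsUnique_product [Finite S] [Fact p.Prime] (hc : Setup F p E) {R : Subgroup Ω} (hTR : T ≤ R)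
    (hRS : R ≤ S) :
    ∃ D : FusionSystem R, (D.IsSaturated p ∧ D.IsSubsystemOf F ∧
      D.hyperfocalSubgroup p = E.hyperfocalSubgroup p ∧
      ∀ (D₁ : FusionSystem (D.hyperfocalSubgroup p)) (E₁ : FusionSystem (E.hyperfocalSubgroup p)),
        D.IsPResidual p D₁ → E.IsPResidual p E₁ → ∀ P : Subgroup Ω, D₁.Hom P = E₁.Hom P) ∧
      ∀ D' : FusionSystem R, D'.IsSaturated p → D'.IsSubsystemOf F →
        D'.hyperfocalSubgroup p = E.hyperfocalSubgroup p →
        (∀ (D₁ : FusionSystem (D'.hyperfocalSubgroup p)) (E₁ : FusionSystem (E.hyperfocalSubgroup p)),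
          D'.IsPResidual p D₁ → E.IsPResidual p E₁ → ∀ P : Subgroup Ω, D₁.Hom P = E₁.Hom P) →
        ∀ P : Subgroup Ω, D'.Hom P = D.Hom P := by
  classical
  haveI := hc.finT
  haveI := finite_of_le hRS
  have hS := hc.pgroup
  have hRp := hS.to_le hRS
  obtain ⟨E₁, hE₁, hc₁, hH₁, huniq⟩ := exists_residual hc
  let H := E.hyperfocalSubgroup p
  have hHT : H ≤ T := hyperfocalSubgroup_le
  have hHR : H ≤ R := hHT.trans hTR
  haveI := hc₁.finT
  set G := prodSys hc₁ with hGdef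
  have hG : G.IsSaturated p := prodSys_saturated hc₁
  have hE₁G : E₁.IsSubsystemOf G := sub_prodSys hc₁
  -- periodic automorphisms of `G`
  have hGtriv : G.hyperfocalSubgroup p ≤ H := hyperfocalSubgroup_le_iff.mpr fun P hP α hα hp x => by
    obtain ⟨f, hf, hfe⟩ := isIso_of_aut hP hα
    rw [hfe]
    exact amb_triv hc₁ (hf.mono (prodSys_le_amb hc₁)) ⟨orderOf α, (Nat.Prime.coprime_iff_not_dvd Fact.out).mp hp.symm,
      fun y hy => by rw [← coe_pow_apply hfe _ ⟨y, hy⟩, pow_orderOf_eq_one]; rfl⟩ x.2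
  have hE₁idx : E₁.HasPPowerIndexIn G p := by
    refine ⟨hE₁G, hGtriv, fun P hP => ?_⟩
    rw [pResidual, Subgroup.map_le_iff_le_comap, Subgroup.closure_le]
    intro γ hγ
    obtain ⟨f, hf, hfe⟩ := isIso_of_aut (hP.trans hc₁.le_S) γ.2
    have h1 := amb_restr hc₁ (hf.mono (prodSys_le_amb hc₁)) ⟨orderOf γ,
      (Nat.Prime.coprime_iff_not_dvd Fact.out).mp (Nat.Coprime.symm hγ),
      fun y hy => by rw [← coe_pow_apply hfe _ ⟨y, hy⟩, ← SubgroupClass.coe_pow, pow_orderOf_eq_one]; rfl⟩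
    rw [inf_eq_left.mpr hP] at h1
    obtain ⟨φ, hφ, -, hφe⟩ := h1
    exact E₁.mem_autGroup_of_map hφ fun x => by rw [Subgroup.subtype_apply, hfe, hφe]
  obtain ⟨D, hD, -⟩ := hG.existsUnique_pPowerIndex hS hRS (hGtriv.trans hHR)
  have hDF : D.IsSubsystemOf F := fun P φ hφ => (prodSys_le_F hc₁) P (hD.2.1 P hφ)
  have hE₁D : E₁.IsSubsystemOf D := hE₁.1.le_pPowerIndex (inferInstance : Finite H) hS hE₁G hc₁.le_S hHR D hD.2
  have hDH : D.hyperfocalSubgroup p = H :=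
    le_antisymm ((Layer.hyperfocal_le hD.2.1).trans hGtriv) (hH₁.ge.trans (Layer.hyperfocal_le hE₁D))
  have hDres : ∀ D₁ : FusionSystem (D.hyperfocalSubgroup p), D.IsPResidual p D₁ → ∀ P, D₁.Hom P = E₁.Hom P := by
    intro D₁ hD₁ P
    haveI : Finite ↥(D.hyperfocalSubgroup p) := finite_of_le (hyperfocalSubgroup_le.trans hRS)
    exact Set.Subset.antisymm
      (hD₁.1.le_pPowerIndex (inferInstance : Finite ↥(D.hyperfocalSubgroup p)) hS
        (fun Q φ hφ => hD.2.1 Q (hD₁.2.1 Q hφ)) (hyperfocalSubgroup_le.trans hRS) hDH.le E₁ hE₁idx P)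
      (hE₁.1.le_pPowerIndex (inferInstance : Finite H) hRp hE₁D hHR hDH.ge D₁ hD₁.2 P)
  refine ⟨D, ⟨hD.1, hDF, hDH, fun D₁ E₂ hD₁ hE₂ P => by rw [huniq E₂ hE₂]; exact hDres D₁ hD₁ P⟩,
    fun D' hD's hD'F hD'H hD'res P => ?_⟩
  have hover := over_of_residual hc₁ hRS hD.1 hDF hDH hDres
  have hover' := over_of_residual hc₁ hRS hD's hD'F hD'H fun D₁ hD₁ => hD'res D₁ E₁ hD₁ hE₁
  exact Set.Subset.antisymm (hover'.le hc₁ hRS hHR hover P) (hover.le hc₁ hRS hHR hover' P)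

end Cfsg.FusionSystem.Product
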