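import Cfsg.Agent.Lib.Fusion.Product.Generation

/-!
The family of subgroups controlling the generated system.
-/

set_option autoImplicit false
set_option linter.unusedSectionVars false
set_option linter.unusedVariables false
set_option linter.style.haveILetI false

namespace Cfsg.FusionSystem.Product

open Cfsg.FusionSystem.SubCent (isIso_self iterate_isIso)

universe u

variable {Ω : Type u} [Group Ω] {S T : Subgroup Ω} {F : FusionSystem S} {E : FusionSystem T}
  {P P' Q R U V D : Subgroup Ω} {f g φ : Ω → Ω} {p : ℕ}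

/-- The subgroups whose conjugates contain the centralisers of their parts in `T`, these parts being centric. -/
def InFam (hc : Setup F p E) (P : Subgroup Ω) : Prop :=
  P ≤ S ∧ E.IsCentric (P ⊓ T) ∧
    ∀ P' : Subgroup Ω, (prodSys hc).IsConj P P' → centralizerIn S (P' ⊓ T) ≤ P'

variable [Finite S] [Fact p.Prime]

theorem InFam.of_conj {hc : Setup F p E} (h : InFam hc P) (hPQ : (prodSys hc).IsConj P Q) : InFam hc Q := by
  refine ⟨hPQ.le_right, ?_, fun Q' hQ' => h.2.2 Q' (hPQ.trans hQ')⟩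
  obtain ⟨φ, hφ, hr⟩ := hPQ
  exact hc.inv.isCentric_of_isIso h.2.1
    (inter_iso hc.closed ((hr ▸ isIso_funOf hφ : (prodSys hc).IsIso P Q (funOf φ)).mono (prodSys_le_F hc)))

theorem cent_le_of_iso (hf : F.IsIso P Q f) (hRP : R ≤ P) (hfR : ∀ r ∈ R, f r ∈ R)
    (hC : centralizerIn S R ≤ P) : centralizerIn S R ≤ Q := by
  haveI := finite_centralizerIn (S := S) (P := R)
  have hRm := SubCent.image_self hf hRP hfR
  let ι : centralizerIn S R → centralizerIn S R := fun x => ⟨f x, SubCent.map_centralizer hf hRP hRm x.2 (hC x.2)⟩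
  have hb : Function.Bijective ι := Finite.injective_iff_bijective.mp fun a b he =>
    Subtype.ext (hf.inj (hC a.2) (hC b.2) (congrArg Subtype.val he :))
  intro c hc'
  obtain ⟨x, hx⟩ := hb.2 ⟨c, hc'⟩
  have : f x = c := congrArg Subtype.val hx
  exact this ▸ hf.mem (hC x.2)

/-- A subgroup with part `R` in `T` containing `C_S(R)` is in the family. -/
theorem fam_of_std (hc : Setup F p E) (hR : Good F p E R) (hPS : P ≤ S) (hPT : P ⊓ T = R)
    (hC : centralizerIn S R ≤ P) : InFam hc P := by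
  refine ⟨hPS, hPT.symm ▸ hR.centric, fun P' hP' => ?_⟩
  obtain ⟨φ, hφ, hr⟩ := hP'
  have hiso : (prodSys hc).IsIso P P' (funOf φ) := hr ▸ isIso_funOf hφ
  have hU := inter_amb hc (hiso.mono (prodSys_le_amb hc))
  rw [hPT] at hU
  obtain ⟨γ, hγ⟩ := exists_coord (big_prodSys hc)
    (hc.inv.isCentric_of_isIso hR.centric (hU.mono (amb_le hc))) hR hU.isConj.symm
  obtain ⟨D, hD, hDR, hRm⟩ := hγ
  have hP'N := le_normalizer_inter hc hiso.le_right
  obtain ⟨D1, hD1, -, -⟩ := hD.restrict hP'N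
  have hRP : R ≤ P := hPT ▸ inf_le_left
  have hCD1 : centralizerIn S R ≤ D1 :=
    cent_le_of_iso ((hiso.comp hD1).mono (prodSys_le_F hc)) hRP (fun r hr => (hRm _).mpr ⟨_, hU.mem hr, rfl⟩) hC
  intro x hx
  have hxN : x ∈ normalizerIn S (P' ⊓ T) := ⟨hx.1, Subgroup.centralizer_le_normalizer _ hx.2⟩
  obtain ⟨y, hy, hye⟩ := hD1.surj (hCD1 (SubCent.map_centralizer (hD.mono (prodSys_le_F hc))
    (le_normalizerIn (inf_le_left.trans hiso.le_right)) hRm hx hxN))
  exact hD.inj (hP'N hy) hxN hye ▸ hy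

/-- Overgroups of a good subgroup and its centraliser normalising it are in the family. -/
theorem fam_of_good (hc : Setup F p E) (hR : Good F p E R) (hRP : R ≤ P) (hC : centralizerIn S R ≤ P)
    (hPN : P ≤ normalizerIn S R) : InFam hc P := by
  have hX := big_prodSys hc
  haveI := hc.finT
  have hPS : P ≤ S := hPN.trans normalizerIn_le
  have hRU : R ≤ P ⊓ T := le_inf hRP hR.centric.1
  have hUc : E.IsCentric (P ⊓ T) := isCentric_of_le hR.centric hRU inf_le_right
  obtain ⟨R2, γ, hR2, D, hD, hDR, hRm⟩ := (exists_step hX (P ⊓ T) inf_le_right).1 hUc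
  have hPNU := le_normalizer_inter hc hPS
  obtain ⟨P2, hP2, -, -⟩ := hD.restrict hPNU
  have hP2F := hP2.mono (prodSys_le_F hc)
  have hk : KerCond E S (P ⊓ T) := kerCond_of_good hc hR hRU inf_le_right (fun x hx => (hPN hx.1).2)
    (hC.trans (hPNU.trans inf_le_right))
  refine InFam.of_conj (fam_of_std hc hR2 hP2.le_right ?_ ?_) hP2.isConj.symm
  · ext y
    rw [inter_image hc.closed hP2F, hRm]
  · intro c hc'
    obtain ⟨x, hx, rfl⟩ := cent_onto hc (hD.mono hX.le) (le_normalizerIn (inf_le_left.trans hPS)) hUc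
      Loc.centralizerIn_le_NR hRm hk c hc'
    exact hP2.mem (hC ⟨hx.1, Subgroup.centralizer_le (SetLike.coe_subset_coe.mpr hRU) hx.2⟩)

/-- Members of the family have conjugates with a good part in `T`. -/
theorem InFam.exists_std {hc : Setup F p E} (h : InFam hc P) :
    ∃ (R Q : Subgroup Ω) (γ : Ω → Ω), Good F p E R ∧ (prodSys hc).IsIso P Q γ ∧ Q ⊓ T = R ∧
      centralizerIn S R ≤ Q := by
  obtain ⟨R, γ, hR, D, hD, hDR, hRm⟩ := (exists_step (big_prodSys hc) (P ⊓ T) inf_le_right).1 h.2.1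
  obtain ⟨Q, hQ, -, -⟩ := hD.restrict (le_normalizer_inter hc h.1)
  have hQT : Q ⊓ T = R := Subgroup.ext fun y => by
    rw [inter_image hc.closed (hQ.mono (prodSys_le_F hc)), hRm]
  exact ⟨R, Q, γ, hR, hQ, hQT, hQT ▸ h.2.2 Q hQ.isConj⟩

end Cfsg.FusionSystem.Product
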