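import Cfsg.Agent.Lib.Fusion.Product.SaturatedMain
import Cfsg.Agent.Lib.Fusion.ResidualReduction.Compose
import Cfsg.Agent.Lib.Fusion.SubCent.Extension
import Cfsg.Agent.Lib.Fusion.CoreCent.Stab
import Cfsg.Agent.Lib.Fusion.ResidualLimit
import Cfsg.Agent.Lib.Fusion.Transfer.Tate
import Cfsg.Agent.Lib.Fusion.IndexPower.Main
import Cfsg.Agent.Lib.Fusion.PPowerNormal
import Cfsg.Agent.Lib.Fusion.GroupResidual
import Cfsg.Agent.Lib.Fusion.Layer.Closure

/-!
The residual subsystem of a normal subsystem is normal.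
-/

set_option autoImplicit false
set_option linter.unusedSectionVars false
set_option linter.unusedVariables false
set_option linter.style.haveILetI false

namespace Cfsg.FusionSystem.Product

open Cfsg.FusionSystem.SubCent (Lift isIso_self iterate_isIso map_centralizer image_self liftable extend_ext)

universe u

variable {Ω : Type u} [Group Ω] {S T : Subgroup Ω} {F : FusionSystem S} {E : FusionSystem T}
  {P Q R U V W : Subgroup Ω} {f g : Ω → Ω} {p : ℕ}

/-- An automorphism with such a period has order prime to `p`. -/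
theorem orderOf_coprime_of_per [Fact p.Prime] {α : MulAut P} (he : ∀ x : P, ((α x : P) : Ω) = f x)
    (hper : PerPrime p P f) : (orderOf α).Coprime p := by
  obtain ⟨n, hn, hp⟩ := hper
  refine Nat.Coprime.coprime_dvd_left (orderOf_dvd_of_pow_eq_one (MulEquiv.ext fun x => Subtype.ext ?_))
    ((Nat.Prime.coprime_iff_not_dvd Fact.out).mpr hn).symm
  rw [coe_pow_apply he]
  exact hp x x.2

theorem hyp_mem_of_per [Fact p.Prime] {C : FusionSystem W} (hf : C.IsIso P P f) (hper : PerPrime p P f) {x : Ω}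
    (hx : x ∈ P) : x⁻¹ * f x ∈ C.hyperfocalSubgroup p := by
  obtain ⟨α, hα, he⟩ := hf.toAut
  have h1 := hyperfocal_gen_mem hf.le_left hα (orderOf_coprime_of_per he hper) ⟨x, hx⟩
  rwa [he] at h1

/-- A periodic automorphism lies in every subsystem of `p`-power index. -/
theorem index_iso_of_per [Fact p.Prime] {G : FusionSystem S} {C : FusionSystem W} (hidx : C.HasPPowerIndexIn G p)
    (hP : P ≤ W) (hf : G.IsIso P P f) (hper : PerPrime p P f) : C.IsIso P P f := by
  obtain ⟨α, hα, he⟩ := hf.toAut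
  have h1 : α ∈ C.autGroup P := hidx.2.2 P hP ⟨⟨α, hα⟩, CfsgLib.Transfer.mem_pResidual_of_coprime
    (by rw [Subgroup.orderOf_mk]; exact orderOf_coprime_of_per he hper), rfl⟩
  obtain ⟨g, hg, hge⟩ := isIso_of_aut hP h1
  exact hg.congr fun x hx => (he ⟨x, hx⟩).symm.trans (hge ⟨x, hx⟩)

theorem restrict_le [Finite S] {C : FusionSystem W} {G : FusionSystem S} {hWS : W ≤ S}
    (h : C ≤ restrictTo G hWS) : C.IsSubsystemOf G := fun P φ hφ => (h P hφ).2.2

/-- A saturated system lies in a system containing its periodic automorphisms of centric subgroups. -/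
theorem le_of_pprime [Fact p.Prime] [Finite W] {C K : FusionSystem W} (hW : IsPGroup p W) (hC : C.IsSaturated p)
    (h : ∀ P h, (P = W ∨ C.IsEssential p P) → C.IsIso P P h → PerPrime p P h → K.IsIso P P h) : C ≤ K := by
  refine hC.le_of_autGroup_le hW K fun P hP => ?_
  have hn : C.IsFullyNormalized P := by
    rcases hP with rfl | hP
    · exact isFullyNormalized_self
    · exact hP.2.1
  obtain ⟨hPW, T0, hT0⟩ := hC.isFullyAutomized_of_isFullyNormalized hW hn
  haveI := finite_autGroup (F := C) hPW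
  intro α hα
  have h1 : (⟨α, hα⟩ : C.autGroup P) ∈ (T0 : Subgroup (C.autGroup P)) ⊔ pResidual p (C.autGroup P) := by
    rw [CfsgLib.Transfer.sylow_sup_pResidual T0]
    exact Subgroup.mem_top _
  have h2 : (T0 : Subgroup (C.autGroup P)) ⊔ pResidual p (C.autGroup P) ≤
      (K.autGroup P).comap (C.autGroup P).subtype := by
    refine sup_le (by rw [hT0]; exact fun x hx => autInducedBy_le_autGroup hPW hx) ?_
    refine (Subgroup.closure_le _).mpr fun γ hγ => ?_
    obtain ⟨f, hf, hfe⟩ := isIso_of_aut hPW γ.2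
    obtain ⟨φ, hφ, -, hφe⟩ := h P f hP hf ⟨orderOf γ,
      (Nat.Prime.coprime_iff_not_dvd Fact.out).mp (Nat.Coprime.symm hγ), fun x hx => by
        rw [← coe_pow_apply hfe _ ⟨x, hx⟩, ← SubgroupClass.coe_pow, pow_orderOf_eq_one]; rfl⟩
    exact K.mem_autGroup_of_map hφ fun x => by rw [Subgroup.subtype_apply, hfe, hφe]
  exact h2 h1

theorem centric_of_top_or_essential [Finite W] {C : FusionSystem W} (h : P = W ∨ C.IsEssential p P) :
    C.IsCentric P := by
  rcases h with rfl | h
  · exact isCentric_self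
  · exact h.1

variable [Finite S] [Fact p.Prime]

/-- The normal subsystem lies in the generated system. -/
theorem sub_prodSys (hc : Setup F p E) : E.IsSubsystemOf (prodSys hc) := by
  haveI := hc.finT
  refine restrict_le (hWS := hc.le_S) (le_of_pprime hc.tgroup hc.esat fun P h hP hh hper => ?_)
  have hPT : P ≤ T := hh.le_left
  have hP' : P ⊓ T = P := inf_eq_left.mpr hPT
  have hgen : IsGen F p E P h := ⟨hh.mono hc.sub, hper, fun x hx => T.mul_mem (T.inv_mem (hPT hx)) (hPT (hh.mem hx)),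
    by rw [hP']; exact centric_of_top_or_essential hP, by rw [hP']; exact hh⟩
  obtain ⟨φ, hφ, hr, he⟩ := hasGens_prodSys hc P h hgen
  exact ⟨φ, ⟨hPT, fun x => hr.le.trans hPT ⟨x, rfl⟩, hφ⟩, hr, he⟩

/-- Automorphisms of `F` on `T` preserve the hyperfocal subgroup of `E`. -/
theorem hyp_stable (hc : Setup F p E) {a : Ω → Ω} (ha : F.IsIso T T a) :
    ∀ x ∈ E.hyperfocalSubgroup p, a x ∈ E.hyperfocalSubgroup p := by
  let K : Subgroup Ω :=
    { carrier := {x | x ∈ T ∧ a x ∈ E.hyperfocalSubgroup p}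
      one_mem' := ⟨T.one_mem, by rw [ha.apply_one]; exact one_mem _⟩
      mul_mem' := fun {x y} hx hy => ⟨T.mul_mem hx.1 hy.1, by
        rw [ha.apply_mul hx.1 hy.1]; exact mul_mem hx.2 hy.2⟩
      inv_mem' := fun {x} hx => ⟨T.inv_mem hx.1, by
        rw [ha.apply_inv hx.1]; exact InvMemClass.inv_mem hx.2⟩ }
  suffices h : E.hyperfocalSubgroup p ≤ K from fun x hx => (h hx).2
  refine hyperfocalSubgroup_le_iff.mpr fun P hP α hα hp x => ?_
  obtain ⟨f, hf, hfe⟩ := isIso_of_aut hP hα
  obtain ⟨P', -, -, hP'm⟩ := ha.restrict hP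
  obtain ⟨f', hf', hfe'⟩ := hc.inv.iso_transport ha le_rfl hf hP hP hP'm hP'm
  have hper : PerPrime p P' f' := by
    refine PerPrime.transport (f := f) (χ := a) ⟨orderOf α, (Nat.Prime.coprime_iff_not_dvd Fact.out).mp hp.symm,
      fun y hy => by rw [← coe_pow_apply hfe _ ⟨y, hy⟩, pow_orderOf_eq_one]; rfl⟩ (fun y hy => hf.mem hy) hfe'
      fun y hy => (hP'm y).mp hy
  rw [hfe]
  refine ⟨T.mul_mem (T.inv_mem (hP x.2)) (hP (hf.mem x.2)), ?_⟩
  rw [ha.apply_mul (T.inv_mem (hP x.2)) (hP (hf.mem x.2)), ha.apply_inv (hP x.2), ← hfe' x x.2]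
  exact hyp_mem_of_per hf' hper ((hP'm _).mpr ⟨x, x.2, rfl⟩)

set_option maxHeartbeats 1000000 in
/-- The residual of a normal subsystem is normal. -/
theorem exists_residual (hc : Setup F p E) :
    ∃ E₁ : FusionSystem (E.hyperfocalSubgroup p), E.IsPResidual p E₁ ∧ Setup F p E₁ ∧
      E₁.hyperfocalSubgroup p = E.hyperfocalSubgroup p ∧
      ∀ E₂ : FusionSystem (E.hyperfocalSubgroup p), E.IsPResidual p E₂ → E₂ = E₁ := by
  classical
  haveI := hc.finT
  have hS := hc.pgroup
  have hTp := hc.tgroup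
  set H := E.hyperfocalSubgroup p
  have hHT : H ≤ T := hyperfocalSubgroup_le
  obtain ⟨E₁, hE₁, huniq⟩ := hc.esat.existsUnique_pPowerIndex hTp hHT le_rfl
  have hE₁n : E₁.IsNormalIn E p := hc.esat.isNormalIn_of_pPowerIndex hTp hE₁.1 hHT normal_hyperfocal hE₁.2
  have hinv : E₁.IsInvariantIn F := hc.inv.trans hc.sat hS hE₁n.1.2.2 (fun a ha => hyp_stable hc ha)
    fun a P Q f ha hf P' Q' hP' hQ' =>
      hc.inv.pPowerIndex_transport hS hE₁.1 hE₁.2 hHT ha (hyp_stable hc ha) hf hP' hQ'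
  have hHS : H ≤ S := hHT.trans hc.le_S
  have hHn : ∀ s ∈ S, s ∈ Subgroup.normalizer (H : Set Ω) := fun s hs => hinv.2.1.le_normalizer hs
  haveI := finite_of_le hHS
  have hHp : IsPGroup p H := hS.to_le hHS
  -- lifts of the automorphisms
  have hlift : E₁.autGroup H ≤ liftable F H hHS := by
    obtain ⟨-, PH, hPH⟩ := hE₁.1.isFullyAutomized_of_isFullyNormalized hHp isFullyNormalized_self
    haveI := finite_autGroup (F := E₁) (P := H) le_rfl
    intro α hα
    have h1 : (⟨α, hα⟩ : E₁.autGroup H) ∈ (PH : Subgroup (E₁.autGroup H)) ⊔ pResidual p (E₁.autGroup H) := by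
      rw [CfsgLib.Transfer.sylow_sup_pResidual PH]
      exact Subgroup.mem_top _
    suffices h2 : (PH : Subgroup (E₁.autGroup H)) ⊔ pResidual p (E₁.autGroup H) ≤
        (liftable F H hHS).comap (E₁.autGroup H).subtype from h2 h1
    refine sup_le ?_ ((Subgroup.closure_le _).mpr fun γ hγ => ?_)
    · rw [hPH]
      intro γ hγ
      obtain ⟨h, hh, -, hhe⟩ := mem_autInducedBy_iff.mp hγ
      have hV : H ⊔ centralizerIn S H ≤ S := sup_le hHS centralizerIn_le
      refine ⟨fun x => h * x * h⁻¹, ⟨isIso_conj_normalizer hV (hHS hh)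
        (Subgroup.le_normalizer (Subgroup.mem_sup_left hh)), fun x hx => H.mul_mem (H.mul_mem hh hx) (H.inv_mem hh),
        fun c hc' => ?_⟩, hhe⟩
      show c⁻¹ * (h * c * h⁻¹) ∈ H
      rw [Subgroup.mem_centralizer_iff.mp hc'.2 h hh, mul_inv_cancel_right, inv_mul_cancel]
      exact H.one_mem
    · obtain ⟨f, hf, hfe⟩ := isIso_of_aut (le_rfl : H ≤ H) γ.2
      have hper : PerPrime p H f := ⟨orderOf γ, (Nat.Prime.coprime_iff_not_dvd Fact.out).mp (Nat.Coprime.symm hγ),
        fun x hx => by rw [← coe_pow_apply hfe _ ⟨x, hx⟩, ← SubgroupClass.coe_pow, pow_orderOf_eq_one]; rfl⟩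
      have hG := prodSys_saturated hc
      have hfG : (prodSys hc).IsIso H H f := (hf.mono hE₁.2.1).mono (sub_prodSys hc)
      have hfn : (prodSys hc).IsFullyNormalized H := ⟨hHS, fun Q _ => by
        rw [show normalizerIn S H = S from le_antisymm normalizerIn_le fun s hs => ⟨hs, hHn s hs⟩]
        exact Subgroup.card_le_of_le normalizerIn_le⟩
      obtain ⟨g0, hg0, hg0e⟩ := extend_ext hS hG (hG.isFullyCentralized_of_isFullyNormalized hS hfn) hfG
      obtain ⟨m, hm, hmp⟩ := hper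
      obtain ⟨k, hkA, n, hn, hnper⟩ := CoreCent.exists_iterate_pprime (A := H) hg0 hm fun x hx => by
        rw [(iterate_congr (fun y hy => hf.mem hy) hg0e m hx).1, hmp x hx]
      set g := g0^[k] with hgdef
      have hg : (prodSys hc).IsIso (H ⊔ centralizerIn S H) (H ⊔ centralizerIn S H) g := iterate_isIso hg0 k
      have hgH : ∀ x ∈ H, g x = f x := fun x hx => (hkA x hx).trans (hg0e x hx)
      have hgm := image_self (hg.mono (prodSys_le_F hc)) le_sup_left fun x hx => by rw [hgH x hx]; exact hf.mem hx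
      refine ⟨g, ⟨hg.mono (prodSys_le_F hc), fun x hx => by rw [hgH x hx]; exact hf.mem hx, fun c hc' => ?_⟩,
        fun x => (hfe x).trans (hgH x x.2).symm⟩
      have hcV : c ∈ H ⊔ centralizerIn S H := Subgroup.mem_sup_right hc'
      have hgc := map_centralizer hg le_sup_left hgm hc' hcV
      have hperV : PerPrime p (H ⊔ centralizerIn S H) g := ⟨n, hn, hnper⟩
      have hd : c⁻¹ * g c ∈ T := amb_triv hc (hg.mono (prodSys_le_amb hc)) hperV hcV
      have hrestr := amb_restr hc (hg.mono (prodSys_le_amb hc)) hperV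
      exact CoreCent.mem_of_coprime_step (M := H) (N := (H ⊔ centralizerIn S H) ⊓ T) hS
        (hg.mono (prodSys_le_F hc)) hn hcV (hnper c hcV) inf_le_left (le_inf le_sup_left hHT)
        (fun x hx => by rw [hgH x hx]; exact hf.mem hx)
        (fun x hx => hyp_mem_of_per hrestr (hperV.mono inf_le_left) hx)
        ⟨Subgroup.mem_sup_right ((centralizerIn S H).mul_mem ((centralizerIn S H).inv_mem hc') hgc), hd⟩
  have hnorm : E₁.IsNormalIn F p := by
    refine ⟨⟨hE₁.1, hc.sat, hinv⟩, fun α hα => ?_⟩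
    obtain ⟨k, hk, hke⟩ := hlift hα
    obtain ⟨β, hβ, hβe⟩ := hk.iso.toAut
    refine ⟨β, hβ, fun x => by rw [hβe]; exact (hke x).symm, fun c hc' => ?_⟩
    rw [hβe]
    obtain ⟨h1, h2⟩ := hk.triv' hc'
    exact ⟨h1, h2.2⟩
  exact ⟨E₁, hE₁, ⟨hS, hnorm⟩,
    hyperfocalSubgroup_eq_of_pPowerIndex hTp hE₁n.1.2.2.2.1 hE₁.2, fun E₂ hE₂ => huniq E₂ hE₂.1 hE₂.2⟩

end Cfsg.FusionSystem.Product
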