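import Cfsg.Agent.Lib.Fusion.Product.Members
import Cfsg.Agent.Lib.Fusion.FamilySaturation.Main

/-!
Saturation of the generated system.
-/

set_option autoImplicit false
set_option linter.unusedSectionVars false
set_option linter.unusedVariables false
set_option linter.style.haveILetI false

namespace Cfsg.FusionSystem.Product

open Cfsg.FusionSystem.SubCent (isIso_self iterate_isIso)

universe u

variable {Ω : Type u} [Group Ω] {S T : Subgroup Ω} {F : FusionSystem S} {E : FusionSystem T}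
  {P Q R U V D : Subgroup Ω} {f g : Ω → Ω} {p : ℕ} [Finite S] [Fact p.Prime]

theorem normalizer_std (hc : Setup F p E) (hQT : Q ⊓ T = R) : normalizerIn S Q ≤ normalizerIn S R := fun x hx =>
  ⟨hx.1, mem_normalizer_of_sConj (by
    rw [← hQT]
    refine le_antisymm ?_ ?_
    · rintro _ ⟨y, hy, rfl⟩
      exact ⟨(Subgroup.mem_normalizer_iff.mp hx.2 y).mp hy.1, hc.conj_mem hx.1 hy.2⟩
    · intro y hy
      refine ⟨x⁻¹ * y * x, ⟨(Subgroup.mem_normalizer_iff''.mp hx.2 y).mp hy.1, hc.conj_mem' hx.1 hy.2⟩, ?_⟩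
      show x * (x⁻¹ * y * x) * x⁻¹ = y
      group)⟩

set_option maxHeartbeats 1000000 in
/-- Members of the family have fully automised receptive conjugates. -/
theorem fam_sat (hc : Setup F p E) (hP : InFam hc P) :
    ∃ Q, (prodSys hc).IsConj P Q ∧ (prodSys hc).IsFullyAutomized p Q ∧ (prodSys hc).IsReceptive Q := by
  classical
  have hX := big_prodSys hc
  obtain ⟨R, Q0, γ0, hR, hγ0, hQ0T, hQ0C⟩ := hP.exists_std
  obtain ⟨Q, ⟨hPQ, hQT, hQC⟩, hmax⟩ := Set.exists_max_image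
    {Q : Subgroup Ω | (prodSys hc).IsConj P Q ∧ Q ⊓ T = R ∧ centralizerIn S R ≤ Q}
    (fun Q => Nat.card (normalizerIn S Q)) ((finite_setOf_le S).subset fun Q hQ => hQ.1.le_right)
    ⟨Q0, hγ0.isConj, hQ0T, hQ0C⟩
  refine ⟨Q, hPQ, ?_, ?_⟩
  -- fully automised
  · obtain ⟨A⟩ := exists_loc hc hR.centric hR.norm
    have hQS : Q ≤ S := hPQ.le_right
    have hRS : R ≤ S := hR.centric.1.trans hc.le_S
    have hRN : R ≤ normalizerIn S R := le_normalizerIn hRS
    have hRQ : R ≤ Q := hQT ▸ inf_le_left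
    have hNQ : normalizerIn S Q ≤ normalizerIn S R := normalizer_std hc hQT
    have hQN : Q ≤ normalizerIn S R := (le_normalizerIn hQS).trans hNQ
    let M : Subgroup A.L := A.stab Q
    -- the action on `Q`
    have hex : ∀ (m : M) (x : Q), ∃ y : Q, A.J (y : Ω) = (m : A.L) * A.J x * (m : A.L)⁻¹ := fun m x => by
      obtain ⟨y, hy, hye⟩ := A.stab_apply hQN m.2 x.2
      exact ⟨⟨y, hy⟩, hye⟩
    choose y hy using hex
    have huniq : ∀ a b : Q, A.J (a : Ω) = A.J b → a = b := fun a b h =>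
      Subtype.ext (A.J_inj (hQN a.2) (hQN b.2) h)
    let π : M →* MulAut Q :=
      { toFun := fun m =>
          { toFun := y m
            invFun := y m⁻¹
            left_inv := fun x => huniq _ _ (by rw [hy, hy, Subgroup.coe_inv]; group)
            right_inv := fun x => huniq _ _ (by rw [hy, hy, Subgroup.coe_inv]; group)
            map_mul' := fun a b => huniq _ _ (by
              rw [hy, Subgroup.coe_mul Q (y m a), A.J_mul (hQN (y m a).2) (hQN (y m b).2), hy, hy,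
                Subgroup.coe_mul, A.J_mul (hQN a.2) (hQN b.2)]
              group) }
        map_one' := MulEquiv.ext fun x => huniq _ _ (by
          show A.J (y 1 x : Ω) = A.J x
          rw [hy]; simp)
        map_mul' := fun m m' => MulEquiv.ext fun x => huniq _ _ (by
          show A.J (y (m * m') x : Ω) = A.J (y m (y m' x) : Ω)
          rw [hy, hy, hy, Subgroup.coe_mul]; group) }
    have hπ : ∀ (m : M) (x : Q), A.J ((π m x : Q) : Ω) = (m : A.L) * A.J x * (m : A.L)⁻¹ := hy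
    have hπG : ∀ m, π m ∈ (prodSys hc).autGroup Q := fun m => by
      obtain ⟨f, Q', -, hrep⟩ := A.rep_iso hQN (m := (m : A.L)) fun x hx => by
        obtain ⟨z, hz, hze⟩ := A.stab_apply hQN m.2 hx
        rw [← hze]; exact A.J_mem_range (hQN hz)
      obtain ⟨Q'', hf⟩ := hX.maps R hR A Q f hRQ hQN ⟨_, hrep⟩
      obtain ⟨φ, hφ, -, hφe⟩ := id hf
      refine (prodSys hc).mem_autGroup_of_map hφ fun x => ?_
      rw [hφe]
      exact A.J_inj (hQN (π m x).2) (hrep x x.2).1 ((hπ m x).trans (hrep x x.2).2.symm)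
    let π' : M →* (prodSys hc).autGroup Q := π.codRestrict _ hπG
    have hsurj : Function.Surjective π' := by
      rintro ⟨α, hα⟩
      obtain ⟨f, hf, hfe⟩ := isIso_of_aut hQS hα
      have hfR : ∀ r ∈ R, f r ∈ R := fun r hr => by
        have := (inter_iso hc.closed (hf.mono (prodSys_le_F hc))).mem (x := r) (hQT.symm ▸ hr)
        rwa [hQT] at this
      obtain ⟨m, hm⟩ := localHolds hc R hR A Q Q f hf hRQ hQC hQN hfR
      have hmM : m ∈ M := A.mem_stab hQN fun x hx => ⟨f x, hf.mem hx, (hm x hx).2⟩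
      refine ⟨⟨m, hmM⟩, Subtype.ext (MulEquiv.ext fun x => huniq _ _ ?_)⟩
      show A.J ((π ⟨m, hmM⟩ x : Q) : Ω) = _
      rw [hπ, hfe x, (hm x x.2).2]
    let PD : Subgroup M := (((normalizerIn S Q).subgroupOf (normalizerIn S R)).map A.j).subgroupOf M
    have hPDmem : ∀ l : M, l ∈ PD ↔ ∃ x ∈ normalizerIn S Q, A.J x = l := fun l => by
      rw [Subgroup.mem_subgroupOf]; exact A.mem_img hNQ
    obtain ⟨PM, hPM⟩ := (show IsPGroup p PD from
      (IsPGroup.map ((hc.pgroup.to_le normalizerIn_le).to_subgroup _) A.j).comap_of_injective _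
        M.subtype_injective).exists_le_sylow
    -- the maximality makes it Sylow
    obtain ⟨PL, hPL⟩ := A.sylow
    obtain ⟨a, ha⟩ := exists_conj_mem_sylow PL (X := (PM : Subgroup M).map M.subtype) (PM.2.map _)
    have haQ : ∀ x ∈ Q, a * A.J x * a⁻¹ ∈ A.j.range := fun x hx => by
      rw [← hPL]
      exact ha _ ⟨⟨A.J x, A.J_mem_stab hQN (hQN hx) (Subgroup.le_normalizer hx)⟩,
        hPM ((hPDmem _).mpr ⟨x, le_normalizerIn hQS hx, rfl⟩), rfl⟩
    obtain ⟨f, Q0', -, hrep⟩ := A.rep_iso hQN haQ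
    obtain ⟨Q2, hf⟩ := hX.maps R hR A Q f hRQ hQN ⟨a, hrep⟩
    have hfF := hf.mono (prodSys_le_F hc)
    have hfR : ∀ r ∈ R, f r ∈ R := fun r hr => by
      obtain ⟨r', hr', hre⟩ := A.conj_R hRS a hr
      rwa [← A.J_inj (hRN hr') (hrep r (hRQ hr)).1 (hre.trans (hrep r (hRQ hr)).2.symm)]
    have hQ2T : Q2 ⊓ T = R := Subgroup.ext fun z => by
      rw [inter_image hc.closed hfF, hQT, ← SubCent.image_self hfF hRQ hfR]
    have hmax' := hmax Q2 ⟨hPQ.trans hf.isConj, hQ2T, cent_le_of_iso hfF hRQ hfR hQC⟩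
    have hmap : ∀ σ : (PM : Subgroup M), ∃ x ∈ normalizerIn S Q2, A.J x = a * (σ : M) * a⁻¹ := by
      intro σ
      have h1 : a * (σ : M) * a⁻¹ ∈ A.j.range := by
        rw [← hPL]; exact ha _ ⟨(σ : M), σ.2, rfl⟩
      obtain ⟨x, hx, hxe⟩ := A.exists_of_range h1
      refine ⟨x, ⟨hx.1, mem_normalizer_of_sConj ?_⟩, hxe⟩
      haveI := finite_of_le hf.le_right
      refine Subgroup.eq_of_le_of_card_ge ?_ (card_sConj x Q2).ge
      rintro _ ⟨z, hz, rfl⟩
      obtain ⟨u, hu, rfl⟩ := hf.surj hz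
      obtain ⟨v, hv, hve⟩ := A.stab_apply hQN (σ : M).2 hu
      have e : x * f u * x⁻¹ = f v := by
        refine A.J_inj ((normalizerIn S R).mul_mem ((normalizerIn S R).mul_mem hx (hrep u hu).1)
          ((normalizerIn S R).inv_mem hx)) (hrep v hv).1 ?_
        rw [A.J_conj hx (hrep u hu).1, hxe, (hrep u hu).2, (hrep v hv).2, hve]; group
      show x * f u * x⁻¹ ∈ Q2
      rw [e]; exact hf.mem hv
    choose xσ hxσ hxσe using hmap
    haveI := finite_normalizerIn (S := S) (P := Q)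
    haveI := finite_normalizerIn (S := S) (P := Q2)
    have hcard : Nat.card (PM : Subgroup M) ≤ Nat.card PD := by
      refine le_trans (Nat.card_le_card_of_injective (fun σ => (⟨xσ σ, hxσ σ⟩ : normalizerIn S Q2)) ?_)
        (hmax'.trans ?_)
      · intro σ σ' he
        have h1 : A.J (xσ σ) = A.J (xσ σ') := congrArg A.J (congrArg Subtype.val he)
        rw [hxσe, hxσe] at h1
        exact Subtype.ext (Subtype.ext (mul_left_cancel (mul_right_cancel h1)))
      · refine Nat.card_le_card_of_injective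
          (fun d : normalizerIn S Q => (⟨⟨A.J d, A.J_mem_stab hQN (hNQ d.2) d.2.2⟩, (hPDmem _).mpr ⟨d, d.2, rfl⟩⟩ : PD))
          fun d d' he => Subtype.ext (A.J_inj (hNQ d.2) (hNQ d'.2) (congrArg (fun z : PD => ((z : M) : A.L)) he :))
    have hPMe : PD = (PM : Subgroup M) := Subgroup.eq_of_le_of_card_ge hPM hcard
    refine ⟨hQS, PM.mapSurjective hsurj, ?_⟩
    rw [Sylow.coe_mapSurjective, ← hPMe]
    ext α
    rw [Subgroup.mem_subgroupOf, mem_autInducedBy_iff]
    constructor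
    · rintro ⟨l, hl, rfl⟩
      obtain ⟨x, hx, hxe⟩ := (hPDmem l).mp hl
      refine ⟨x, hx.1, hx.2, fun q => ?_⟩
      have hm : x * (q : Ω) * x⁻¹ ∈ Q := (Subgroup.mem_normalizer_iff.mp hx.2 _).mp q.2
      refine A.J_inj (hQN (π l q).2) (hQN hm) ?_
      show A.J ((π l q : Q) : Ω) = _
      rw [hπ, A.J_conj (hNQ hx) (hQN q.2), hxe]
    · rintro ⟨x, hxS, hxn, hxe⟩
      have hx : x ∈ normalizerIn S Q := ⟨hxS, hxn⟩
      refine ⟨⟨A.J x, A.J_mem_stab hQN (hNQ hx) hxn⟩, (hPDmem _).mpr ⟨x, hx, rfl⟩,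
        Subtype.ext (MulEquiv.ext fun q => huniq _ _ ?_)⟩
      show A.J ((π _ q : Q) : Ω) = _
      rw [hπ, hxe q, A.J_conj (hNQ hx) (hQN q.2)]
  -- receptive
  · obtain ⟨A⟩ := exists_loc hc hR.centric hR.norm
    have hQS : Q ≤ S := hPQ.le_right
    have hQN : Q ≤ normalizerIn S R := (le_normalizerIn hQS).trans (normalizer_std hc hQT)
    have hRQ : R ≤ Q := hQT ▸ inf_le_left
    refine ⟨hQS, fun P1 φ hφ hr => ?_⟩
    have hφi : (prodSys hc).IsIso P1 Q (funOf φ) := hr ▸ isIso_funOf hφ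
    have hP1S : P1 ≤ S := hφi.le_left
    have hU := inter_amb hc (hφi.mono hX.le)
    rw [hQT] at hU
    obtain ⟨γ, hγ⟩ := exists_coord hX ((hP.of_conj (hPQ.trans hφi.isConj.symm)).2.1) hR hU.isConj
    obtain ⟨D, hD, hDR, hRm⟩ := hγ
    have hDF := hD.mono (prodSys_le_F hc)
    have hP1N := le_normalizer_inter hc hP1S
    obtain ⟨P2, hP2, hP2D, -⟩ := hD.restrict hP1N
    obtain ⟨γi, hγi, hγl, -⟩ := hP2.symm
    have hψ : (prodSys hc).IsIso P2 Q (fun z => funOf φ (γi z)) := hγi.comp hφi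
    have hRP2 : R ≤ P2 := fun z hz => by
      obtain ⟨x, hx, rfl⟩ := (hRm z).mp hz
      exact hP2.mem hx.1
    have hψR : ∀ r ∈ R, funOf φ (γi r) ∈ R := fun r hr => by
      obtain ⟨x, hx, rfl⟩ := (hRm r).mp hr
      rw [hγl x hx.1]
      exact hU.mem hx
    obtain ⟨ψi, hψi, hψl, hψr⟩ := hψ.symm
    have hCP2 : centralizerIn S R ≤ P2 := cent_le_of_iso (hψi.mono (prodSys_le_F hc)) hRQ (fun r hr => by
      obtain ⟨x, hx, hxe⟩ := (SubCent.image_self (hψ.mono (prodSys_le_F hc)) hRP2 hψR r).mp hr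
      rw [← hxe, hψl x (hRP2 hx)]; exact hx) hQC
    obtain ⟨m, hm⟩ := localHolds hc R hR A P2 Q _ hψ hRP2 hCP2 (hP2D.trans hDR) hψR
    have hNe : extender S P1 φ ≤ normalizerIn S (P1 ⊓ T) := fun x hx => by
      have h1 := (mem_extender_iff (F.apply_mem ((prodSys_le_F hc) _ hφ))).mp hx
      exact normalizer_std hc rfl ⟨h1.1, h1.2.1⟩
    obtain ⟨N2, hN2, hN2D, -⟩ := hD.restrict hNe
    have hP1e : P1 ≤ extender S P1 φ := fun x hx =>
      (mem_extender_iff (F.apply_mem ((prodSys_le_F hc) _ hφ))).mpr ⟨hP1S hx, Subgroup.le_normalizer hx, φ ⟨x, hx⟩,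
        F.apply_mem ((prodSys_le_F hc) _ hφ) _, fun z hz => by
          rw [show (⟨x * (z : Ω) * x⁻¹, hz⟩ : P1) = ⟨x, hx⟩ * z * ⟨x, hx⟩⁻¹ from rfl, map_mul, map_mul, map_inv]⟩
    have hN2R : N2 ≤ normalizerIn S R := hN2D.trans hDR
    have hRN : R ≤ normalizerIn S R := le_normalizerIn (hR.centric.1.trans hc.le_S)
    have hland : ∀ z ∈ N2, m * A.J z * m⁻¹ ∈ A.j.range := by
      intro z hz
      obtain ⟨g, hg, rfl⟩ := hN2.surj hz
      obtain ⟨hgS, hgn, k, hk, hke⟩ := (mem_extender_iff (F.apply_mem ((prodSys_le_F hc) _ hφ))).mp hg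
      have hgP : ∀ x ∈ P1, g * x * g⁻¹ ∈ P1 := fun x hx => (Subgroup.mem_normalizer_iff.mp hgn x).mp hx
      have hkQ : k ∈ normalizerIn S Q := by
        refine ⟨hk, mem_normalizer_of_sConj ?_⟩
        haveI := finite_of_le hQS
        refine Subgroup.eq_of_le_of_card_ge ?_ (card_sConj k Q).ge
        rintro _ ⟨w, hw, rfl⟩
        obtain ⟨x, hx, rfl⟩ := hφi.surj hw
        show k * funOf φ x * k⁻¹ ∈ Q
        rw [← funOf_apply φ ⟨x, hx⟩, ← hke ⟨x, hx⟩ (hgP x hx), funOf_apply]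
        exact hφi.mem (hgP x hx)
      have hkN : k ∈ normalizerIn S R := normalizer_std hc hQT hkQ
      obtain ⟨c, hc', hce⟩ := A.land hc hR.norm (m := m) (x := γ g) hkN fun r hr => by
        obtain ⟨u, hu, hue⟩ := (SubCent.image_self (hψ.mono (prodSys_le_F hc)) hRP2 hψR r).mp hr
        obtain ⟨w, hw, rfl⟩ := (hRm u).mp hu
        have hwP := hw.1
        have hgwP := hgP w hwP
        rw [← hue, hγl w hwP, ← funOf_apply φ ⟨w, hwP⟩, ← hke ⟨w, hwP⟩ hgwP]
        simp only [funOf_apply]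
        have e1 : A.J (funOf φ w) = m * A.J (γ w) * m⁻¹ := by
          have := (hm _ (hP2.mem hwP)).2
          simp only [hγl w hwP] at this
          exact this
        have e2 : A.J (funOf φ (g * w * g⁻¹)) = m * A.J (γ (g * w * g⁻¹)) * m⁻¹ := by
          have := (hm _ (hP2.mem hgwP)).2
          simp only [hγl _ hgwP] at this
          exact this
        show m * A.J (γ g) * m⁻¹ * A.J (funOf φ w) * (m * A.J (γ g) * m⁻¹)⁻¹ = A.J (funOf φ (g * w * g⁻¹))
        rw [e1, e2, hN2.apply_conj hg (hP1e hwP), A.J_conj (hN2R (hN2.mem hg)) (hN2R (hN2.mem (hP1e hwP)))]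
        group
      rw [hce]
      exact A.J_mem_range ((normalizerIn S R).mul_mem hkN (Loc.centralizerIn_le_NR hc'))
    obtain ⟨f, N3, -, hf⟩ := A.rep_iso hN2R hland
    have hRN2 : R ≤ N2 := fun z hz => by
      obtain ⟨x, hx, rfl⟩ := (hRm z).mp hz
      exact hN2.mem (hP1e hx.1)
    obtain ⟨N4, hf4⟩ := hX.maps R hR A N2 f hRN2 hN2R ⟨m, hf⟩
    obtain ⟨χ, hχ, -, hχe⟩ := hN2.comp hf4
    refine ⟨χ, hχ, fun x hx hN => ?_⟩
    rw [hχe ⟨x, hN⟩, funOf_apply φ ⟨x, hx⟩]
    have h1 := (hm _ (hP2.mem hx)).2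
    have h2 := (hm _ (hP2.mem hx)).1
    simp only [hγl x hx] at h1 h2
    exact A.J_inj (hf _ (hN2.mem hN)).1 h2 ((hf _ (hN2.mem hN)).2.trans h1.symm)

end Cfsg.FusionSystem.Product
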