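import Cfsg.Agent.Lib.Fusion.Product.Saturated

/-!
The generated system is saturated.
-/

set_option autoImplicit false
set_option linter.unusedSectionVars false
set_option linter.unusedVariables false
set_option linter.style.haveILetI false

namespace Cfsg.FusionSystem.Product

open Cfsg.FusionSystem.SubCent (isIso_self iterate_isIso)

universe u

variable {Ω : Type u} [Group Ω] {S T : Subgroup Ω} {F : FusionSystem S} {E : FusionSystem T}
  {P Q R U V D : Subgroup Ω} {f g : Ω → Ω} {p : ℕ}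

/-- The common maps of two systems. -/
def meetSys (G X : FusionSystem S) : FusionSystem S where
  Hom P := {φ | φ ∈ G.Hom P ∧ φ ∈ X.Hom P}
  le_of_mem h := G.le_of_mem h.1
  injective_of_mem h := G.injective_of_mem h.1
  conj_mem hP hg := ⟨G.conj_mem hP hg, X.conj_mem hP hg⟩
  comp_mem hφ hψ h := ⟨G.comp_mem hφ.1 hψ.1 h, X.comp_mem hφ.2 hψ.2 h⟩
  inv_mem := by
    intro P φ hφ
    obtain ⟨ψ, hψ, he⟩ := G.inv_mem hφ.1
    obtain ⟨ψ', hψ', he'⟩ := X.inv_mem hφ.2
    have : ψ = ψ' := MonoidHom.ext fun ⟨_, x, rfl⟩ => (he x).trans (he' x).symm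
    exact ⟨ψ, ⟨hψ, this ▸ hψ'⟩, he⟩

variable [Finite S] [Fact p.Prime]

theorem isIso_meet {hc : Setup F p E} {X : FusionSystem S} (hX : ∀ P, InFam hc P → (prodSys hc).Hom P ⊆ X.Hom P)
    (hP : InFam hc P) (h : (prodSys hc).IsIso P Q f) : (meetSys (prodSys hc) X).IsIso P Q f := by
  obtain ⟨φ, hφ, hr, he⟩ := h
  exact ⟨φ, ⟨hφ, hX P hP hφ⟩, hr, he⟩

/-- The family generates. -/
theorem fam_gen (hc : Setup F p E) (X : FusionSystem S)
    (hX : ∀ P, InFam hc P → (prodSys hc).Hom P ⊆ X.Hom P) : prodSys hc ≤ X := by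
  have hB := big_prodSys hc
  have hY : Big hc (meetSys (prodSys hc) X) := by
    refine ⟨fun P φ h => prodSys_le_amb hc P h.1, fun R hR A P f hRP hP hf => ?_⟩
    obtain ⟨m, hm⟩ := hf
    have hRS : R ≤ S := hR.centric.1.trans hc.le_S
    have hCN : centralizerIn S R ≤ normalizerIn S R := Loc.centralizerIn_le_NR
    have hPN : P ⊔ centralizerIn S R ≤ normalizerIn S R := sup_le hP hCN
    have hall : ∀ x ∈ P ⊔ centralizerIn S R, m * A.J x * m⁻¹ ∈ A.j.range := by
      let K : Subgroup Ω := (A.j.range.comap ((MulAut.conj m).toMonoidHom.comp A.j)).map (normalizerIn S R).subtype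
      have hmem : ∀ {x : Ω}, x ∈ normalizerIn S R → m * A.J x * m⁻¹ ∈ A.j.range → x ∈ K := fun {x} hx h =>
        ⟨⟨x, hx⟩, show m * A.j ⟨x, hx⟩ * m⁻¹ ∈ A.j.range by rwa [← A.J_eq hx], rfl⟩
      have hle : P ⊔ centralizerIn S R ≤ K := sup_le
        (fun x hx => hmem (hP hx) (by rw [← (hm x hx).2]; exact A.J_mem_range (hm x hx).1))
        (fun c hc' => hmem (hCN hc') (by
          obtain ⟨d, hd, hde⟩ := A.conj_cent hc hR.norm (m := m) hc'
          rw [← hde]; exact A.J_mem_range (hCN hd)))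
      intro x hx
      obtain ⟨y, hy, rfl⟩ := hle hx
      have : m * A.j y * m⁻¹ ∈ A.j.range := hy
      rwa [← A.J_coe] at this
    obtain ⟨f', Q', -, hf'⟩ := A.rep_iso hPN hall
    obtain ⟨P', hf1⟩ := hB.maps R hR A _ f' (hRP.trans le_sup_left) hPN ⟨m, hf'⟩
    obtain ⟨P'', hf2, -, -⟩ := (isIso_meet hX (fam_of_good hc hR (hRP.trans le_sup_left) le_sup_right hPN) hf1).restrict
      (le_sup_left : P ≤ P ⊔ centralizerIn S R)
    exact ⟨P'', hf2.congr fun x hx => hm.eq (A := A) (hf'.restrict (A := A) le_sup_left) hx⟩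
  have hgens : HasGens F p E (meetSys (prodSys hc) X) := by
    intro D h hh
    have hDS := hh.iso.le_left
    haveI := hc.finT
    obtain ⟨R, γ, hR, N, hN, hNR, hRm⟩ := (exists_step hY (D ⊓ T) inf_le_right).1 hh.centric
    obtain ⟨D1, hD1, hD1N, -⟩ := hN.restrict (le_normalizer_inter hc hDS)
    have hD1F : F.IsIso D D1 γ := hD1.mono hY.toF
    obtain ⟨h', hh', hh'e⟩ := hh.transport hc hD1F
    have hD1T : D1 ⊓ T = R := Subgroup.ext fun y => by rw [inter_image hc.closed hD1F, hRm]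
    have hD1R : D1 ≤ normalizerIn S R := hD1N.trans hNR
    have hRD1 : R ≤ D1 := hD1T ▸ inf_le_left
    obtain ⟨A⟩ := exists_loc hc hR.centric hR.norm
    have hRS : R ≤ S := hR.centric.1.trans hc.le_S
    have hh'R : E.IsIso R R h' := by have := hh'.restr; rwa [hD1T] at this
    obtain ⟨n, hn, hord, hrep⟩ := A.exists_pprime_rep hRS hh'R (hh'.per.mono hRD1)
    have hland : ∀ x ∈ D1, ∃ y ∈ D1, A.J y = n * A.J x * n⁻¹ := fun x hx => by
      obtain ⟨c, hc', hce⟩ := A.land_map hc hR.norm hrep hh'.iso hRD1 hD1R hD1R (fun r _ => rfl) hx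
      have hy : h' x ∈ D1 := hh'.iso.mem hx
      have h1 := A.triv_N hn (hD1R hx)
        ((normalizerIn S R).mul_mem (hD1R hy) (Loc.centralizerIn_le_NR hc')) hce
      have hcT : c ∈ T := by
        have h2 := T.mul_mem (T.inv_mem (hh'.triv x hx)) h1
        rwa [show (x⁻¹ * h' x)⁻¹ * (x⁻¹ * (h' x * c)) = c by group] at h2
      exact ⟨_, D1.mul_mem hy (hRD1 (hR.centric.centralizerIn_le_self ⟨hcT, hc'.2⟩)), hce.symm⟩
    obtain ⟨k0, Q0, -, hk0⟩ := A.rep_iso hD1R (m := n) fun x hx => by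
      obtain ⟨y, hy, hye⟩ := hland x hx
      rw [← hye]; exact A.J_mem_range (hD1R hy)
    have hk0m : ∀ x ∈ D1, k0 x ∈ D1 := fun x hx => by
      obtain ⟨y, hy, hye⟩ := hland x hx
      rwa [A.J_inj (hk0 x hx).1 (hD1R hy) ((hk0 x hx).2.trans hye.symm)]
    obtain ⟨a, ha, -, hae⟩ := gen_eq hc hh' (gen_of_rep hc hR A hn hord hRD1 hD1R hk0 hk0m) fun x hx => by
      rw [hD1T] at hx
      exact hrep.eq (A := A) (hk0.restrict (A := A) hRD1) hx
    obtain ⟨P', hY1⟩ := hY.maps R hR A D1 h' hRD1 hD1R ⟨A.J a * n, fun x hx =>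
      ⟨hD1R (hh'.iso.mem hx), by
        rw [hae x hx, A.J_conj (hD1R ha.1) (hD1R (hk0m x hx)), (hk0 x hx).2]; group⟩⟩
    have hY2 := isIso_self hY1 le_rfl fun x hx => hh'.iso.mem hx
    obtain ⟨γi, hγi, hγl, -⟩ := hD1.symm
    refine ((hD1.comp hY2).comp hγi).congr fun x hx => ?_
    show h x = γi (h' (γ x))
    rw [hh'e x hx, hγl _ (hh.iso.mem hx)]
  exact fun P φ hφ => (prodSys_le hc hgens P hφ).2

/-- Centric subgroups outside the family. -/
theorem fam_star (hc : Setup F p E) (hPc : (prodSys hc).IsCentric P) (hP : ¬ InFam hc P) :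
    ∃ Q, (prodSys hc).IsConj P Q ∧ ¬ (autInducedBy S Q ⊓ Family.opAut (prodSys hc) p Q ≤ Inn Q) := by
  classical
  haveI := hc.finT
  obtain ⟨Q, hPQ, hQ⟩ : ∃ Q, (prodSys hc).IsConj P Q ∧ ¬ centralizerIn S (Q ⊓ T) ≤ Q := by
    by_cases hU : E.IsCentric (P ⊓ T)
    · by_contra h
      exact hP ⟨hPc.1, hU, fun P' hP' => by_contra fun h' => h ⟨P', hP', h'⟩⟩
    · obtain ⟨γ, D, U2, hD, hU2, hU2C⟩ := (exists_step (big_prodSys hc) (P ⊓ T) inf_le_right).2 hU
      obtain ⟨Q, hQ, -, -⟩ := hD.restrict (le_normalizer_inter hc hPc.1)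
      have hQT : Q ⊓ T = U2 := Subgroup.ext fun y => by
        rw [inter_image hc.closed (hQ.mono (prodSys_le_F hc)), hU2]
      refine ⟨Q, hQ.isConj, fun h => hU2C fun x hx => ?_⟩
      rw [← hQT] at hx ⊢
      exact ⟨h ⟨hc.le_S hx.1, hx.2⟩, hx.1⟩
  refine ⟨Q, hPQ, fun hle => hQ ?_⟩
  have hQS : Q ≤ S := hPQ.le_right
  have hQc := hPc.of_isConj hPQ
  set C := centralizerIn S (Q ⊓ T)
  -- normalising elements of `C`
  by_contra hCQ
  have hQN : Q ≤ Subgroup.normalizer (C : Set Ω) := fun q hq => by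
    refine mem_normalizer_of_sConj ?_
    have hq' := le_normalizer_inter hc hQS hq
    haveI := finite_centralizerIn (S := S) (P := Q ⊓ T)
    refine Subgroup.eq_of_le_of_card_ge ?_ (card_sConj q C).ge
    rintro _ ⟨c, hc', rfl⟩
    refine ⟨S.mul_mem (S.mul_mem (hQS hq) hc'.1) (S.inv_mem (hQS hq)), Subgroup.mem_centralizer_iff.mpr fun y hy => ?_⟩
    have hy' : q⁻¹ * y * q ∈ Q ⊓ T := (Subgroup.mem_normalizer_iff''.mp hq'.2 y).mp hy
    have h1 := Subgroup.mem_centralizer_iff.mp hc'.2 _ hy'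
    show y * (q * c * q⁻¹) = q * c * q⁻¹ * y
    calc y * (q * c * q⁻¹) = q * (q⁻¹ * y * q * c) * q⁻¹ := by group
      _ = q * c * q⁻¹ * y := by rw [h1]; group
  have hlt : Q < Q ⊔ C := lt_of_le_of_ne le_sup_left fun e => hCQ (e ▸ le_sup_right)
  haveI : Finite ↥(Q ⊔ C : Subgroup Ω) := finite_of_le (sup_le hQS centralizerIn_le)
  obtain ⟨k, hk, hkQ⟩ := SetLike.exists_of_lt
    (lt_normalizerIn (hc.pgroup.to_le (sup_le hQS centralizerIn_le)) hlt)
  obtain ⟨q, hq, c, hcC, rfl⟩ : ∃ q ∈ Q, ∃ c ∈ C, q * c = k := by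
    have h1 : k ∈ ((Q ⊔ C : Subgroup Ω) : Set Ω) := hk.1
    rw [Subgroup.coe_mul_of_left_le_normalizer_right Q C hQN] at h1
    exact Set.mem_mul.mp h1
  have hcn : c ∈ Subgroup.normalizer (Q : Set Ω) := by
    have := mul_mem (InvMemClass.inv_mem (Subgroup.le_normalizer hq)) hk.2
    rwa [inv_mul_cancel_left] at this
  have hcQ : c ∉ Q := fun h => hkQ (Q.mul_mem hq h)
  -- automorphisms fixing the part in `T`
  haveI := finite_autGroup (F := prodSys hc) hQS
  let A0 : Subgroup ((prodSys hc).autGroup Q) :=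
    { carrier := {β | ∀ x : Q, (x : Ω) ∈ T → (β : MulAut Q) x = x}
      one_mem' := fun x _ => rfl
      mul_mem' := fun {a b} ha hb x hx => by
        show (a : MulAut Q) ((b : MulAut Q) x) = x
        rw [hb x hx, ha x hx]
      inv_mem' := fun {a} ha x hx => by
        show (a : MulAut Q)⁻¹ x = x
        conv_lhs => rw [← ha x hx]
        exact MulAut.inv_apply_self _ _ _ }
  haveI : A0.Normal := ⟨fun β hβ α x hx => by
    obtain ⟨f, hf, hfe⟩ := isIso_of_aut hQS (InvMemClass.inv_mem α.2)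
    have h1 : (((α : MulAut Q)⁻¹ x : Q) : Ω) ∈ T := by
      rw [hfe]; exact ((inter_iso hc.closed (hf.mono (prodSys_le_F hc))).mem ⟨x.2, hx⟩).2
    show (α : MulAut Q) ((β : MulAut Q) ((α : MulAut Q)⁻¹ x)) = x
    rw [hβ _ h1, MulAut.apply_inv_self]⟩
  have hA0 : IsPGroup p A0 := by
    intro β
    obtain ⟨e, he⟩ := SubCent.prime_part (p := p) β
    refine ⟨e, ?_⟩
    set b := β ^ p ^ e with hb
    obtain ⟨f, hf, hfe⟩ := isIso_of_aut hQS (b : (prodSys hc).autGroup Q).2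
    have hper : PerPrime p Q f := ⟨orderOf b, he, fun x hx => by
      have h1 := coe_pow_apply hfe (orderOf b) ⟨x, hx⟩
      rw [← h1, ← SubgroupClass.coe_pow, ← SubgroupClass.coe_pow, pow_orderOf_eq_one]
      rfl⟩
    have htriv := fun {x} hx => amb_triv hc (hf.mono (prodSys_le_amb hc)) hper (x := x) hx
    have hfix : ∀ x ∈ Q, f x = x := by
      intro x hx
      set u := x⁻¹ * f x with hu
      have huQ : u ∈ Q := Q.mul_mem (Q.inv_mem hx) (hf.mem hx)
      have huT : u ∈ T := htriv hx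
      have hfu : f u = u := by
        rw [← hfe ⟨u, huQ⟩]
        exact congrArg Subtype.val (b.2 ⟨u, huQ⟩ huT)
      obtain ⟨a, ha⟩ := hc.exists_pow_one (hc.le_S huT)
      have hk : ∀ n : ℕ, f^[n] x = x * u ^ n := by
        intro n
        induction n with
        | zero => simp
        | succ n ih =>
          rw [Function.iterate_succ_apply, show f x = x * u by rw [hu, mul_inv_cancel_left],
            ← (iterate_isIso hf n).apply_mul hx huQ |>.symm, ih,
            Function.iterate_fixed hfu n, pow_succ, mul_assoc]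
      obtain ⟨j, hj⟩ := hper.exists_mul a
      rw [← hj x hx, hk, pow_mul, ha, one_pow, mul_one]
    refine Subtype.ext (Subtype.ext (MulEquiv.ext fun x => Subtype.ext ?_))
    show (((b : (prodSys hc).autGroup Q) : MulAut Q) x : Ω) = x
    rw [hfe, hfix x x.2]
  let α : MulAut Q := Q.normalizerMonoidHom ⟨c, hcn⟩
  have hαe : ∀ x : Q, ((α x : Q) : Ω) = c * x * c⁻¹ := fun x => rfl
  have hαI : α ∈ autInducedBy S Q := mem_autInducedBy_iff.mpr ⟨c, hcC.1, hcn, hαe⟩
  have hαG := (prodSys hc).autInducedBy_le_autGroup hQS hαI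
  have hαA : (⟨α, hαG⟩ : (prodSys hc).autGroup Q) ∈ A0 := fun x hx => Subtype.ext (by
    rw [hαe, ← Subgroup.mem_centralizer_iff.mp hcC.2 x ⟨x.2, hx⟩, mul_inv_cancel_right])
  obtain ⟨w, hw, -, hwe⟩ := mem_autInducedBy_iff.mp
    (inn_eq_autInducedBy Q ▸ hle ⟨hαI, ⟨_, CfsgLib.le_pCore hA0 hαA, rfl⟩⟩)
  have hz : w⁻¹ * c ∈ centralizerIn S Q := by
    refine ⟨S.mul_mem (S.inv_mem (hQS hw)) hcC.1, Subgroup.mem_centralizer_iff.mpr fun x hx => ?_⟩
    have h1 := hwe ⟨x, hx⟩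
    rw [hαe] at h1
    calc x * (w⁻¹ * c) = w⁻¹ * (w * x * w⁻¹) * c := by group
      _ = w⁻¹ * c * x := by rw [← h1]; group
  have := Q.mul_mem hw (hQc.centralizerIn_le_self hz)
  rw [mul_inv_cancel_left] at this
  exact hcQ this

/-- The generated system is saturated. -/
theorem prodSys_saturated (hc : Setup F p E) : (prodSys hc).IsSaturated p :=
  Family.isSaturated_of_family hc.pgroup {P | InFam hc P} (fun _ hP _ hQ => InFam.of_conj hP hQ)
    (fun _ hP => fam_sat hc hP) (fun X hX => fam_gen hc X hX) fun _ hP hPH => fam_star hc hP hPH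

end Cfsg.FusionSystem.Product
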