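import Cfsg.Agent.Lib.Fusion.Product.Residual
import Cfsg.Agent.Lib.Fusion.Normal

/-!
Saturated systems with a prescribed normal residual are determined by their carrier.
-/

set_option autoImplicit false
set_option linter.unusedSectionVars false
set_option linter.unusedVariables false
set_option linter.style.haveILetI false

namespace Cfsg.FusionSystem.Product

open Cfsg.FusionSystem.SubCent (isIso_self iterate_isIso map_centralizer image_self)

universe u

variable {Ω : Type u} [Group Ω] {S H : Subgroup Ω} {F : FusionSystem S} {E : FusionSystem H}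
  {P Q U V R : Subgroup Ω} {f g : Ω → Ω} {p : ℕ}

/-- A saturated subsystem over `R` whose periodic automorphisms are trivial modulo `H` and are in `E` on the parts
in `H`, containing `E`. -/
structure Over (F : FusionSystem S) (p : ℕ) (E : FusionSystem H) (D : FusionSystem R) : Prop where
  sat : D.IsSaturated p
  sub : D.IsSubsystemOf F
  incl : E.IsSubsystemOf D
  hyp : D.hyperfocalSubgroup p ≤ H
  restr : ∀ P f, P ≤ H → D.IsIso P P f → PerPrime p P f → E.IsIso P P f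

variable [Finite S] [Fact p.Prime]

/-- The part in `H` of a centric radical subgroup is centric. -/
theorem Over.centric_part (hc : Setup F p E) {D : FusionSystem R} (hR : R ≤ S) (hHR : H ≤ R) (hD : Over F p E D)
    (hP : D.IsCentric P) (hrad : D.IsRadical p P) : E.IsCentric (P ⊓ H) := by
  classical
  haveI := hc.finT
  haveI := finite_of_le hR
  have hRp := hc.pgroup.to_le hR
  have hPR : P ≤ R := hP.1
  by_contra hU
  have hUR : P ⊓ H ≤ R := inf_le_left.trans hPR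
  have hnorm : ∀ {X : Subgroup Ω}, X ≤ R → X ≤ normalizerIn R (X ⊓ H) := fun {X} hX x hx =>
    ⟨hX hx, (le_normalizer_inter hc (hX.trans hR) hx).2⟩
  obtain ⟨U2, hUU2, hU2⟩ := D.exists_isFullyNormalized hUR
  obtain ⟨φ, hφ, hφr, χ, hχ, hχN, hχe⟩ := hD.sat.exists_map_to_fullyNormalized hRp hU2 hUU2
  have hχi := isIso_funOf hχ
  obtain ⟨Q, hQ, -, hQm⟩ := hχi.restrict (hnorm hPR)
  have hUN : P ⊓ H ≤ normalizerIn R (P ⊓ H) := le_normalizerIn hUR
  have hU2m : ∀ y, y ∈ U2 ↔ ∃ x ∈ P ⊓ H, funOf χ x = y := fun y => by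
    constructor
    · intro hy
      obtain ⟨x, hx⟩ := hφr.ge hy
      exact ⟨x, x.2, by rw [← funOf_apply χ ⟨x, hUN x.2⟩, hχe x, hx]⟩
    · rintro ⟨x, hx, rfl⟩
      rw [← funOf_apply χ ⟨x, hUN hx⟩, hχe ⟨x, hx⟩]
      exact hφr.le ⟨_, rfl⟩
  have hQF := hQ.mono hD.sub
  have hQU : Q ⊓ H = U2 := Subgroup.ext fun y => by rw [inter_image hc.closed hQF, hU2m]
  have hU2H : U2 ≤ H := hQU ▸ inf_le_right
  -- its centraliser in `H` is not inside it
  have hC : ¬ centralizerIn H U2 ≤ U2 := by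
    intro hC
    obtain ⟨gi, hgi, -, -⟩ := ((hφr ▸ isIso_funOf hφ : D.IsIso (P ⊓ H) U2 (funOf φ)).mono hD.sub).symm
    refine hU (hc.inv.isCentric_of_isIso (P := U2) ?_ hgi)
    refine ⟨hU2H, fun U' hU' => ?_⟩
    have hU'H : U' ≤ H := hU'.le_right
    obtain ⟨ψ0, hψ0, hψ0r⟩ := hU'
    have hUU' : D.IsConj U' U2 := IsConj.symm ⟨ψ0, hD.incl _ hψ0, hψ0r⟩
    obtain ⟨ψ, hψ, hψr, θ, hθ, hθN, hθe⟩ := hD.sat.exists_map_to_fullyNormalized hRp hU2 hUU'
    intro c hc'
    have hcN : c ∈ normalizerIn R U' := ⟨hHR hc'.1, Subgroup.centralizer_le_normalizer _ hc'.2⟩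
    have hU'N : U' ≤ normalizerIn R U' := le_normalizerIn (hU'H.trans hHR)
    have hθi := isIso_funOf hθ
    have hm : ∀ y, y ∈ U2 ↔ ∃ x ∈ U', funOf θ x = y := fun y => by
      constructor
      · intro hy
        obtain ⟨x, hx⟩ := hψr.ge hy
        exact ⟨x, x.2, by rw [← funOf_apply θ ⟨x, hU'N x.2⟩, hθe x, hx]⟩
      · rintro ⟨x, hx, rfl⟩
        rw [← funOf_apply θ ⟨x, hU'N hx⟩, hθe ⟨x, hx⟩]
        exact hψr.le ⟨_, rfl⟩
    have h1 : funOf θ c ∈ U2 := hC ⟨hc.closed.iso_mem (hθi.mono hD.sub) hcN hc'.1,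
      hθi.mem_centralizer hU'N hm hcN hc'.2⟩
    obtain ⟨x, hx, hxe⟩ := (hm _).mp h1
    exact hθi.inj (hU'N hx) hcN hxe ▸ hx
  -- an element of `C_H(U2)` normalising `Q`
  have hQR : Q ≤ R := hQ.le_right
  have hQN := hnorm hQR
  rw [hQU] at hQN
  set C := centralizerIn H U2
  have hCR : C ≤ R := centralizerIn_le.trans hHR
  have hQC : Q ≤ Subgroup.normalizer (C : Set Ω) := fun q hq => by
    refine mem_normalizer_of_sConj ?_
    haveI := finite_of_le (hCR.trans hR)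
    refine Subgroup.eq_of_le_of_card_ge ?_ (card_sConj q C).ge
    rintro _ ⟨c, hc', rfl⟩
    refine ⟨hc.conj_mem (hR (hQR hq)) hc'.1, Subgroup.mem_centralizer_iff.mpr fun y hy => ?_⟩
    have hy' : q⁻¹ * y * q ∈ U2 := (Subgroup.mem_normalizer_iff''.mp (hQN hq).2 y).mp hy
    have h1 := Subgroup.mem_centralizer_iff.mp hc'.2 _ hy'
    show y * (q * c * q⁻¹) = q * c * q⁻¹ * y
    calc y * (q * c * q⁻¹) = q * (q⁻¹ * y * q * c) * q⁻¹ := by group
      _ = q * c * q⁻¹ * y := by rw [h1]; group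
  have hCQ : ¬ C ≤ Q := fun h => hC fun x hx => hQU ▸ ⟨h hx, hx.1⟩
  have hlt : Q < Q ⊔ C := lt_of_le_of_ne le_sup_left fun e => hCQ (e ▸ le_sup_right)
  haveI : Finite ↥(Q ⊔ C : Subgroup Ω) := finite_of_le (sup_le (hQR.trans hR) (hCR.trans hR))
  obtain ⟨k, hk, hkQ⟩ := SetLike.exists_of_lt
    (lt_normalizerIn (hc.pgroup.to_le (sup_le (hQR.trans hR) (hCR.trans hR))) hlt)
  obtain ⟨q, hq, c, hcC, rfl⟩ : ∃ q ∈ Q, ∃ c ∈ C, q * c = k := by
    have h1 : k ∈ ((Q ⊔ C : Subgroup Ω) : Set Ω) := hk.1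
    rw [Subgroup.coe_mul_of_left_le_normalizer_right Q C hQC] at h1
    exact Set.mem_mul.mp h1
  have hcn : c ∈ Subgroup.normalizer (Q : Set Ω) := by
    have := mul_mem (InvMemClass.inv_mem (Subgroup.le_normalizer hq)) hk.2
    rwa [inv_mul_cancel_left] at this
  have hcQ : c ∉ Q := fun h => hkQ (Q.mul_mem hq h)
  -- automorphisms fixing the part in `H`
  haveI := finite_autGroup (F := D) hQR
  let A0 : Subgroup (D.autGroup Q) :=
    { carrier := {β | ∀ x : Q, (x : Ω) ∈ H → (β : MulAut Q) x = x}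
      one_mem' := fun x _ => rfl
      mul_mem' := fun {a b} ha hb x hx => by
        show (a : MulAut Q) ((b : MulAut Q) x) = x
        rw [hb x hx, ha x hx]
      inv_mem' := fun {a} ha x hx => by
        show (a : MulAut Q)⁻¹ x = x
        conv_lhs => rw [← ha x hx]
        exact MulAut.inv_apply_self _ _ _ }
  haveI : A0.Normal := ⟨fun β hβ α x hx => by
    obtain ⟨f, hf, hfe⟩ := isIso_of_aut hQR (InvMemClass.inv_mem α.2)
    have h1 : (((α : MulAut Q)⁻¹ x : Q) : Ω) ∈ H := by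
      rw [hfe]; exact ((inter_iso hc.closed (hf.mono hD.sub)).mem ⟨x.2, hx⟩).2
    show (α : MulAut Q) ((β : MulAut Q) ((α : MulAut Q)⁻¹ x)) = x
    rw [hβ _ h1, MulAut.apply_inv_self]⟩
  have hA0 : IsPGroup p A0 := by
    intro β
    obtain ⟨e, he⟩ := SubCent.prime_part (p := p) β
    refine ⟨e, ?_⟩
    set b := β ^ p ^ e with hb
    obtain ⟨f, hf, hfe⟩ := isIso_of_aut hQR (b : D.autGroup Q).2
    have hper : PerPrime p Q f := ⟨orderOf b, he, fun x hx => by
      have h1 := coe_pow_apply hfe (orderOf b) ⟨x, hx⟩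
      rw [← h1, ← SubgroupClass.coe_pow, ← SubgroupClass.coe_pow, pow_orderOf_eq_one]
      rfl⟩
    have hfix : ∀ x ∈ Q, f x = x := by
      intro x hx
      set u := x⁻¹ * f x with hu
      have huQ : u ∈ Q := Q.mul_mem (Q.inv_mem hx) (hf.mem hx)
      have huT : u ∈ H := hD.hyp (hyp_mem_of_per hf hper hx)
      have hfu : f u = u := by
        rw [← hfe ⟨u, huQ⟩]
        exact congrArg Subtype.val (b.2 ⟨u, huQ⟩ huT)
      obtain ⟨a, ha⟩ := hc.exists_pow_one (hc.le_S huT)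
      have hk : ∀ n : ℕ, f^[n] x = x * u ^ n := by
        intro n
        induction n with
        | zero => simp
        | succ n ih =>
          rw [Function.iterate_succ_apply, show f x = x * u by rw [hu, mul_inv_cancel_left],
            ← (iterate_isIso hf n).apply_mul hx huQ |>.symm, ih,
            Function.iterate_fixed hfu n, pow_succ, mul_assoc]
      obtain ⟨j, hj⟩ := hper.exists_mul a
      rw [← hj x hx, hk, pow_mul, ha, one_pow, mul_one]
    refine Subtype.ext (Subtype.ext (MulEquiv.ext fun x => Subtype.ext ?_))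
    show (((b : D.autGroup Q) : MulAut Q) x : Ω) = x
    rw [hfe, hfix x x.2]
  let α : MulAut Q := Q.normalizerMonoidHom ⟨c, hcn⟩
  have hαe : ∀ x : Q, ((α x : Q) : Ω) = c * x * c⁻¹ := fun x => rfl
  have hαG : α ∈ D.autGroup Q := autInducedBy_le_autGroup hQR
    (mem_autInducedBy_iff.mpr ⟨c, hCR hcC, hcn, hαe⟩)
  have hαA : (⟨α, hαG⟩ : D.autGroup Q) ∈ A0 := fun x hx => Subtype.ext (by
    rw [hαe, ← Subgroup.mem_centralizer_iff.mp hcC.2 x (hQU ▸ ⟨x.2, hx⟩), mul_inv_cancel_right])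
  -- radicality of a conjugate
  obtain ⟨θ, hθ, hθl, hθr⟩ := hQ.symm
  obtain ⟨θh, hθh, hθhr, hθhe⟩ := id hθ
  have hmem : MulAut.congr (D.isoOf hθh hθhr) α ∈ Inn P := by
    rw [← hrad.2]
    exact Family.opAut_map hθh hθhr ⟨α, ⟨⟨α, hαG⟩, CfsgLib.le_pCore hA0 hαA, rfl⟩, rfl⟩
  obtain ⟨w, hw, -, hwe⟩ := mem_autInducedBy_iff.mp (inn_eq_autInducedBy P ▸ hmem)
  obtain ⟨w', hw', rfl⟩ := hθ.surj hw
  have hcQ' : ∀ x : Q, θ (c * x * c⁻¹) = θ (w' * x * w'⁻¹) := fun x => by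
    have h1 := hwe (D.isoOf hθh hθhr x)
    have h2 : (MulAut.congr (D.isoOf hθh hθhr) α) (D.isoOf hθh hθhr x) = D.isoOf hθh hθhr (α x) := by
      simp [MulAut.congr]
    rw [h2, coe_isoOf, coe_isoOf, hθhe, hθhe, hαe, ← hθ.apply_conj hw' x.2] at h1
    exact h1
  have hz : w'⁻¹ * c ∈ centralizerIn R Q := by
    refine ⟨R.mul_mem (R.inv_mem (hQR hw')) (hCR hcC), Subgroup.mem_centralizer_iff.mpr fun x hx => ?_⟩
    have h1 := hθ.inj ((Subgroup.mem_normalizer_iff.mp hcn x).mp hx)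
      (Q.mul_mem (Q.mul_mem hw' hx) (Q.inv_mem hw')) (hcQ' ⟨x, hx⟩)
    calc x * (w'⁻¹ * c) = w'⁻¹ * (w' * x * w'⁻¹) * c := by group
      _ = w'⁻¹ * c * x := by rw [← h1]; group
  have := Q.mul_mem hw' ((hP.of_isConj hQ.isConj).centralizerIn_le_self hz)
  rw [mul_inv_cancel_left] at this
  exact hcQ this

set_option maxHeartbeats 1000000 in
/-- Two such systems are contained in one another. -/
theorem Over.le (hc : Setup F p E) {D₁ D₂ : FusionSystem R} (hR : R ≤ S) (hHR : H ≤ R) (h₁ : Over F p E D₁)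
    (h₂ : Over F p E D₂) : D₁ ≤ D₂ := by
  haveI := hc.finT
  haveI := finite_of_le hR
  have hRp := hc.pgroup.to_le hR
  refine le_of_pprime hRp h₁.sat fun P h hP hh hper => ?_
  have hPR : P ≤ R := hh.le_left
  have hhF := hh.mono h₁.sub
  have hcen : E.IsCentric (P ⊓ H) := by
    rcases hP with hPR' | hess
    · rw [hPR', inf_eq_right.mpr hHR]; exact isCentric_self
    · exact h₁.centric_part hc hR hHR hess.1 (hess.isRadical hRp h₁.sat)
  have hhU : D₁.IsIso (P ⊓ H) (P ⊓ H) h :=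
    hh.restrict' inf_le_left (inter_image hc.closed hhF)
  have hgen : IsGen F p E P h := ⟨hhF, hper, fun x hx => h₁.hyp (hyp_mem_of_per hh hper hx), hcen,
    h₁.restr _ _ inf_le_right hhU (hper.mono inf_le_left)⟩
  have hUR : P ⊓ H ≤ R := inf_le_left.trans hPR
  obtain ⟨U2, hUU2, hU2⟩ := D₂.exists_isFullyNormalized hUR
  obtain ⟨φ, hφ, hφr, χ, hχ, hχN, hχe⟩ := h₂.sat.exists_map_to_fullyNormalized hRp hU2 hUU2
  obtain ⟨P2, hP2, -, -⟩ := (isIso_funOf hχ).restrict
    (fun x hx => ⟨hPR hx, (le_normalizer_inter hc (hPR.trans hR) hx).2⟩ : P ≤ normalizerIn R (P ⊓ H))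
  have hP2F := hP2.mono h₂.sub
  obtain ⟨k, hk, hke⟩ := hgen.transport hc hP2F
  have hP2H : P2 ⊓ H = U2 := Subgroup.ext fun y => by
    rw [inter_image hc.closed hP2F]
    constructor
    · rintro ⟨x, hx, rfl⟩
      rw [← funOf_apply χ ⟨x, le_normalizerIn hUR hx⟩, hχe ⟨x, hx⟩]
      exact hφr.le ⟨_, rfl⟩
    · intro hy
      obtain ⟨x, hx⟩ := hφr.ge hy
      exact ⟨x, x.2, by rw [← funOf_apply χ ⟨x, le_normalizerIn hUR x.2⟩, hχe x, hx]⟩
  have hkU : E.IsIso U2 U2 k := by have := hk.restr; rwa [hP2H] at this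
  have hU2P : U2 ≤ P2 := hP2H ▸ inf_le_left
  have hP2R : P2 ≤ R := hP2.le_right
  have hP2n : ∀ x ∈ P2, x ∈ Subgroup.normalizer (U2 : Set Ω) := fun x hx => by
    have := (le_normalizer_inter (T := H) hc (hP2R.trans hR) hx).2
    rwa [hP2H] at this
  have hCR : centralizerIn R U2 ≤ R := centralizerIn_le
  have hrec := h₂.sat.isReceptive_of_isFullyCentralized hRp
    (h₂.sat.isFullyCentralized_of_isFullyNormalized hRp hU2)
  have hkU2 : D₂.IsIso U2 U2 k := hkU.mono h₂.incl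
  obtain ⟨g0, V', hg0, hg0e⟩ := hrec.extend hkU2 (sup_le hP2R hCR) (hU2P.trans le_sup_left)
    (sup_le (fun x hx => hP2n x hx) fun x hx => Subgroup.centralizer_le_normalizer _ hx.2)
    (N := P2 ⊔ centralizerIn R U2) (by
      let K : Subgroup Ω :=
        { carrier := {v | v ∈ Subgroup.normalizer (U2 : Set Ω) ∧ ∃ r ∈ R, ∀ x ∈ U2, k (v * x * v⁻¹) = r * k x * r⁻¹}
          one_mem' := ⟨one_mem _, 1, R.one_mem, fun x _ => by simp⟩
          mul_mem' := by
            rintro v w ⟨hv, r, hr, hre⟩ ⟨hw, r', hr', hre'⟩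
            refine ⟨mul_mem hv hw, r * r', R.mul_mem hr hr', fun x hx => ?_⟩
            rw [show v * w * x * (v * w)⁻¹ = v * (w * x * w⁻¹) * v⁻¹ by group,
              hre _ ((Subgroup.mem_normalizer_iff.mp hw x).mp hx), hre' x hx]
            group
          inv_mem' := by
            rintro v ⟨hv, r, hr, hre⟩
            refine ⟨InvMemClass.inv_mem hv, r⁻¹, R.inv_mem hr, fun x hx => ?_⟩
            have hx' : v⁻¹ * x * v ∈ U2 := (Subgroup.mem_normalizer_iff''.mp hv x).mp hx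
            have h3 := hre _ hx'
            rw [show v * (v⁻¹ * x * v) * v⁻¹ = x by group] at h3
            rw [inv_inv, h3]
            group }
      have hle : P2 ⊔ centralizerIn R U2 ≤ K := sup_le
        (fun v hv => ⟨hP2n v hv, k v, hP2R (hk.iso.mem hv), fun x hx => hk.iso.apply_conj hv (hU2P hx)⟩)
        (fun v hv => ⟨Subgroup.centralizer_le_normalizer _ hv.2, 1, R.one_mem, fun x hx => by
          rw [← Subgroup.mem_centralizer_iff.mp hv.2 x hx, mul_inv_cancel_right]; simp⟩)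
      exact fun v hv => (hle hv).2)
  set V := P2 ⊔ centralizerIn R U2
  have hU2V : U2 ≤ V := hU2P.trans le_sup_left
  have hU2img : ∀ y, y ∈ U2 ↔ ∃ x ∈ U2, g0 x = y :=
    image_self hg0 hU2V fun x hx => by rw [hg0e x hx]; exact hkU.mem hx
  have hg0V : ∀ v ∈ V, g0 v ∈ V := by
    obtain ⟨V0, hV0, -, hV0m⟩ := hg0.restrict (le_refl V)
    suffices h : V0 ≤ V from fun v hv => h ((hV0m _).mpr ⟨v, hv, rfl⟩)
    obtain ⟨φ', hφ', hr', he'⟩ := hV0
    rw [← hr', MonoidHom.range_eq_map, ← Subgroup.subgroupOf_self V,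
      Subgroup.subgroupOf_sup le_sup_left le_sup_right, Subgroup.map_sup]
    refine sup_le ?_ ?_
    · rintro _ ⟨y, hy, rfl⟩
      rw [he']
      replace hy : (y : Ω) ∈ P2 := hy
      show g0 (y : Ω) ∈ V
      have hyV : (y : Ω) ∈ V := y.2
      have hd : (k y)⁻¹ * g0 y ∈ centralizerIn R U2 := by
        refine ⟨R.mul_mem (R.inv_mem (hP2R (hk.iso.mem hy))) (hg0.le_right (hg0.mem hyV)),
          Subgroup.mem_centralizer_iff.mpr fun z hz => ?_⟩
        obtain ⟨x, hx, rfl⟩ := hkU.surj hz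
        have hyx : (y : Ω) * x * (y : Ω)⁻¹ ∈ U2 := (Subgroup.mem_normalizer_iff.mp (hP2n y hy) x).mp hx
        have h3 := hg0e _ hyx
        rw [hg0.apply_conj hyV (hU2V hx), hk.iso.apply_conj hy (hU2P hx), hg0e x hx] at h3
        calc k x * ((k y)⁻¹ * g0 y) = (k y)⁻¹ * (k y * k x * (k y)⁻¹) * g0 y := by group
          _ = (k y)⁻¹ * g0 y * k x := by rw [← h3]; group
      have := V.mul_mem (Subgroup.mem_sup_left (hk.iso.mem hy)) (Subgroup.mem_sup_right hd)
      rwa [mul_inv_cancel_left] at this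
    · rintro _ ⟨y, hy, rfl⟩
      rw [he']
      exact Subgroup.mem_sup_right (map_centralizer hg0 hU2V hU2img hy y.2)
  have hg0' : D₂.IsIso V V g0 := isIso_self hg0 le_rfl hg0V
  obtain ⟨m, hm, hmp⟩ := hk.per.mono hU2P
  obtain ⟨j, hjA, n, hn, hnper⟩ := CoreCent.exists_iterate_pprime (A := U2) hg0' hm fun x hx => by
    rw [(iterate_congr (fun y hy => hkU.mem hy) hg0e m hx).1, hmp x hx]
  have hg : D₂.IsIso V V g0^[j] := iterate_isIso hg0' j
  have hperV : PerPrime p V g0^[j] := ⟨n, hn, hnper⟩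
  have hgU : ∀ x ∈ U2, g0^[j] x = k x := fun x hx => (hjA x hx).trans (hg0e x hx)
  have htriv : ∀ v ∈ V, v⁻¹ * g0^[j] v ∈ H := fun v hv => h₂.hyp (hyp_mem_of_per hg hperV hv)
  have hkc : E.IsCentric U2 := hP2H ▸ hk.centric
  have hgP : ∀ y ∈ P2, g0^[j] y ∈ P2 := by
    intro y hy
    have hyV : y ∈ V := Subgroup.mem_sup_left hy
    have hd : (k y)⁻¹ * g0^[j] y ∈ centralizerIn H U2 := by
      refine ⟨?_, Subgroup.mem_centralizer_iff.mpr fun z hz => ?_⟩
      · have h3 := H.mul_mem (H.inv_mem (hk.triv y hy)) (htriv y hyV)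
        rwa [show (y⁻¹ * k y)⁻¹ * (y⁻¹ * g0^[j] y) = (k y)⁻¹ * g0^[j] y by group] at h3
      · obtain ⟨x, hx, rfl⟩ := hkU.surj hz
        have hyx : y * x * y⁻¹ ∈ U2 := (Subgroup.mem_normalizer_iff.mp (hP2n y hy) x).mp hx
        have h3 := hgU _ hyx
        rw [hg.apply_conj hyV (hU2V hx), hk.iso.apply_conj hy (hU2P hx), hgU x hx] at h3
        calc k x * ((k y)⁻¹ * g0^[j] y) = (k y)⁻¹ * (k y * k x * (k y)⁻¹) * g0^[j] y := by group
          _ = (k y)⁻¹ * g0^[j] y * k x := by rw [← h3]; group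
    have := P2.mul_mem (hk.iso.mem hy) (hU2P (hkc.centralizerIn_le_self hd))
    rwa [mul_inv_cancel_left] at this
  have hgP2 : D₂.IsIso P2 P2 g0^[j] := isIso_self hg le_sup_left hgP
  have hgU' : E.IsIso (P2 ⊓ H) (P2 ⊓ H) g0^[j] := by rw [hP2H]; exact hkU.congr hgU
  obtain ⟨a, ha, -, hae⟩ := gen_eq hc hk ⟨hgP2.mono h₂.sub, hperV.mono le_sup_left,
    fun x hx => htriv x (Subgroup.mem_sup_left hx), hk.centric, hgU'⟩ fun x hx => by
    rw [hP2H] at hx; exact (hgU x hx).symm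
  have hk2 : D₂.IsIso P2 P2 k := (hgP2.comp (isIso_conj_normalizer hP2R (hP2R ha.1)
    (Subgroup.le_normalizer ha.1))).congr fun x hx => hae x hx
  obtain ⟨χi, hχi, hχl, -⟩ := hP2.symm
  refine ((hP2.comp hk2).comp hχi).congr fun x hx => ?_
  show h x = χi (k (funOf χ x))
  rw [hke x hx, hχl _ (hh.mem hx)]

end Cfsg.FusionSystem.Product
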